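import Cfsg.Agent.Lib.QuadPair.Restrict
import Cfsg.Agent.Lib.RootSub.Perfect
import Cfsg.Agent.Lib.Components.Quasisimple

/-!
The connected components of `𝓕(Σ)` of a quadratic pair generate pairwise commuting quasisimple
groups; there are finitely many. The kernel of the action on classes of equal centralizers meets
each class group in a unipotent group, which irreducibility kills.
-/

set_option autoImplicit false
set_option linter.unusedSectionVars false

universe u v

namespace Cfsg.Agent.QuadPair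

open Cfsg
open scoped commutatorElement

variable {k : Type u} [Field k] {M : Type v} [AddCommGroup M] [Module k M] [FiniteDimensional k M]
variable {G : Subgroup (LinearMap.GeneralLinearGroup k M)}

/-- An invariant unipotent subgroup of an irreducible group is trivial. -/
theorem eq_bot_of_unipotent_invariant (hirr : IsIrreducibleFor G)
    {U : Subgroup (LinearMap.GeneralLinearGroup k M)} (hu : IsUnipotentOn U)
    (hinvU : ∀ g ∈ G, conjBy U g ≤ U) : U = ⊥ := by
  classical
  obtain ⟨n, hn⟩ := (RootSubgroups.UnipotentJoin.isUnipotentOn_iff U).1 hu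
  have hex : ∃ n, RootSubgroups.UnipotentJoin.disp U ^ n = ⊥ := ⟨n, hn⟩
  obtain ⟨n0, hn0⟩ : ∃ n0, Nat.find hex = n0 + 1 := by
    refine ⟨Nat.find hex - 1, (Nat.succ_pred_eq_of_ne_zero fun h0 => ?_).symm⟩
    have h1 := Nat.find_spec hex
    rw [h0, pow_zero] at h1
    have h3 : (1 : Module.End k M) ∈ (⊥ : Submodule k (Module.End k M)) :=
      h1 ▸ Submodule.one_le.1 le_rfl
    obtain ⟨m, hm⟩ := hirr.1
    exact hm (DFunLike.congr_fun ((Submodule.mem_bot k).1 h3) m)
  have hz := Nat.find_spec hex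
  rw [hn0, pow_succ'] at hz
  obtain ⟨p, hp, hp0⟩ := Submodule.exists_mem_ne_zero_of_ne_bot
    (Nat.find_min hex (show n0 < Nat.find hex by omega))
  obtain ⟨m, hm⟩ : ∃ m, p m ≠ 0 := by
    by_contra h
    push Not at h
    exact hp0 (LinearMap.ext h)
  let F : Submodule k M := fixedSubmodule U
  have hmemF : ∀ v, v ∈ F ↔ ∀ g ∈ U, ((g : LinearMap.GeneralLinearGroup k M) : Module.End k M) v = v :=
    fun v => by simp [F, fixedSubmodule, sub_eq_zero]
  have hpF : p m ∈ F := (hmemF _).2 fun g hg => by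
    have h1 := Submodule.mul_mem_mul (RootSubgroups.UnipotentJoin.mem_disp hg) hp
    rw [hz, Submodule.mem_bot] at h1
    exact sub_eq_zero.1 (DFunLike.congr_fun h1 m)
  have hinv : ∀ g ∈ G, ∀ w ∈ F, (g : M →ₗ[k] M) w ∈ F := by
    intro g hg w hw
    refine (hmemF _).2 fun h hh => ?_
    have hh' : g⁻¹ * h * g ∈ U := hinvU g⁻¹ (G.inv_mem hg) ⟨h, hh, by simp⟩
    have h1 := congrArg (g : Module.End k M) ((hmemF w).1 hw _ hh')
    rw [← Module.End.mul_apply, ← Units.val_mul, ← mul_assoc, ← mul_assoc, mul_inv_cancel,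
      one_mul, Units.val_mul, Module.End.mul_apply] at h1
    exact h1
  rcases hirr.2 F hinv with hb | ht
  · exact absurd ((Submodule.mem_bot k).1 (hb ▸ hpF)) hm
  · refine (Subgroup.eq_bot_iff_forall U).2 fun g hg => Units.ext (LinearMap.ext fun v => ?_)
    exact (hmemF v).1 (ht ▸ Submodule.mem_top) _ hg

section sigma

variable (hgen : GenProp k) (hk2 : ringChar k ≠ 2) (hk3 : Nat.card k ≠ 3)
  (hirr : IsIrreducibleFor G)

theorem sigma_le_G {A : Subgroup (LinearMap.GeneralLinearGroup k M)}
    (hA : A ∈ quadraticRootSubgroups G) : A ≤ G := by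
  obtain ⟨a, -, hAm⟩ := exists_of_mem_quadraticRootSubgroups hA
  exact le_G hAm

theorem g0_le_G : ⨆ B ∈ quadraticRootSubgroups G, B ≤ G := iSup₂_le fun _ hA => sigma_le_G hA

theorem sigma_ne_bot {A : Subgroup (LinearMap.GeneralLinearGroup k M)}
    (hA : A ∈ quadraticRootSubgroups G) : A ≠ ⊥ := by
  obtain ⟨a, ha, hAm⟩ := exists_of_mem_quadraticRootSubgroups hA
  intro h0
  have hm := onePlus_mem_of_vsp hAm ha.self_mem_vsp
  rw [h0, Subgroup.mem_bot] at hm
  have := congrArg (fun g : LinearMap.GeneralLinearGroup k M => (g : Module.End k M)) hm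
  simp only [coe_onePlus, Units.val_one, add_eq_left] at this
  exact ha.ne this

theorem sigma_comm {A : Subgroup (LinearMap.GeneralLinearGroup k M)}
    (hA : A ∈ quadraticRootSubgroups G) : ∀ x ∈ A, ∀ y ∈ A, x * y = y * x := by
  obtain ⟨a, -, hAm⟩ := exists_of_mem_quadraticRootSubgroups hA
  exact fun x hx y hy => IsRootOf.commute hAm hx hy

theorem sigma_large (hk2 : ringChar k ≠ 2) (hk3 : Nat.card k ≠ 3)
    {A : Subgroup (LinearMap.GeneralLinearGroup k M)} (hA : A ∈ quadraticRootSubgroups G) :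
    3 < ENat.card A := by
  obtain ⟨a, ha, hAm⟩ := exists_of_mem_quadraticRootSubgroups hA
  have h4 : 4 ≤ ENat.card k := by
    rcases finite_or_infinite k with hk | hk
    · have := Fintype.ofFinite k
      rw [ENat.card_eq_coe_fintype_card]
      have h0 : 2 ≤ Fintype.card k := Fintype.one_lt_card
      have h3 : Fintype.card k ≠ 3 := by rwa [← Nat.card_eq_fintype_card]
      have hc2 : Fintype.card k ≠ 2 := by
        intro hc
        apply two_ne_zero_of_ringChar hk2
        have := Nat.cast_card_eq_zero k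
        rw [hc] at this
        exact_mod_cast this
      exact_mod_cast (show 4 ≤ Fintype.card k by omega)
    · rw [ENat.card_eq_top_of_infinite]; exact le_top
  refine lt_of_lt_of_le (by norm_num) (h4.trans (ENat.card_le_card_of_injective
    (f := fun c : k => (⟨_, onePlus_mem_of_vsp hAm ((vsp G a).smul_mem c ha.self_mem_vsp)⟩ : A))
    fun c d h => ?_))
  have h1 := congrArg (fun g : A => ((g : LinearMap.GeneralLinearGroup k M) : Module.End k M)) h
  simp only [coe_onePlus, add_right_inj] at h1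
  exact smul_left_injective k ha.ne h1

/-- The component of `A`. -/
def comp (G A : Subgroup (LinearMap.GeneralLinearGroup k M)) :
    Set (Subgroup (LinearMap.GeneralLinearGroup k M)) :=
  componentOf (FAdj (quadraticRootSubgroups G)) (quadraticRootSubgroups G) A

include hgen hk2 hk3 hirr

theorem sigma_partner {A : Subgroup (LinearMap.GeneralLinearGroup k M)}
    (hA : A ∈ quadraticRootSubgroups G) :
    ∃ P ∈ quadraticRootSubgroups G, IsRankOnePair A P := by
  obtain ⟨g, -, hB, hAB⟩ := exists_rankOne_partner hgen hk2 hk3 hirr hA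
  exact ⟨_, hB, hAB⟩

theorem sigma_special {A B : Subgroup (LinearMap.GeneralLinearGroup k M)}
    (hA : A ∈ quadraticRootSubgroups G) (hB : B ∈ quadraticRootSubgroups G)
    (h : IsRankOnePair A B) : IsSpecialRankOnePair A B := by
  obtain ⟨a, ha, hAm⟩ := exists_of_mem_quadraticRootSubgroups hA
  obtain ⟨b, hb, hBm⟩ := exists_of_mem_quadraticRootSubgroups hB
  exact isSpecialRankOnePair_of_opp hgen hk2 hk3 ha hb
    (opp_of_isRankOnePair hgen hk2 hk3 hirr ha hb hAm hBm h) hAm hBm

theorem sigma_rootSet : IsRootSubgroupSet (restrictSet (quadraticRootSubgroups G)) :=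
  isRootSubgroupSet_restrict (fun _ hA => sigma_comm hA) (fun _ hA => sigma_ne_bot hA)
    (fun _ hA _ hg => conjBy_mem_quadraticRootSubgroups hA (g0_le_G hg))
    (fun _ hA _ hB => sigma_pair hgen hk2 hk3 hirr hA hB)

/-- The component is invariant under `G₀`. -/
theorem reach_conj {A : Subgroup (LinearMap.GeneralLinearGroup k M)}
    (hA : A ∈ quadraticRootSubgroups G) {g : LinearMap.GeneralLinearGroup k M}
    (hg : g ∈ ⨆ B ∈ quadraticRootSubgroups G, B) :
    Relation.ReflTransGen (FAdj (quadraticRootSubgroups G)) A (conjBy A g) := by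
  obtain ⟨P, hP, hr⟩ := sigma_partner hgen hk2 hk3 hirr hA
  have := map_fReach (RootSub.fReach_conj_self (sigma_rootSet hgen hk2 hk3 hirr)
    (mem_restrictSet hA) (mem_restrictSet hP) ((restrict_rankOne hA hP).2 hr) ⟨g, hg⟩)
  rwa [RootSub.map_conjBy, map_restrict hA] at this

theorem reach_commutator {A B : Subgroup (LinearMap.GeneralLinearGroup k M)}
    (hA : A ∈ quadraticRootSubgroups G) (hB : B ∈ quadraticRootSubgroups G)
    (h' : RootCommutatorCase (quadraticRootSubgroups G) A B) :
    Relation.ReflTransGen (FAdj (quadraticRootSubgroups G)) A ⁅A, B⁆ := by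
  have hS := sigma_rootSet hgen hk2 hk3 hirr
  obtain ⟨P, hP, hr⟩ := sigma_partner hgen hk2 hk3 hirr hA
  obtain ⟨R, hR, hr'⟩ := sigma_partner hgen hk2 hk3 hirr h'.1
  have hA0 := mem_restrictSet hA
  have hB0 := mem_restrictSet hB
  have hC := restrict_commCase hA hB h'
  have hr2 : IsRankOnePair ⁅A.subgroupOf (⨆ B ∈ quadraticRootSubgroups G, B),
      B.subgroupOf (⨆ B ∈ quadraticRootSubgroups G, B)⁆
      (R.subgroupOf (⨆ B ∈ quadraticRootSubgroups G, B)) := by
    refine isRankOnePair_of_map (Subgroup.subtype_injective _) ?_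
    rwa [Subgroup.map_commutator, map_restrict hA, map_restrict hB, map_restrict hR]
  have := map_fReach (RootSub.fReach_of_linePartner hS hA0
    (RootSub.commutator_line_partner hS hA0 (mem_restrictSet hP) ((restrict_rankOne hA hP).2 hr) hC)
    (mem_restrictSet hP) ((restrict_rankOne hA hP).2 hr) (mem_restrictSet hR) hr2)
  rwa [Subgroup.map_commutator, map_restrict hA, map_restrict hB] at this

/-- Members that do not commute lie in one component. -/
theorem reach_of_not_commute {A B : Subgroup (LinearMap.GeneralLinearGroup k M)}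
    (hA : A ∈ quadraticRootSubgroups G) (hB : B ∈ quadraticRootSubgroups G) (h : ⁅A, B⁆ ≠ ⊥) :
    Relation.ReflTransGen (FAdj (quadraticRootSubgroups G)) A B := by
  rcases sigma_pair hgen hk2 hk3 hirr hA hB with h' | h' | h'
  · exact absurd h' h
  · exact .single ⟨hA, hB, h'⟩
  · refine (reach_commutator hgen hk2 hk3 hirr hA hB h').trans (RootSub.fReach_symm ?_)
    have h1 := reach_commutator hgen hk2 hk3 hirr hB hA (RootSub.commCase_symm h')
    rwa [Subgroup.commutator_comm] at h1

theorem comp_commute {A B C D : Subgroup (LinearMap.GeneralLinearGroup k M)}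
    (hC : C ∈ comp G A) (hD : D ∈ comp G B) (hne : comp G A ≠ comp G B) : ⁅C, D⁆ = ⊥ := by
  by_contra h
  exact hne ((RootSub.component_eq_of_fReach hC.2).trans ((RootSub.component_eq_of_fReach
    (reach_of_not_commute hgen hk2 hk3 hirr hC.1 hD.1 h)).trans
      (RootSub.component_eq_of_fReach hD.2).symm))

omit hgen hk2 hk3 hirr in
theorem comp_self {A : Subgroup (LinearMap.GeneralLinearGroup k M)}
    (hA : A ∈ quadraticRootSubgroups G) : A ∈ comp G A := ⟨hA, .refl⟩

omit hgen hk2 hk3 hirr in
theorem comp_le {A : Subgroup (LinearMap.GeneralLinearGroup k M)} :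
    ⨆ B ∈ comp G A, B ≤ ⨆ B ∈ quadraticRootSubgroups G, B :=
  iSup₂_le fun _ hB => le_iSup_mem hB.1

theorem comp_rootSet {A : Subgroup (LinearMap.GeneralLinearGroup k M)} :
    IsRootSubgroupSet (restrictSet (comp G A)) := by
  refine isRootSubgroupSet_restrict (fun _ hB => sigma_comm hB.1) (fun _ hB => sigma_ne_bot hB.1)
    (fun B hB g hg => ⟨conjBy_mem_quadraticRootSubgroups hB.1 (g0_le_G (comp_le hg)),
      hB.2.trans (reach_conj hgen hk2 hk3 hirr hB.1 (comp_le hg))⟩) fun B hB C hC => ?_
  rcases sigma_pair hgen hk2 hk3 hirr hB.1 hC.1 with h | h | h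
  · exact Or.inl h
  · exact Or.inr (Or.inl h)
  · refine Or.inr (Or.inr ⟨⟨h.1, hB.2.trans ?_⟩, h.2⟩)
    exact reach_commutator hgen hk2 hk3 hirr hB.1 hC.1 h

theorem comp_connected {A : Subgroup (LinearMap.GeneralLinearGroup k M)} :
    IsConnectedFamily (FAdj (restrictSet (comp G A))) (restrictSet (comp G A)) := by
  have key : ∀ {B}, Relation.ReflTransGen (FAdj (quadraticRootSubgroups G)) A B →
      A ∈ quadraticRootSubgroups G →
      Relation.ReflTransGen (FAdj (restrictSet (comp G A)))
        (A.subgroupOf (⨆ C ∈ comp G A, C)) (B.subgroupOf (⨆ C ∈ comp G A, C)) := by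
    intro B h hA
    induction h with
    | refl => exact .refl
    | @tail C D hAC hCD ih =>
      refine ih.tail ⟨mem_restrictSet ⟨hCD.1, hAC⟩, mem_restrictSet ⟨hCD.2.1, hAC.tail hCD⟩,
        (restrict_rankOne (S := comp G A) ⟨hCD.1, hAC⟩ ⟨hCD.2.1, hAC.tail hCD⟩).2 hCD.2.2⟩
  rintro _ ⟨B, hB, rfl⟩ _ ⟨C, hC, rfl⟩
  have hA : A ∈ quadraticRootSubgroups G := by
    rcases Relation.ReflTransGen.cases_head hB.2 with rfl | ⟨D, hD, -⟩
    · exact hB.1
    · exact hD.1
  exact (RootSub.fReach_symm (key hB.2 hA)).trans (key hC.2 hA)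

theorem comp_quasiData {A : Subgroup (LinearMap.GeneralLinearGroup k M)}
    (hA : A ∈ quadraticRootSubgroups G) : RootSub.QuasiData (restrictSet (comp G A)) := by
  obtain ⟨P, hP, hr⟩ := sigma_partner hgen hk2 hk3 hirr hA
  have hPc : P ∈ comp G A := ⟨hP, .single ⟨hA, hP, hr⟩⟩
  refine ⟨comp_rootSet hgen hk2 hk3 hirr, comp_connected hgen hk2 hk3 hirr,
    ⟨_, mem_restrictSet (comp_self hA), _, mem_restrictSet hPc, fun e => hr.ne ?_⟩, fun _ => ?_, ?_⟩
  · have := congrArg (Subgroup.map (⨆ C ∈ comp G A, C).subtype) e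
    rwa [map_restrict (comp_self hA), map_restrict hPc] at this
  · rintro _ ⟨B, hB, rfl⟩
    have h3 := sigma_large hk2 hk3 hB.1
    rwa [ENat.card_congr (Subgroup.subgroupOfEquivOfLe (le_iSup_mem hB)).toEquiv]
  · rintro _ ⟨B, hB, rfl⟩ _ ⟨⟨C, hC, rfl⟩, hr'⟩
    refine ⟨hr', fun b hb hb1 c hc hc1 e => Subtype.ext ?_⟩
    refine (sigma_special hgen hk2 hk3 hirr hB.1 hC.1 ((restrict_rankOne hB hC).1 hr')).2 b.1 hb
      (fun h => hb1 (Subtype.ext h)) c.1 hc (fun h => hc1 (Subtype.ext h)) ?_
    have := congrArg (Subgroup.map (⨆ C ∈ comp G A, C).subtype) e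
    rwa [RootSub.map_conjBy, RootSub.map_conjBy, map_restrict hB, map_restrict hC] at this

omit hgen hk2 hk3 hirr in
/-- `A`, `C` have the same commuting members. -/
def Same (G A C : Subgroup (LinearMap.GeneralLinearGroup k M)) : Prop :=
  ∀ B ∈ quadraticRootSubgroups G, ⁅B, A⁆ = ⊥ ↔ ⁅B, C⁆ = ⊥

omit hgen hk2 hk3 hirr in
theorem same_conj {A C : Subgroup (LinearMap.GeneralLinearGroup k M)} (h : Same G A C)
    {g : LinearMap.GeneralLinearGroup k M} (hg : g ∈ G) : Same G (conjBy A g) (conjBy C g) := by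
  intro B hB
  have e : ∀ X : Subgroup (LinearMap.GeneralLinearGroup k M),
      ⁅B, conjBy X g⁆ = ⊥ ↔ ⁅conjBy B g⁻¹, X⁆ = ⊥ := by
    intro X
    rw [← RootSub.conjBy_eq_bot_iff (A := ⁅conjBy B g⁻¹, X⁆) (g := g),
      RootSub.conjBy_commutator, RootSub.conjBy_conjBy, mul_inv_cancel, RootSub.conjBy_one]
  rw [e, e]
  exact h _ (conjBy_mem_quadraticRootSubgroups hB (G.inv_mem hg))

/-- The abelian group generated by the class of `A`. -/
def classGroup (G A : Subgroup (LinearMap.GeneralLinearGroup k M)) :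
    Subgroup (LinearMap.GeneralLinearGroup k M) :=
  ⨆ C ∈ {C | C ∈ quadraticRootSubgroups G ∧ Same G C A}, C

omit hgen hk2 hk3 hirr in
theorem classGroup_conj_le {A : Subgroup (LinearMap.GeneralLinearGroup k M)}
    {g : LinearMap.GeneralLinearGroup k M} (hg : g ∈ G) :
    conjBy (classGroup G A) g ≤ classGroup G (conjBy A g) := by
  rw [conjBy, classGroup, Subgroup.map_iSup]
  refine iSup_le fun C => ?_
  rw [Subgroup.map_iSup]
  exact iSup_le fun hC => le_iSup_mem
    (S := {D | D ∈ quadraticRootSubgroups G ∧ Same G D (conjBy A g)})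
    ⟨conjBy_mem_quadraticRootSubgroups hC.1 hg, same_conj hC.2 hg⟩

omit hgen hk2 hk3 hirr in
theorem classGroup_congr {A B : Subgroup (LinearMap.GeneralLinearGroup k M)} (h : Same G A B) :
    classGroup G A = classGroup G B := by
  have e : {C | C ∈ quadraticRootSubgroups G ∧ Same G C A} =
      {C | C ∈ quadraticRootSubgroups G ∧ Same G C B} :=
    Set.ext fun C => ⟨fun hC => ⟨hC.1, fun X hX => (hC.2 X hX).trans (h X hX)⟩,
      fun hC => ⟨hC.1, fun X hX => (hC.2 X hX).trans (h X hX).symm⟩⟩
  rw [classGroup, classGroup, e]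

omit hgen hk2 hk3 hirr in
/-- The kernel of `G₀` on the classes. -/
def classKer (G : Subgroup (LinearMap.GeneralLinearGroup k M)) :
    Subgroup (LinearMap.GeneralLinearGroup k M) where
  carrier := {g | g ∈ ⨆ B ∈ quadraticRootSubgroups G, B ∧
    ∀ A ∈ quadraticRootSubgroups G, Same G (conjBy A g) A}
  one_mem' := ⟨one_mem _, fun A _ B _ => by rw [RootSub.conjBy_one]⟩
  mul_mem' := by
    rintro g h ⟨hg, hg'⟩ ⟨hh, hh'⟩
    refine ⟨mul_mem hg hh, fun A hA B hB => ?_⟩
    rw [← RootSub.conjBy_conjBy]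
    exact (hg' _ (conjBy_mem_quadraticRootSubgroups hA (g0_le_G hh)) B hB).trans (hh' A hA B hB)
  inv_mem' := by
    rintro g ⟨hg, hg'⟩
    refine ⟨inv_mem hg, fun A hA B hB => ?_⟩
    have := hg' _ (conjBy_mem_quadraticRootSubgroups hA (G.inv_mem (g0_le_G hg))) B hB
    rw [RootSub.conjBy_conjBy, mul_inv_cancel, RootSub.conjBy_one] at this
    exact this.symm

omit hgen hk2 hk3 hirr in
theorem g0_conj {x : LinearMap.GeneralLinearGroup k M} (hx : x ∈ G)
    {g : LinearMap.GeneralLinearGroup k M} (hg : g ∈ ⨆ B ∈ quadraticRootSubgroups G, B) :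
    x * g * x⁻¹ ∈ ⨆ B ∈ quadraticRootSubgroups G, B := by
  have h : conjBy (⨆ B ∈ quadraticRootSubgroups G, B) x ≤ ⨆ B ∈ quadraticRootSubgroups G, B := by
    rw [conjBy, Subgroup.map_iSup]
    refine iSup_le fun C => ?_
    rw [Subgroup.map_iSup]
    exact iSup_le fun hC => le_iSup_mem (conjBy_mem_quadraticRootSubgroups hC hx)
  exact h ⟨g, hg, rfl⟩

omit hgen hk2 hk3 hirr in
theorem classKer_conj {x : LinearMap.GeneralLinearGroup k M} (hx : x ∈ G) :
    conjBy (classKer G) x ≤ classKer G := by
  rintro _ ⟨g, ⟨hg, hg'⟩, rfl⟩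
  refine ⟨g0_conj hx hg, fun A hA => ?_⟩
  have hA' := conjBy_mem_quadraticRootSubgroups hA (G.inv_mem hx)
  have := same_conj (hg' _ hA') hx
  rwa [RootSub.conjBy_conjBy, RootSub.conjBy_conjBy, RootSub.conjBy_conjBy, mul_inv_cancel,
    RootSub.conjBy_one] at this

omit hgen hk2 hk3 in
/-- The kernel on classes meets each class group trivially. -/
theorem classKer_inf (A : Subgroup (LinearMap.GeneralLinearGroup k M))
    (hA : A ∈ quadraticRootSubgroups G) : classKer G ⊓ classGroup G A = ⊥ := by
  set W : Set (Subgroup (LinearMap.GeneralLinearGroup k M)) :=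
    {V | ∃ A ∈ quadraticRootSubgroups G, V = classKer G ⊓ classGroup G A} with hW
  have hU : ∀ A, IsUnipotentOn (classGroup G A) := by
    intro A
    have hcomm : ∀ C ∈ {C | C ∈ quadraticRootSubgroups G ∧ Same G C A},
        ∀ D ∈ {C | C ∈ quadraticRootSubgroups G ∧ Same G C A},
        D ≤ Subgroup.centralizer (C : Set (LinearMap.GeneralLinearGroup k M)) := by
      intro C hC D hD
      refine Subgroup.commutator_eq_bot_iff_le_centralizer.1 ((hC.2 D hD.1).2 ((hD.2 D hD.1).1 ?_))
      exact RootSub.commutator_eq_bot_iff_commute.2 (sigma_comm hD.1)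
    refine RootSubgroups.UnipotentJoin.isUnipotentOn_iSup (G := classGroup G A)
      (fun C hC => le_iSup_mem hC) (fun C hC D hD => ?_) fun C hC g hg => ?_
    · obtain ⟨c, -, hCm⟩ := exists_of_mem_quadraticRootSubgroups hC.1
      obtain ⟨d, -, hDm⟩ := exists_of_mem_quadraticRootSubgroups hD.1
      exact RootSubgroups.UnipotentJoin.isUnipotentOn_sup (IsRootOf.isUnipotentOn hCm)
        (IsRootOf.isUnipotentOn hDm) ((hcomm C hC D hD).trans (Subgroup.centralizer_le_normalizer _))
    · have hle : classGroup G A ≤ Subgroup.normalizer (C : Set (LinearMap.GeneralLinearGroup k M)) :=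
        iSup₂_le fun D hD => (hcomm C hC D hD).trans (Subgroup.centralizer_le_normalizer _)
      rw [RootSub.conjBy_eq_self_iff.2 (hle hg)]
      exact hC
  have hWG : ∀ V ∈ W, V ≤ G := by
    rintro _ ⟨B, -, rfl⟩ g hg
    exact g0_le_G hg.1.1
  have hWW : ∀ V ∈ W, ∀ V' ∈ W, IsUnipotentOn (V ⊔ V') := by
    rintro _ ⟨B, hB, rfl⟩ _ ⟨C, hC, rfl⟩
    refine RootSubgroups.UnipotentJoin.isUnipotentOn_sup
      (RootSubgroups.UnipotentJoin.isUnipotentOn_mono inf_le_right (hU B))
      (RootSubgroups.UnipotentJoin.isUnipotentOn_mono inf_le_right (hU C)) fun n hn => ?_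
    have hle : ∀ m ∈ classKer G,
        conjBy (classKer G ⊓ classGroup G B) m ≤ classKer G ⊓ classGroup G B := by
      intro m hm
      rw [RootSub.conjBy_inf]
      refine inf_le_inf (classKer_conj (g0_le_G hm.1)) ?_
      refine (classGroup_conj_le (g0_le_G hm.1)).trans (le_of_eq ?_)
      exact classGroup_congr (hm.2 B hB)
    refine RootSub.conjBy_eq_self_iff.1 (le_antisymm (hle n hn.1) ?_)
    have := (RootSub.conjBy_le_conjBy (g := n)).2 (hle n⁻¹ (inv_mem hn.1))
    rwa [RootSub.conjBy_conjBy, mul_inv_cancel, RootSub.conjBy_one] at this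
  have hWconj : ∀ V ∈ W, ∀ g ∈ G, conjBy V g ∈ W := by
    rintro _ ⟨B, hB, rfl⟩ g hg
    have h1 : ∀ B g, g ∈ G → conjBy (classKer G ⊓ classGroup G B) g ≤
        classKer G ⊓ classGroup G (conjBy B g) := fun B g hg => by
      rw [RootSub.conjBy_inf]
      exact inf_le_inf (classKer_conj hg) (classGroup_conj_le hg)
    refine ⟨_, conjBy_mem_quadraticRootSubgroups hB hg, le_antisymm (h1 B g hg) ?_⟩
    have h3 := (RootSub.conjBy_le_conjBy (g := g)).2 (h1 (conjBy B g) g⁻¹ (G.inv_mem hg))
    rwa [RootSub.conjBy_conjBy, mul_inv_cancel, RootSub.conjBy_one, RootSub.conjBy_conjBy,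
      inv_mul_cancel, RootSub.conjBy_one] at h3
  have hbot := eq_bot_of_unipotent_invariant hirr
    (RootSubgroups.UnipotentJoin.isUnipotentOn_iSup hWG hWW hWconj)
    (fun g hg => (RootSubgroups.UnipotentJoin.conjBy_iSup hWconj hg).le)
  exact le_bot_iff.1 (hbot ▸ le_iSup_mem (S := W) ⟨A, hA, rfl⟩)

omit hgen hk2 hk3 in
theorem classKer_commute {n : LinearMap.GeneralLinearGroup k M} (hn : n ∈ classKer G)
    {A : Subgroup (LinearMap.GeneralLinearGroup k M)} (hA : A ∈ quadraticRootSubgroups G)
    {e : LinearMap.GeneralLinearGroup k M} (he : e ∈ A) : e * n = n * e := by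
  have hU : ∀ C, C ∈ quadraticRootSubgroups G → Same G C A → C ≤ classGroup G A := fun C h1 h3 =>
    le_iSup_mem (S := {C | C ∈ quadraticRootSubgroups G ∧ Same G C A}) ⟨h1, h3⟩
  have h1 : n * e * n⁻¹ * e⁻¹ ∈ classKer G ⊓ classGroup G A := by
    refine Subgroup.mem_inf.2 ⟨?_, mul_mem (hU _ (conjBy_mem_quadraticRootSubgroups hA (g0_le_G hn.1)) (hn.2 A hA)
      (RootSub.conj_mem_conjBy he)) (inv_mem (hU A hA (fun _ _ => Iff.rfl) he))⟩
    rw [show n * e * n⁻¹ * e⁻¹ = n * (e * n⁻¹ * e⁻¹) by group]
    exact mul_mem hn (classKer_conj (sigma_le_G hA he) (RootSub.conj_mem_conjBy ((classKer G).inv_mem hn)))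
  rw [classKer_inf hirr A hA, Subgroup.mem_bot, mul_inv_eq_one, mul_inv_eq_iff_eq_mul] at h1
  exact h1.symm

theorem comp_quasisimple {A : Subgroup (LinearMap.GeneralLinearGroup k M)}
    (hA : A ∈ quadraticRootSubgroups G) : IsQuasisimple ↥(⨆ B ∈ comp G A, B) := by
  have D := comp_quasiData hgen hk2 hk3 hirr hA
  set H := ⨆ B ∈ comp G A, B with hH
  have : Nontrivial H := by
    obtain ⟨a, ha, hne⟩ := RootSub.exists_mem_ne_one (sigma_ne_bot hA)
    exact ⟨⟨⟨a, le_iSup_mem (comp_self hA) ha⟩, 1, fun h => hne (congrArg Subtype.val h)⟩⟩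
  have : Group.IsPerfect H := ⟨D.perfect⟩
  refine Components.isQuasisimple_of_normal_central fun N hN => ?_
  by_contra hcon
  push Not at hcon
  obtain ⟨hne, hcen⟩ := hcon
  refine hcen fun n hn => Subgroup.mem_center_iff.2 fun g => Subtype.ext ?_
  have hker : (n : LinearMap.GeneralLinearGroup k M) ∈ classKer G := by
    refine ⟨comp_le n.2, fun B hB => ?_⟩
    have hnoeq : ∀ U ∈ restrictSet (comp G A), ∀ V ∈ restrictSet (comp G A), IsRankOnePair U V →
        U.map (QuotientGroup.mk' N) ≠ V.map (QuotientGroup.mk' N) := fun U hU V hV hr e =>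
      hne (by rw [← QuotientGroup.ker_mk' N]; exact D.ker_eq_top _ hU hV hr e)
    by_cases hBA : B ∈ comp G A
    · have hBn : conjBy B n.1 ∈ comp G A := ⟨conjBy_mem_quadraticRootSubgroups hB
        (g0_le_G (comp_le n.2)), hBA.2.trans (reach_conj hgen hk2 hk3 hirr hB (comp_le n.2))⟩
      intro C hC
      by_cases hCA : C ∈ comp G A
      · have emap : ((conjBy B n.1).subgroupOf H).map (QuotientGroup.mk' N) =
            (B.subgroupOf H).map (QuotientGroup.mk' N) := by
          have e : (conjBy B n.1).subgroupOf H = conjBy (B.subgroupOf H) n := by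
            refine Subgroup.map_injective H.subtype_injective ?_
            rw [map_restrict hBn, RootSub.map_conjBy, map_restrict hBA]
            rfl
          rw [e, RootSub.map_conjBy, show QuotientGroup.mk' N n = 1 from
            (QuotientGroup.eq_one_iff n).2 hn, RootSub.conjBy_one]
        have key : ∀ U V : Subgroup (LinearMap.GeneralLinearGroup k M), U ∈ comp G A → V ∈ comp G A →
            (U.subgroupOf H).map (QuotientGroup.mk' N) = (V.subgroupOf H).map (QuotientGroup.mk' N) →
            ⁅C, U⁆ = ⊥ → ⁅C, V⁆ = ⊥ := by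
          intro U V hU hV e h0
          have h0' : ⁅C.subgroupOf H, U.subgroupOf H⁆ = ⊥ := by
            refine Subgroup.map_injective H.subtype_injective ?_
            rw [Subgroup.map_commutator, map_restrict hCA, map_restrict hU, h0, Subgroup.map_bot]
          have h1 : ⁅C.subgroupOf H, V.subgroupOf H⁆.map (QuotientGroup.mk' N) = ⊥ := by
            rw [Subgroup.map_commutator, ← e, ← Subgroup.map_commutator, h0', Subgroup.map_bot]
          have hC' := mem_restrictSet (S := comp G A) hCA
          have hV' := mem_restrictSet (S := comp G A) hV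
          rcases D.root.pair _ hC' _ hV' with h | h | h
          · have := congrArg (Subgroup.map H.subtype) h
            rwa [Subgroup.map_commutator, map_restrict hCA, map_restrict hV, Subgroup.map_bot]
              at this
          · exfalso
            rw [Subgroup.map_commutator] at h1
            exact RootSub.rankOne_not_commute
              (RootSub.map_rankOne (QuotientGroup.mk' N) h (hnoeq _ hC' _ hV' h)) h1
          · exfalso
            rw [Subgroup.map_eq_bot_iff, QuotientGroup.ker_mk'] at h1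
            exact hne (D.all_le_of_mem h.1 h1)
        exact ⟨key _ B hBn hBA emap, key B _ hBA hBn emap.symm⟩
      · have hne' : comp G A ≠ comp G C := fun e => hCA (e ▸ comp_self hC)
        have h1 : ∀ U ∈ comp G A, ⁅C, U⁆ = ⊥ := fun U hU => by
          rw [Subgroup.commutator_comm]
          exact comp_commute hgen hk2 hk3 hirr hU (comp_self hC) hne'
        exact iff_of_true (h1 _ hBn) (h1 _ hBA)
    · have hne' : comp G A ≠ comp G B := fun e => hBA (e ▸ comp_self hB)
      have hcl : H ≤ Subgroup.centralizer (B : Set (LinearMap.GeneralLinearGroup k M)) :=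
        iSup₂_le fun U hU => Subgroup.commutator_eq_bot_iff_le_centralizer.1
          (comp_commute hgen hk2 hk3 hirr hU (comp_self hB) hne')
      rw [RootSub.conjBy_eq_self_iff.2 (Subgroup.centralizer_le_normalizer _ (hcl n.2))]
      exact fun _ _ => Iff.rfl
  have hle : H ≤ Subgroup.centralizer {(n : LinearMap.GeneralLinearGroup k M)} :=
    iSup₂_le fun U hU e he => Subgroup.mem_centralizer_singleton_iff.2
      (classKer_commute hirr hker hU.1 he)
  exact Subgroup.mem_centralizer_singleton_iff.1 (hle g.2)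

omit hgen hk3 in
theorem comp_finite (hgen : GenProp k) (hk3 : Nat.card k ≠ 3) :
    (Set.range fun A : quadraticRootSubgroups G => comp G A.1).Finite := by
  classical
  set C := Set.range fun A : quadraticRootSubgroups G => comp G A.1
  have hrep : ∀ c : C, ∃ A ∈ quadraticRootSubgroups G, comp G A = c.1 ∧
      ∃ a, IsMin G a ∧ IsRootOf G A a := by
    rintro ⟨_, ⟨A, hA⟩, rfl⟩
    obtain ⟨a, ha, hAm⟩ := exists_of_mem_quadraticRootSubgroups hA
    exact ⟨A, hA, rfl, a, ha, hAm⟩
  choose A hA hAc a ha hAm using hrep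
  have hli : LinearIndependent k a := by
    rw [linearIndependent_iff_notMem_span]
    intro c hc
    obtain ⟨g, hg, hopp⟩ := exists_opp_conj (two_ne_zero_of_ringChar hk2) hirr (ha c)
    have hroot := isRootOf_conjBy (hAm c) (ha c).sq hg
    have hBc : conjBy (A c) g ∈ comp G (A c) :=
      ⟨conjBy_mem_quadraticRootSubgroups (hA c) hg, .single ⟨hA c,
        conjBy_mem_quadraticRootSubgroups (hA c) hg,
        isRankOnePair_of_opp hgen hk2 hk3 (ha c) ((ha c).cj hg) hopp (hAm c) hroot⟩⟩
    set b := cj g (a c)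
    have hle : Submodule.span k (a '' (Set.univ \ {c})) ≤
        LinearMap.ker (LinearMap.mulLeft k b - LinearMap.mulRight k b) := by
      rw [Submodule.span_le]
      rintro _ ⟨d, hd, rfl⟩
      have hne : comp G (A c) ≠ comp G (A d) := by
        rw [hAc, hAc]
        exact fun e => hd.2 (Subtype.ext e).symm
      have h1 := RootSub.commutator_eq_bot_iff_commute.1
        (comp_commute hgen hk2 hk3 hirr hBc (comp_self (hA d)) hne) _
        (onePlus_mem_of_vsp hroot ((ha c).cj hg).self_mem_vsp) _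
        (onePlus_mem_of_vsp (hAm d) (ha d).self_mem_vsp)
      rw [commute_iff_sub_one, coe_onePlus, coe_onePlus, add_sub_cancel_left,
        add_sub_cancel_left] at h1
      rw [SetLike.mem_coe, LinearMap.mem_ker, LinearMap.sub_apply, LinearMap.mulLeft_apply,
        LinearMap.mulRight_apply, h1, sub_self]
    have := hle hc
    rw [LinearMap.mem_ker, LinearMap.sub_apply, LinearMap.mulLeft_apply, LinearMap.mulRight_apply,
      sub_eq_zero] at this
    apply hopp
    rw [← this, mul_assoc, (ha c).sq, mul_zero]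
  exact Set.finite_coe_iff.1 hli.finite

end sigma

end Cfsg.Agent.QuadPair
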