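import Mathlib.LinearAlgebra.Matrix.SpecialLinearGroup
import Mathlib.FieldTheory.Minpoly.Field
import Mathlib.RingTheory.Adjoin.PowerBasis
import Mathlib.LinearAlgebra.FreeModule.Finite.Matrix
import Mathlib.LinearAlgebra.Matrix.NonsingularInverse
import Mathlib.LinearAlgebra.Matrix.Polynomial
import Mathlib.Tactic

/-!
`SL(2, k[λ])` is generated by `u(k)` and `l(k λ)` for an infinite field `k` (char `≠ 2`) and a
finite-dimensional `k`-algebra `k[λ]` with `λ` invertible: orthogonal polynomials for a generic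
functional give a word with a zero diagonal entry.
-/

set_option autoImplicit false
set_option linter.unusedSectionVars false

namespace Cfsg.Agent.QuadPair.SL2Gen

open Matrix Polynomial
open scoped MatrixGroups

section basic

variable {R : Type*} [CommRing R]

/-- Upper unitriangular. -/
def eU (x : R) : SL(2, R) := ⟨!![1, x; 0, 1], by simp [Matrix.det_fin_two]⟩

/-- Lower unitriangular. -/
def eL (x : R) : SL(2, R) := ⟨!![1, 0; x, 1], by simp [Matrix.det_fin_two]⟩

@[simp] theorem eU00 (x : R) : eU x 0 0 = 1 := rfl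
@[simp] theorem eU01 (x : R) : eU x 0 1 = x := rfl
@[simp] theorem eU10 (x : R) : eU x 1 0 = 0 := rfl
@[simp] theorem eU11 (x : R) : eU x 1 1 = 1 := rfl
@[simp] theorem eL00 (x : R) : eL x 0 0 = 1 := rfl
@[simp] theorem eL01 (x : R) : eL x 0 1 = 0 := rfl
@[simp] theorem eL10 (x : R) : eL x 1 0 = x := rfl
@[simp] theorem eL11 (x : R) : eL x 1 1 = 1 := rfl

theorem ext22 {g h : SL(2, R)} (h00 : g 0 0 = h 0 0) (h01 : g 0 1 = h 0 1) (h10 : g 1 0 = h 1 0)
    (h11 : g 1 1 = h 1 1) : g = h := by
  refine Matrix.SpecialLinearGroup.ext g h fun i j => ?_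
  fin_cases i <;> fin_cases j <;> assumption

theorem mulE (g h : SL(2, R)) (i j : Fin 2) : (g * h) i j = g i 0 * h 0 j + g i 1 * h 1 j := by
  simp [Matrix.mul_apply, Fin.sum_univ_two]

theorem invE00 (g : SL(2, R)) : g⁻¹ 0 0 = g 1 1 := by simp [Matrix.adjugate_fin_two]
theorem invE01 (g : SL(2, R)) : g⁻¹ 0 1 = -g 0 1 := by simp [Matrix.adjugate_fin_two]
theorem invE10 (g : SL(2, R)) : g⁻¹ 1 0 = -g 1 0 := by simp [Matrix.adjugate_fin_two]
theorem invE11 (g : SL(2, R)) : g⁻¹ 1 1 = g 0 0 := by simp [Matrix.adjugate_fin_two]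

theorem detE (g : SL(2, R)) : g 0 0 * g 1 1 - g 0 1 * g 1 0 = 1 := by
  rw [← Matrix.det_fin_two]
  exact g.det_coe

theorem eU_mul (x y : R) : eU x * eU y = eU (x + y) := by
  apply ext22 <;> simp [mulE, add_comm]

theorem eL_mul (x y : R) : eL x * eL y = eL (x + y) := by
  apply ext22 <;> simp [mulE, add_comm]

theorem eU_zero : eU (0 : R) = 1 := by apply ext22 <;> simp
theorem eL_zero : eL (0 : R) = 1 := by apply ext22 <;> simp

theorem eU_inv (x : R) : (eU x)⁻¹ = eU (-x) :=
  inv_eq_of_mul_eq_one_right (by rw [eU_mul, add_neg_cancel, eU_zero])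

theorem eL_inv (x : R) : (eL x)⁻¹ = eL (-x) :=
  inv_eq_of_mul_eq_one_right (by rw [eL_mul, add_neg_cancel, eL_zero])

theorem eU_pow (x : R) (n : ℕ) : eU x ^ n = eU ((n : R) * x) := by
  induction n with
  | zero => simp [eU_zero]
  | succ n ih => rw [pow_succ, ih, eU_mul]; congr 1; push_cast; ring

theorem eL_pow (x : R) (n : ℕ) : eL x ^ n = eL ((n : R) * x) := by
  induction n with
  | zero => simp [eL_zero]
  | succ n ih => rw [pow_succ, ih, eL_mul]; congr 1; push_cast; ring

/-- An element with zero lower-left entry conjugates `u(x)` to `u(t² x)`. -/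
theorem conj_eU_of_borel (g : SL(2, R)) (h10 : g 1 0 = 0) (x : R) :
    g * eU x * g⁻¹ = eU (g 0 0 ^ 2 * x) := by
  have hd := detE g
  rw [h10, mul_zero, sub_zero] at hd
  apply ext22 <;> simp only [mulE, invE00, invE01, invE10, invE11, eU00, eU01, eU10, eU11, h10]
  · linear_combination hd
  · ring
  · ring
  · linear_combination hd

/-- An element with zero upper-left entry conjugates `u(x)` to `l(-c² x)`. -/
theorem conj_eU_of_swap (g : SL(2, R)) (h00 : g 0 0 = 0) (x : R) :
    g * eU x * g⁻¹ = eL (-(g 1 0 ^ 2 * x)) := by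
  have hd := detE g
  rw [h00, zero_mul, zero_sub] at hd
  apply ext22 <;>
    simp only [mulE, invE00, invE01, invE10, invE11, eU00, eU01, eU10, eU11, eL00, eL01, eL10,
      eL11, h00]
  · linear_combination hd
  · ring
  · ring
  · linear_combination hd

end basic

variable (k : Type*) [Field k] {R : Type*} [CommRing R] [Algebra k R]

/-- The subgroup generated by `u(c)` and `l(c λ)`, `c ∈ k`. -/
def gen (lam : R) : Subgroup SL(2, R) :=
  Subgroup.closure (Set.range (fun c : k => eU (algebraMap k R c)) ∪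
    Set.range (fun c : k => eL (algebraMap k R c * lam)))

variable {k}

theorem eU_mem_gen (lam : R) (c : k) : eU (algebraMap k R c) ∈ gen k lam :=
  Subgroup.subset_closure (Or.inl ⟨c, rfl⟩)

theorem eL_mem_gen (lam : R) (c : k) : eL (algebraMap k R c * lam) ∈ gen k lam :=
  Subgroup.subset_closure (Or.inr ⟨c, rfl⟩)

/-- Polynomial along every line. -/
def LinePoly {V : Type*} [AddCommGroup V] [Module k V] (f : V → k) : Prop :=
  ∀ w v : V, ∃ p : k[X], ∀ t : k, p.eval t = f (w + t • v)

theorem exists_forall_ne_zero [Infinite k] {V : Type*} [AddCommGroup V] [Module k V]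
    {ι : Type*} (s : Finset ι) (f : ι → V → k) (hl : ∀ i ∈ s, LinePoly (f i))
    (hne : ∀ i ∈ s, ∃ w, f i w ≠ 0) : ∃ w, ∀ i ∈ s, f i w ≠ 0 := by
  classical
  induction s using Finset.induction with
  | empty => exact ⟨0, by simp⟩
  | @insert a s ha ih =>
    obtain ⟨w, hw⟩ := ih (fun i hi => hl i (Finset.mem_insert_of_mem hi))
      (fun i hi => hne i (Finset.mem_insert_of_mem hi))
    obtain ⟨v, hv⟩ := hne a (Finset.mem_insert_self a s)
    have hp : ∀ i ∈ insert a s, ∃ p : k[X], p ≠ 0 ∧ ∀ t : k, p.eval t = f i (w + t • (v - w)) := by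
      intro i hi
      obtain ⟨p, hp⟩ := hl i hi w (v - w)
      refine ⟨p, fun h0 => ?_, hp⟩
      rcases Finset.mem_insert.1 hi with rfl | hi'
      · refine hv ?_
        have := hp 1
        rwa [h0, eval_zero, one_smul, add_sub_cancel, eq_comm] at this
      · refine hw i hi' ?_
        have := hp 0
        rwa [h0, eval_zero, zero_smul, add_zero, eq_comm] at this
    choose p hp0 hpe using hp
    set q := ∏ i ∈ (insert a s).attach, p i.1 i.2 with hq
    have hq0 : q ≠ 0 := Finset.prod_ne_zero_iff.2 fun i _ => hp0 _ _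
    obtain ⟨t, ht⟩ := Infinite.exists_notMem_finset q.roots.toFinset
    refine ⟨w + t • (v - w), fun i hi h0 => ht ?_⟩
    rw [Multiset.mem_toFinset, mem_roots hq0]
    show q.eval t = 0
    rw [hq, eval_prod]
    exact Finset.prod_eq_zero (Finset.mem_attach _ ⟨i, hi⟩) (by rw [hpe i hi t]; exact h0)

theorem linePoly_det {V : Type*} [AddCommGroup V] [Module k V] {n : ℕ}
    (A : V →ₗ[k] Matrix (Fin n) (Fin n) k) : LinePoly fun w => (A w).det := by
  intro w v
  refine ⟨((A w).map C + (Polynomial.X : k[X]) • (A v).map C).det, fun t => ?_⟩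
  rw [← coe_evalRingHom, RingHom.map_det]
  congr 1
  ext i j
  simp only [RingHom.mapMatrix_apply, Matrix.map_apply, Matrix.add_apply, Matrix.smul_apply,
    smul_eq_mul, map_add, map_mul, coe_evalRingHom, eval_add, eval_mul, eval_C, eval_X, map_smul]

section hankel

variable [FiniteDimensional k R] (lam : R)

/-- The matrices `δ(λ^(a+b) w)`. -/
noncomputable def hankel (δ : R →ₗ[k] k) (n : ℕ) : R →ₗ[k] Matrix (Fin n) (Fin n) k where
  toFun w := Matrix.of fun a b => δ (lam ^ (a.1 + b.1) * w)
  map_add' w v := by ext a b; simp [mul_add]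
  map_smul' c w := by ext a b; simp

theorem exists_basis (hgen : Algebra.adjoin k ({lam} : Set R) = ⊤) :
    ∃ b : Module.Basis (Fin (minpoly k lam).natDegree) k R, ∀ i, b i = lam ^ i.1 := by
  have hint : IsIntegral k lam := .of_finite k lam
  have hli : LinearIndependent k fun i : Fin (minpoly k lam).natDegree => lam ^ i.1 :=
    linearIndependent_pow lam
  refine ⟨Module.Basis.mk hli ?_, fun i => Module.Basis.mk_apply _ _ i⟩
  intro x _
  have hx : x ∈ Algebra.adjoin k ({lam} : Set R) := hgen ▸ Algebra.mem_top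
  rw [Algebra.adjoin_singleton_eq_range_aeval] at hx
  obtain ⟨p, rfl⟩ := hx
  show aeval lam p ∈ _
  rw [← modByMonic_add_div p (minpoly k lam), map_add, map_mul, minpoly.aeval, zero_mul, add_zero]
  set q := p %ₘ minpoly k lam with hq
  rw [aeval_eq_sum_range]
  refine Submodule.sum_mem _ fun i hi => Submodule.smul_mem _ _ ?_
  rw [Finset.mem_range] at hi
  by_cases hq0 : q = 0
  · have h1 : i = 0 := by rw [hq0, natDegree_zero] at hi; omega
    subst h1
    have h2 : 0 < (minpoly k lam).natDegree ∨ (minpoly k lam).natDegree = 0 := by omega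
    rcases h2 with h2 | h2
    · exact Submodule.subset_span ⟨⟨0, h2⟩, rfl⟩
    · have := subsingleton_or_nontrivial R
      rcases this with hR | hR
      · rw [Subsingleton.elim (lam ^ 0) 0]
        exact Submodule.zero_mem _
      · exact absurd h2 (minpoly.natDegree_pos hint).ne'
  · have h1 : q.natDegree < (minpoly k lam).natDegree :=
      natDegree_lt_natDegree hq0 (degree_modByMonic_lt p (minpoly.monic hint))
    exact Submodule.subset_span ⟨⟨i, by omega⟩, rfl⟩

theorem gen_eq_top_of_infinite [Infinite k] [Nontrivial R] (h2 : (2 : k) ≠ 0) (hu : IsUnit lam)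
    (hgen : Algebra.adjoin k ({lam} : Set R) = ⊤) (x : R) :
    eU x ∈ gen k lam ∧ eL x ∈ gen k lam := by
  classical
  set r := (minpoly k lam).natDegree with hr
  have hr0 : 0 < r := minpoly.natDegree_pos (.of_finite k lam)
  obtain ⟨b, hb⟩ : ∃ b : Module.Basis (Fin r) k R, ∀ i, b i = lam ^ i.1 := exists_basis lam hgen
  set δ := b.coord ⟨r - 1, by omega⟩ with hδ
  -- `δ` is nondegenerate
  let D : R →ₗ[k] (R →ₗ[k] k) := (LinearMap.mul k R).compr₂ δ
  have hD : ∀ w y, D w y = δ (w * y) := fun w y => rfl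
  have hcoord : ∀ (i j : Fin r), b.coord i (lam ^ j.1) = if j = i then 1 else 0 := by
    intro i j
    rw [← hb, Module.Basis.coord_apply, Module.Basis.repr_self, Finsupp.single_apply]
  have hDinj : Function.Injective D := by
    rw [injective_iff_map_eq_zero]
    intro w hw
    by_contra hw0
    obtain ⟨j, hj, hjmax⟩ := Finset.exists_max_image
      ((Finset.univ : Finset (Fin r)).filter fun i => b.repr w i ≠ 0) id (by
        by_contra h
        rw [Finset.not_nonempty_iff_eq_empty, Finset.filter_eq_empty_iff] at h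
        exact hw0 (b.repr.map_eq_zero_iff.1 (Finsupp.ext fun i => by
          simpa using h (Finset.mem_univ i))))
    have hval := congrArg (fun f : R →ₗ[k] k => f (lam ^ (r - 1 - j.1))) hw
    simp only [LinearMap.zero_apply, hD] at hval
    rw [← b.sum_repr w, Finset.sum_mul, map_sum, Finset.sum_eq_single j] at hval
    · rw [smul_mul_assoc, map_smul, hb, ← pow_add,
        show j.1 + (r - 1 - j.1) = (⟨r - 1, by omega⟩ : Fin r).1 by simp only; omega, hδ,
        hcoord, if_pos rfl, smul_eq_mul, mul_one] at hval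
      exact (Finset.mem_filter.1 hj).2 hval
    · intro i _ hij
      by_cases hi : b.repr w i = 0
      · rw [hi, zero_smul, zero_mul, map_zero]
      · have h1 : i.1 < j.1 := lt_of_le_of_ne
          (Fin.le_def.1 (hjmax i (Finset.mem_filter.2 ⟨Finset.mem_univ i, hi⟩)))
          (fun h => hij (Fin.ext h))
        rw [smul_mul_assoc, map_smul, hb, ← pow_add,
          show i.1 + (r - 1 - j.1) = (⟨i.1 + (r - 1 - j.1), by omega⟩ : Fin r).1 from rfl, hδ,
          hcoord, if_neg (fun h => absurd (congrArg Fin.val h) (by simp only; omega)), smul_zero]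
    · exact fun h => absurd (Finset.mem_univ j) h
  have hDsurj : Function.Surjective D :=
    (LinearMap.injective_iff_surjective_of_finrank_eq_finrank
      (by rw [← Subspace.dual_finrank_eq (K := k) (V := R)])).1 hDinj
  -- witnesses for the Hankel determinants
  have hwit : ∀ n, n ≤ r → ∃ w, ((hankel lam δ n) w).det ≠ 0 := by
    intro n hn
    rcases Nat.eq_zero_or_pos n with rfl | hn0
    · exact ⟨0, by rw [Matrix.det_isEmpty]; exact one_ne_zero⟩
    obtain ⟨w, hw⟩ := hDsurj (b.coord ⟨n - 1, by omega⟩)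
    have hval : ∀ m (hm : m < r), δ (lam ^ m * w) = if m = n - 1 then 1 else 0 := by
      intro m hm
      rw [mul_comm, ← hD, hw, show lam ^ m = lam ^ (⟨m, hm⟩ : Fin r).1 from rfl, hcoord]
      simp [Fin.ext_iff]
    refine ⟨w, fun h0 => ?_⟩
    obtain ⟨v, hv0, hv⟩ := Matrix.exists_mulVec_eq_zero_iff.2 h0
    have hall : ∀ j, ∀ (i : Fin n), i.1 + j = n - 1 → v i = 0 := by
      intro j
      induction j using Nat.strong_induction_on with
      | _ j ih =>
        intro i hij
        have h1 := congrFun hv ⟨j, by omega⟩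
        simp only [Matrix.mulVec, dotProduct, hankel, LinearMap.coe_mk, AddHom.coe_mk,
          Matrix.of_apply, Pi.zero_apply] at h1
        rw [Finset.sum_eq_single i] at h1
        · rw [hval _ (by omega), if_pos (by omega), one_mul] at h1
          exact h1
        · intro i' _ hne
          have hne' : i'.1 ≠ i.1 := fun h => hne (Fin.ext h)
          by_cases hlt : i'.1 < i.1
          · rw [hval _ (by omega), if_neg (by omega), zero_mul]
          · rw [ih (n - 1 - i'.1) (by have := i'.2; omega) i' (by have := i'.2; omega), mul_zero]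
        · exact fun h => absurd (Finset.mem_univ i) h
    exact hv0 (funext fun i => hall (n - 1 - i.1) i (by have := i.2; omega))
  obtain ⟨li, hli⟩ : ∃ li, lam * li = 1 := ⟨↑hu.unit⁻¹, hu.mul_val_inv⟩
  -- good functionals
  let fam : Fin (r + 1) ⊕ Fin (r + 1) → R → k :=
    Sum.elim (fun n w => ((hankel lam δ n.1) w).det)
      (fun n w => ((hankel lam δ n.1) (lam * w)).det)
  have hline : ∀ i, LinePoly (k := k) (fam i) := by
    rintro (n | n)
    · exact linePoly_det (hankel lam δ n.1)
    · exact linePoly_det ((hankel lam δ n.1).comp (LinearMap.mulLeft k lam))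
  have hne : ∀ i, ∃ w, fam i w ≠ 0 := by
    rintro (n | n)
    · exact hwit n.1 (by omega)
    · obtain ⟨w, hw⟩ := hwit n.1 (by omega)
      exact ⟨li * w, by
        show ((hankel lam δ n.1) (lam * (li * w))).det ≠ 0
        rw [← mul_assoc, hli, one_mul]
        exact hw⟩
  let Good : R → Prop := fun w => ∀ i, fam i w ≠ 0
  obtain ⟨w0, hw0⟩ : ∃ w, Good w := by
    obtain ⟨w, hw⟩ := exists_forall_ne_zero Finset.univ fam (fun i _ => hline i) (fun i _ => hne i)
    exact ⟨w, fun i => hw i (Finset.mem_univ i)⟩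
  -- the low degree elements
  let Lt : ℕ → Submodule k R := fun n => Submodule.span k (Set.range fun a : Fin n => lam ^ a.1)
  have hLtMono : ∀ {m n}, m ≤ n → Lt m ≤ Lt n := fun {m n} h =>
    Submodule.span_mono (by rintro _ ⟨a, rfl⟩; exact ⟨⟨a.1, by omega⟩, rfl⟩)
  have hLtMul : ∀ {n} {x : R}, x ∈ Lt n → lam * x ∈ Lt (n + 1) := by
    intro n x hx
    suffices h : (Lt n).map (LinearMap.mulLeft k lam) ≤ Lt (n + 1) from
      h (Submodule.mem_map_of_mem hx)
    rw [Submodule.map_span, Submodule.span_le]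
    rintro _ ⟨_, ⟨a, rfl⟩, rfl⟩
    exact Submodule.subset_span ⟨⟨a.1 + 1, by omega⟩, pow_succ' lam a.1⟩
  have hone : ∀ n, (1 : R) ∈ Lt (n + 1) := fun n =>
    Submodule.subset_span ⟨⟨0, Nat.succ_pos n⟩, pow_zero lam⟩
  have hsolve : ∀ {w : R} {n}, ((hankel lam δ n) w).det ≠ 0 →
      (∀ x ∈ Lt n, (∀ j < n, δ (lam ^ j * x * w) = 0) → x = 0) ∧
      ∀ e : ℕ → k, ∃ x ∈ Lt n, ∀ j < n, δ (lam ^ j * x * w) = e j := by
    intro w n hdet
    set A := (hankel lam δ n) w with hA
    have hcomb : ∀ (v : Fin n → k) (j : Fin n),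
        δ (lam ^ j.1 * (∑ a, v a • lam ^ a.1) * w) = (A *ᵥ v) j := by
      intro v j
      simp only [Finset.mul_sum, Finset.sum_mul, map_sum, Matrix.mulVec, dotProduct, hA, hankel,
        LinearMap.coe_mk, AddHom.coe_mk, Matrix.of_apply, mul_smul_comm, smul_mul_assoc,
        map_smul, smul_eq_mul]
      refine Finset.sum_congr rfl fun a _ => ?_
      rw [← pow_add, mul_comm]
    have hunit : IsUnit A := (Matrix.isUnit_iff_isUnit_det A).2 (Ne.isUnit hdet)
    refine ⟨fun x hx h => ?_, fun e => ?_⟩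
    · obtain ⟨v, rfl⟩ := (Submodule.mem_span_range_iff_exists_fun k).1 hx
      have : A *ᵥ v = 0 := funext fun j => (hcomb v j).symm.trans (h j.1 j.2)
      rw [Matrix.mulVec_injective_iff_isUnit.2 hunit (this.trans (Matrix.mulVec_zero A).symm)]
      simp
    · obtain ⟨v, hv⟩ := Matrix.mulVec_surjective_iff_isUnit.2 hunit fun j => e j.1
      exact ⟨_, (Submodule.mem_span_range_iff_exists_fun k).2 ⟨v, rfl⟩,
        fun j hj => (hcomb v ⟨j, hj⟩).trans (congrFun hv ⟨j, hj⟩)⟩
  have hH : ∀ {w}, Good w → ∀ {n}, n ≤ r → ((hankel lam δ n) w).det ≠ 0 ∧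
      ((hankel lam δ n) (lam * w)).det ≠ 0 := fun {w} hw {n} hn =>
    ⟨hw (Sum.inl ⟨n, by omega⟩), hw (Sum.inr ⟨n, by omega⟩)⟩
  have hLtTop : ∀ x : R, x ∈ Lt r := by
    intro x
    rw [← b.sum_repr x]
    exact Submodule.sum_mem _ fun i _ =>
      Submodule.smul_mem _ _ (Submodule.subset_span ⟨i, (hb i).symm⟩)
  -- the word attached to a good functional
  have hword : ∀ w, Good w → ∃ g ∈ gen k lam, ∃ Q : R, g 0 0 = 0 ∧ g 1 0 = lam * Q ∧
      ∀ j < r, δ (lam ^ j * Q * w) = if j = 0 then 1 else 0 := by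
    intro w hw
    set e0 : ℕ → k := fun j => if j = 0 then 1 else 0
    have hP : ∀ i, i ≤ r → ∃ P ∈ Lt (i + 1), ∃ e ∈ Lt i, P = 1 + lam * e ∧
        ∀ j < i, δ (lam ^ j * P * w) = 0 := by
      intro i hi
      obtain ⟨e, he, hee⟩ := (hsolve (hH hw hi).2).2 fun j => -δ (lam ^ j * w)
      refine ⟨_, add_mem (hone i) (hLtMul he), e, he, rfl, fun j hj => ?_⟩
      rw [mul_add, add_mul, mul_one, map_add,
        show lam ^ j * (lam * e) * w = lam ^ j * e * (lam * w) by ring, hee j hj, add_neg_cancel]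
    have hQ : ∀ i, i < r → ∃ Q ∈ Lt (i + 1), ∀ j < i + 1, δ (lam ^ j * Q * w) = e0 j :=
      fun i hi => (hsolve (hH hw hi).1).2 e0
    suffices hind : ∀ i, i < r → ∃ g ∈ gen k lam, ∃ P Q e : R, g 0 0 = P ∧ g 1 0 = lam * Q ∧
        e ∈ Lt i ∧ P = 1 + lam * e ∧ (∀ j < i, δ (lam ^ j * P * w) = 0) ∧
        Q ∈ Lt (i + 1) ∧ ∀ j < i + 1, δ (lam ^ j * Q * w) = e0 j by
      obtain ⟨g, hg, P, Q, e, h00, h10, he, hPe, hPw, hQm, hQw⟩ := hind (r - 1) (by omega)
      obtain ⟨P', hP'm, e', he', hP'e, hP'w⟩ := hP r le_rfl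
      have hP'0 : P' = 0 := (hsolve (hH hw le_rfl).1).1 P' (hLtTop P') hP'w
      obtain ⟨c, hc⟩ : ∃ c : k, P' = P + algebraMap k R c * (lam * Q) := by
        have hd : ∀ j < r - 1, δ (lam ^ (j + 1) * (e' - e) * w) = 0 := by
          intro j hj
          have h1 := hP'w j (by omega)
          have h3 := hPw j hj
          rw [hP'e] at h1
          rw [hPe] at h3
          have h4 : lam ^ (j + 1) * (e' - e) * w =
              lam ^ j * (1 + lam * e') * w - lam ^ j * (1 + lam * e) * w := by ring
          rw [h4, map_sub, h1, h3, sub_zero]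
        refine ⟨δ ((e' - e) * w), ?_⟩
        have hz : e' - e - δ ((e' - e) * w) • Q = 0 := by
          refine (hsolve (hH hw le_rfl).1).1 _ (hLtTop _) fun j hj => ?_
          rw [mul_sub, sub_mul, map_sub, mul_smul_comm, smul_mul_assoc, map_smul,
            hQw j (by omega)]
          rcases j with _ | j
          · simp [e0]
          · rw [hd j (by omega)]
            simp [e0]
        rw [sub_eq_zero] at hz
        generalize δ ((e' - e) * w) = c at hz ⊢
        rw [hP'e, hPe, eq_add_of_sub_eq' hz, Algebra.smul_def]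
        ring
      refine ⟨eU (algebraMap k R c) * g, mul_mem (eU_mem_gen lam c) hg, Q, ?_, ?_, ?_⟩
      · rw [mulE, eU00, eU01, one_mul, h00, h10, ← hc, hP'0]
      · rw [mulE, eU10, eU11, zero_mul, one_mul, zero_add, h10]
      · exact fun j hj => hQw j (by omega)
    intro i
    induction i with
    | zero =>
      intro hi
      obtain ⟨Q, hQm, hQw⟩ := hQ 0 hi
      obtain ⟨v, hv⟩ := (Submodule.mem_span_range_iff_exists_fun k).1 hQm
      rw [Fin.sum_univ_one, Fin.val_zero, pow_zero, ← Algebra.algebraMap_eq_smul_one] at hv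
      exact ⟨eL (algebraMap k R (v 0) * lam), eL_mem_gen lam (v 0), 1, Q, 0, eL00 _,
        by rw [eL10, hv, mul_comm], Submodule.zero_mem _, by rw [mul_zero, add_zero],
        fun j hj => absurd hj (Nat.not_lt_zero j), hQm, hQw⟩
    | succ i ih =>
      intro hi
      obtain ⟨g, hg, P, Q, e, h00, h10, he, hPe, hPw, hQm, hQw⟩ := ih (by omega)
      obtain ⟨P', hP'm, e', he', hP'e, hP'w⟩ := hP (i + 1) (by omega)
      obtain ⟨Q', hQ'm, hQ'w⟩ := hQ (i + 1) hi
      -- step for `P`
      set c := δ ((e' - e) * w) with hc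
      have hz : e' - e - c • Q = 0 := by
        refine (hsolve (hH hw (n := i + 1) (by omega)).1).1 _
          (sub_mem (sub_mem he' (hLtMono (Nat.le_succ i) he)) (Submodule.smul_mem _ _ hQm))
          fun j hj => ?_
        rw [mul_sub, sub_mul, map_sub, mul_smul_comm, smul_mul_assoc, map_smul, hQw j hj]
        rcases j with _ | j
        · simp [e0, hc]
        · have h1 := hP'w j (by omega)
          have h3 := hPw j (by omega)
          rw [hP'e] at h1
          rw [hPe] at h3
          rw [show lam ^ (j + 1) * (e' - e) * w =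
              lam ^ j * (1 + lam * e') * w - lam ^ j * (1 + lam * e) * w by ring, map_sub, h1, h3]
          simp [e0]
      clear_value c
      have hPP : P' = P + algebraMap k R c * (lam * Q) := by
        rw [sub_eq_zero] at hz
        generalize δ ((e' - e) * w) = c at hz ⊢
        rw [hP'e, hPe, eq_add_of_sub_eq' hz, Algebra.smul_def]
        ring
      -- step for `Q`
      set D0 := Q' - Q with hD0
      have hD0m : D0 ∈ Lt (i + 1 + 1) := sub_mem hQ'm (hLtMono (Nat.le_succ _) hQm)
      have hD0w : ∀ j < i + 1, δ (lam ^ j * D0 * w) = 0 := fun j hj => by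
        rw [hD0, mul_sub, sub_mul, map_sub, hQ'w j (by omega), hQw j hj, sub_self]
      obtain ⟨v, hv⟩ := (Submodule.mem_span_range_iff_exists_fun k).1 hD0m
      set d := v 0 with hd
      have hsplit : D0 - algebraMap k R d = lam * ∑ a : Fin (i + 1), v a.succ • lam ^ a.1 := by
        rw [← hv, Fin.sum_univ_succ, Fin.val_zero, pow_zero, ← Algebra.algebraMap_eq_smul_one,
          add_sub_cancel_left, Finset.mul_sum]
        refine Finset.sum_congr rfl fun a _ => ?_
        rw [Fin.val_succ, pow_succ', mul_smul_comm]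
      set E := (∑ a : Fin (i + 1), v a.succ • lam ^ a.1) - d • e' with hE
      have hQQ : Q' = Q + algebraMap k R d * P' := by
        have hE0 : E = 0 := by
          refine (hsolve (hH hw (n := i + 1) (by omega)).2).1 E (sub_mem
            ((Submodule.mem_span_range_iff_exists_fun k).2 ⟨_, rfl⟩) (Submodule.smul_mem _ _ he'))
            fun j hj => ?_
          rw [show lam ^ j * E * (lam * w) =
              lam ^ j * D0 * w - d • (lam ^ j * P' * w) by
            rw [hE, hP'e, Algebra.smul_def, Algebra.smul_def, mul_sub, sub_mul]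
            linear_combination (-(lam ^ j * w)) * hsplit, map_sub, map_smul, hD0w j hj,
            hP'w j hj, smul_zero, sub_zero]
        rw [hE, sub_eq_zero] at hE0
        rw [hE0, Algebra.smul_def] at hsplit
        rw [hP'e]
        linear_combination hsplit
      refine ⟨eL (algebraMap k R d * lam) * (eU (algebraMap k R c) * g),
        mul_mem (eL_mem_gen lam d) (mul_mem (eU_mem_gen lam c) hg), P', Q', e', ?_, ?_, he', hP'e,
        hP'w, hQ'm, hQ'w⟩
      · rw [mulE, eL00, eL01, one_mul, zero_mul, add_zero, mulE, eU00, eU01, one_mul, h00, h10,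
          ← hPP]
      · rw [mulE, eL10, eL11, mulE, mulE, eU00, eU01, eU10, eU11, h00, h10, hQQ, hPP]
        ring
  have hunit : ∀ {w}, Good w → IsUnit w := by
    intro w hw
    have hinj : Function.Injective (LinearMap.mulLeft k w) := by
      rw [injective_iff_map_eq_zero]
      intro y hy
      refine (hsolve (hH hw le_rfl).1).1 y (hLtTop y) fun j _ => ?_
      rw [LinearMap.mulLeft_apply] at hy
      rw [mul_assoc, mul_comm y w, hy, mul_zero, map_zero]
    obtain ⟨v, hv⟩ := LinearMap.injective_iff_surjective.1 hinj 1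
    exact .of_mul_eq_one v hv
  obtain ⟨g0, hg0, Q0, h000, h010, hQ0⟩ := hword w0 hw0
  obtain ⟨w0i, hw0i⟩ : ∃ v, w0 * v = 1 := ⟨↑(hunit hw0).unit⁻¹, (hunit hw0).mul_val_inv⟩
  let P : AddSubgroup R :=
    { carrier := {x | eU x ∈ gen k lam}
      zero_mem' := by simp only [Set.mem_ofPred_eq, eU_zero]; exact one_mem _
      add_mem' := fun {x y} hx hy => by
        simp only [Set.mem_ofPred_eq] at *
        rw [← eU_mul]; exact mul_mem hx hy
      neg_mem' := fun {x} hx => by
        simp only [Set.mem_ofPred_eq] at *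
        rw [← eU_inv]; exact inv_mem hx }
  have hsq : ∀ w, Good w → ∀ c : k, c • (w * w0i) ^ 2 ∈ P := by
    intro w hw c
    obtain ⟨g, hg, Q, h00, h10, hQ⟩ := hword w hw
    have hwQ : w * Q = w0 * Q0 := by
      rw [← sub_eq_zero]
      have hz : D (w * Q - w0 * Q0) = 0 := by
        refine b.ext fun i => ?_
        rw [hD, LinearMap.zero_apply, hb, show (w * Q - w0 * Q0) * lam ^ i.1 =
          lam ^ i.1 * Q * w - lam ^ i.1 * Q0 * w0 by ring, map_sub, hQ _ i.2, hQ0 _ i.2, sub_self]
      exact hDinj (hz.trans (map_zero D).symm)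
    set h := g⁻¹ * g0 with hh
    have hd := detE g
    rw [h00, h10, zero_mul, zero_sub] at hd
    have h10' : h 1 0 = 0 := by
      rw [hh, mulE, invE10, invE11, h000, h00, mul_zero, zero_mul, add_zero]
    have h00' : h 0 0 = w * w0i := by
      rw [hh, mulE, invE00, invE01, h000, h010, mul_zero, zero_add]
      linear_combination (w * w0i) * hd + (g 0 1 * lam * Q0) * hw0i +
        (g 0 1 * lam * w0i) * hwQ
    have := conj_eU_of_borel h h10' (algebraMap k R c)
    rw [h00', mul_comm, ← Algebra.smul_def] at this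
    show eU _ ∈ gen k lam
    rw [← this]
    have hhm : h ∈ gen k lam := mul_mem (inv_mem hg) hg0
    exact mul_mem (mul_mem hhm (eU_mem_gen lam c)) (inv_mem hhm)
  let S := Submodule.span k {y : R | ∃ w, Good w ∧ y = (w * w0i) ^ 2}
  have hSP : ∀ y ∈ S, ∀ c : k, c • y ∈ P := by
    intro y hy
    induction hy using Submodule.span_induction with
    | mem y hy => obtain ⟨w, hw, rfl⟩ := hy; exact hsq w hw
    | zero => intro c; rw [smul_zero]; exact P.zero_mem
    | add y z _ _ ihy ihz => intro c; rw [smul_add]; exact P.add_mem (ihy c) (ihz c)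
    | smul a y _ ih => intro c; rw [smul_smul]; exact ih _
  have hS : S = ⊤ := by
    by_contra hne'
    obtain ⟨y, hy⟩ : ∃ y, y ∉ S := by
      by_contra h
      push Not at h
      exact hne' (eq_top_iff.2 fun y _ => h y)
    obtain ⟨f, hfy, hfS⟩ := Submodule.exists_dual_map_eq_bot_of_notMem hy inferInstance
    have hf0 : ∀ w, Good w → f ((w * w0i) ^ 2) = 0 := fun w hw => by
      have := Submodule.mem_map_of_mem (f := f)
        (show (w * w0i) ^ 2 ∈ S from Submodule.subset_span ⟨w, hw, rfl⟩)
      rwa [hfS, Submodule.mem_bot] at this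
    have hlinef : LinePoly (k := k) fun w : R => f ((w * w0i) ^ 2) := by
      intro w v
      refine ⟨C (f ((w * w0i) ^ 2)) + C (2 * f (w * w0i * (v * w0i))) * Polynomial.X +
        C (f ((v * w0i) ^ 2)) * Polynomial.X ^ 2, fun t => ?_⟩
      beta_reduce
      rw [show ((w + t • v) * w0i) ^ 2 = (w * w0i) ^ 2 + (2 * t) • (w * w0i * (v * w0i)) +
        (t ^ 2) • ((v * w0i) ^ 2) by simp only [Algebra.smul_def, map_mul, map_ofNat, map_pow]; ring,
        map_add, map_add, map_smul, map_smul]
      simp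
      ring
    have hzero : ∀ w : R, f ((w * w0i) ^ 2) = 0 := by
      intro w
      by_contra hw
      obtain ⟨v, hv⟩ := exists_forall_ne_zero Finset.univ
        (fun o : Option (Fin (r + 1) ⊕ Fin (r + 1)) =>
          o.elim (fun w : R => f ((w * w0i) ^ 2)) fam)
        (fun o _ => by rcases o with _ | i; exacts [hlinef, hline i])
        (fun o _ => by rcases o with _ | i; exacts [⟨w, hw⟩, hne i])
      exact hv none (Finset.mem_univ _)
        (hf0 v fun i => hv (some i) (Finset.mem_univ _))
    have hz2 : ∀ x : R, f (x ^ 2) = 0 := fun x => by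
      have := hzero (x * w0)
      rwa [mul_assoc, hw0i, mul_one] at this
    refine hfy ?_
    have h4 : f ((y + 1) ^ 2) - f (y ^ 2) - f ((1 : R) ^ 2) = (2 : k) * f y := by
      rw [← map_sub, ← map_sub, ← smul_eq_mul, ← map_smul]
      congr 1
      rw [Algebra.smul_def, map_ofNat]
      ring
    rw [hz2, hz2, hz2, sub_zero, sub_zero, eq_comm, mul_eq_zero] at h4
    exact h4.resolve_left h2
  have hU : ∀ y, eU y ∈ gen k lam := fun y => by
    have := hSP y (hS ▸ Submodule.mem_top) 1
    rwa [one_smul] at this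
  refine ⟨hU x, ?_⟩
  have hd := detE g0
  rw [h000, h010, zero_mul, zero_sub] at hd
  have hc := conj_eU_of_swap g0 h000 (-(g0 0 1 ^ 2 * x))
  rw [show -(g0 1 0 ^ 2 * -(g0 0 1 ^ 2 * x)) = x by
    rw [h010]; linear_combination (x * (-(g0 0 1 * (lam * Q0)) - -1)) * hd] at hc
  rw [← hc]
  exact mul_mem (mul_mem hg0 (hU _)) (inv_mem hg0)

end hankel

end Cfsg.Agent.QuadPair.SL2Gen
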