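import Cfsg.Agent.Lib.QuadPair.Nilpotent
import Cfsg.Agent.Lib.QuadPair.SL2Hankel
import Mathlib.RingTheory.AdjoinRoot

/-!
Two minimal elements `a`, `b` with `a b + b a` not nilpotent: the group they generate is `SL(2)`
over the field `k(λ)`, acting naturally on `a M ⊕ b M` and trivially on a complement.
-/

set_option autoImplicit false
set_option linter.unusedSectionVars false

universe u v

namespace Cfsg.Agent.QuadPair

open Cfsg Polynomial Matrix
open scoped MatrixGroups

/-- `SL(2)` over a monogenic finite algebra is generated by `u(k)` and `l(k λ)`. -/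
def GenProp (k : Type u) [Field k] : Prop :=
  ∀ (R : Type u) [CommRing R] [Algebra k R] [FiniteDimensional k R] [Nontrivial R] (lam : R),
    IsUnit lam → Algebra.adjoin k ({lam} : Set R) = ⊤ →
      ∀ x : R, SL2Gen.eU x ∈ SL2Gen.gen k lam ∧ SL2Gen.eL x ∈ SL2Gen.gen k lam

variable {k : Type u} [Field k] {M : Type v} [AddCommGroup M] [Module k M]
variable {G : Subgroup (LinearMap.GeneralLinearGroup k M)}

section words

variable {a b : Module.End k M}

/-- `g - 1` and `g⁻¹ - 1` are combinations of words of length at least `n`. -/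
def InWords (a b : Module.End k M) (n : ℕ) (g : LinearMap.GeneralLinearGroup k M) : Prop :=
  (g : Module.End k M) - 1 ∈ words a b n ∧
    ((g⁻¹ : LinearMap.GeneralLinearGroup k M) : Module.End k M) - 1 ∈ words a b n

theorem InWords.anti {m n : ℕ} {g : LinearMap.GeneralLinearGroup k M} (h : InWords a b n g)
    (hmn : m ≤ n) : InWords a b m g :=
  ⟨words_anti hmn h.1, words_anti hmn h.2⟩

theorem InWords.one {n : ℕ} : InWords a b n (1 : LinearMap.GeneralLinearGroup k M) := by
  simp [InWords]

theorem InWords.inv {n : ℕ} {g : LinearMap.GeneralLinearGroup k M} (h : InWords a b n g) :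
    InWords a b n g⁻¹ :=
  ⟨h.2, by rw [inv_inv]; exact h.1⟩

theorem sub_one_mul_mem {n : ℕ} {g h : LinearMap.GeneralLinearGroup k M}
    (hg : (g : Module.End k M) - 1 ∈ words a b n) (hh : (h : Module.End k M) - 1 ∈ words a b n) :
    ((g * h : LinearMap.GeneralLinearGroup k M) : Module.End k M) - 1 ∈ words a b n := by
  rw [show ((g * h : LinearMap.GeneralLinearGroup k M) : Module.End k M) - 1 =
    ((g : Module.End k M) - 1) * ((h : Module.End k M) - 1) + ((g : Module.End k M) - 1) +
      ((h : Module.End k M) - 1) by rw [Units.val_mul]; noncomm_ring]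
  exact add_mem (add_mem (words_anti (Nat.le_add_right n n) (mul_mem_words hg hh)) hg) hh

theorem InWords.mul {n : ℕ} {g h : LinearMap.GeneralLinearGroup k M} (hg : InWords a b n g)
    (hh : InWords a b n h) : InWords a b n (g * h) :=
  ⟨sub_one_mul_mem hg.1 hh.1, by rw [_root_.mul_inv_rev]; exact sub_one_mul_mem hh.2 hg.2⟩

theorem commutator_mem {n : ℕ} {g h : LinearMap.GeneralLinearGroup k M}
    (hg : (g : Module.End k M) - 1 ∈ words a b n) (hh : (h : Module.End k M) - 1 ∈ words a b 1)
    (hu : ((g⁻¹ * h⁻¹ : LinearMap.GeneralLinearGroup k M) : Module.End k M) - 1 ∈ words a b 1) :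
    ((g * h * g⁻¹ * h⁻¹ : LinearMap.GeneralLinearGroup k M) : Module.End k M) - 1 ∈
      words a b (n + 1) := by
  rw [commutator_sub_one]
  have hY : ((g : Module.End k M) - 1) * ((h : Module.End k M) - 1) -
      ((h : Module.End k M) - 1) * ((g : Module.End k M) - 1) ∈ words a b (n + 1) :=
    sub_mem (mul_mem_words hg hh) (add_comm 1 n ▸ mul_mem_words hh hg)
  have h1 := add_mem (words_anti (Nat.le_succ _) (mul_mem_words_of_sub hY hu)) hY
  rwa [sub_add_cancel] at h1

theorem InWords.comm {n : ℕ} {g h : LinearMap.GeneralLinearGroup k M} (hn : 1 ≤ n)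
    (hg : InWords a b n g) (hh : InWords a b 1 h) :
    InWords a b (n + 1) (g * h * g⁻¹ * h⁻¹) := by
  refine ⟨commutator_mem hg.1 hh.1 ((hg.anti hn).inv.mul hh.inv).1, ?_⟩
  rw [show (g * h * g⁻¹ * h⁻¹)⁻¹ = h * g * h⁻¹ * g⁻¹ by group, commutator_sub_one]
  have hY : ((h : Module.End k M) - 1) * ((g : Module.End k M) - 1) -
      ((g : Module.End k M) - 1) * ((h : Module.End k M) - 1) ∈ words a b (n + 1) :=
    sub_mem (add_comm 1 n ▸ mul_mem_words hh.1 hg.1) (mul_mem_words hg.1 hh.1)
  have h1 := add_mem (words_anti (Nat.le_succ _)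
    (mul_mem_words_of_sub hY (hh.inv.mul (hg.anti hn).inv).1)) hY
  rwa [sub_add_cancel] at h1

theorem inWords_left (ha : a * a = 0) (c : k) :
    InWords a b 1 (onePlus (c • a) (smul_sq ha c)) := by
  refine ⟨?_, ?_⟩
  · rw [coe_onePlus, add_sub_cancel_left]; exact Submodule.smul_mem _ c left_mem_words
  · rw [coe_onePlus_inv, sub_sub_cancel_left]
    exact neg_mem (Submodule.smul_mem _ c left_mem_words)

theorem inWords_right (hb : b * b = 0) (c : k) :
    InWords a b 1 (onePlus (c • b) (smul_sq hb c)) := by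
  refine ⟨?_, ?_⟩
  · rw [coe_onePlus, add_sub_cancel_left]; exact Submodule.smul_mem _ c right_mem_words
  · rw [coe_onePlus_inv, sub_sub_cancel_left]
    exact neg_mem (Submodule.smul_mem _ c right_mem_words)

end words

/-- The rules of a pair: `ι : R → End M` multiplicative onto the corner `π`. -/
structure Corner (a b : Module.End k M) (R : Type u) [CommRing R] [Algebra k R] (lam : R) where
  li : R
  lam_li : lam * li = 1
  map : R →ₗ[k] Module.End k M
  map_mul : ∀ x y, map (x * y) = map x * map y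
  map_lam : ∀ x, map x * (a * b + b * a) = map (x * lam)
  comm_left : ∀ x, map x * a = a * map x
  comm_right : ∀ x, map x * b = b * map x
  sq_left : a * a = 0
  sq_right : b * b = 0

namespace Corner

variable {a b : Module.End k M} {R : Type u} [CommRing R] [Algebra k R] {lam : R}
  (C : Corner a b R lam)

theorem mul_left (x y : R) (v : Module.End k M) :
    C.map x * a * (C.map y * v) = C.map (x * y) * (a * v) := by
  rw [C.map_mul, mul_assoc, ← mul_assoc a, ← C.comm_left]
  simp only [mul_assoc]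

theorem mul_right (x y : R) (v : Module.End k M) :
    C.map x * b * (C.map y * v) = C.map (x * y) * (b * v) := by
  rw [C.map_mul, mul_assoc, ← mul_assoc b, ← C.comm_right]
  simp only [mul_assoc]

theorem mul_lr (x y : R) (v : Module.End k M) :
    C.map x * (a * b) * (C.map y * v) = C.map (x * y) * (a * b * v) := by
  rw [C.map_mul, mul_assoc, ← mul_assoc (a * b), mul_assoc a b, ← C.comm_right, ← mul_assoc a,
    ← C.comm_left]
  simp only [mul_assoc]

theorem mul_rl (x y : R) (v : Module.End k M) :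
    C.map x * (b * a) * (C.map y * v) = C.map (x * y) * (b * a * v) := by
  rw [C.map_mul, mul_assoc, ← mul_assoc (b * a), mul_assoc b a, ← C.comm_left, ← mul_assoc b,
    ← C.comm_right]
  simp only [mul_assoc]

/-- The corner idempotent. -/
def idem : Module.End k M := C.map 1

theorem idem_mul_map (x : R) : C.idem * C.map x = C.map x := by
  rw [idem, ← C.map_mul, one_mul]

theorem map_mul_idem (x : R) : C.map x * C.idem = C.map x := by
  rw [idem, ← C.map_mul, mul_one]

/-- The matrix units of `M₂(R)` in `End M`. -/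
def psi (g : SL(2, R)) : Module.End k M :=
  C.map (g 0 0 * C.li) * (a * b) + C.map (g 0 1) * a + C.map (g 1 0 * C.li) * b +
    C.map (g 1 1 * C.li) * (b * a)

theorem idem_mul_psi (g : SL(2, R)) : C.idem * C.psi g = C.psi g := by
  simp only [psi, mul_add, ← mul_assoc, idem_mul_map]

theorem psi_mul (g h : SL(2, R)) : C.psi g * C.psi h = C.psi (g * h) := by
  have r1 : a * b * (a * b) = (a * b + b * a) * (a * b) := by
    rw [← mul_assoc, aba C.sq_left, mul_assoc]
  have r2 : a * b * a = (a * b + b * a) * a := aba C.sq_left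
  have r3 : a * b * b = 0 := by rw [mul_assoc, C.sq_right, mul_zero]
  have r4 : a * b * (b * a) = 0 := by rw [← mul_assoc, r3, zero_mul]
  have r5 : a * (a * b) = 0 := by rw [← mul_assoc, C.sq_left, zero_mul]
  have r6 : a * (b * a) = (a * b + b * a) * a := by rw [← mul_assoc]; exact r2
  have r7 : b * (a * b) = (a * b + b * a) * b := by rw [← mul_assoc]; exact bab C.sq_right
  have r8 : b * (b * a) = 0 := by rw [← mul_assoc, C.sq_right, zero_mul]
  have r9 : b * a * (a * b) = 0 := by rw [mul_assoc, r5, mul_zero]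
  have r10 : b * a * a = 0 := by rw [mul_assoc, C.sq_left, mul_zero]
  have r11 : b * a * b = (a * b + b * a) * b := bab C.sq_right
  have r12 : b * a * (b * a) = (a * b + b * a) * (b * a) := by
    rw [← mul_assoc, bab C.sq_right, mul_assoc]
  have hz : ∀ x v, C.map x * ((a * b + b * a) * v) = C.map (x * lam) * v := fun x v => by
    rw [← mul_assoc, C.map_lam]
  simp only [psi, mul_add, add_mul, C.mul_left, C.mul_right, C.mul_lr, C.mul_rl]
  simp only [r1, r2, r3, r4, r5, r6, r7, r8, r9, r10, r11, r12, C.sq_left, C.sq_right, mul_zero,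
    add_zero, zero_add, hz, SL2Gen.mulE, add_mul (R := R), map_add]
  have hli : ∀ x y : R, x * C.li * (y * C.li) * lam = x * y * C.li := fun x y => by
    linear_combination (x * y * C.li) * C.lam_li
  have hli1 : ∀ x y : R, x * C.li * y * lam = x * y := fun x y => by
    linear_combination (x * y) * C.lam_li
  have hli2 : ∀ x y : R, x * (y * C.li) * lam = x * y := fun x y => by
    linear_combination (x * y) * C.lam_li
  simp only [hli, hli1, hli2]
  simp only [mul_assoc, add_mul, mul_comm C.li (h 0 1)]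
  abel

theorem psi_one : C.psi 1 = C.idem := by
  simp only [psi, Matrix.SpecialLinearGroup.coe_one, Matrix.one_apply_eq, one_mul,
    Matrix.one_apply_ne (show (0 : Fin 2) ≠ 1 by decide),
    Matrix.one_apply_ne (show (1 : Fin 2) ≠ 0 by decide), zero_mul, map_zero, add_zero]
  rw [← mul_add, C.map_lam, mul_comm, C.lam_li]
  rfl

theorem psi_idem (g : SL(2, R)) : C.psi g * C.idem = C.psi g := by
  rw [← C.psi_one, C.psi_mul, mul_one]

/-- The action of `SL(2, R)` on `M`. -/
def rep : SL(2, R) →* LinearMap.GeneralLinearGroup k M :=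
  MonoidHom.toHomUnits
    { toFun := fun g => 1 - C.idem + C.psi g
      map_one' := by rw [C.psi_one, sub_add_cancel]
      map_mul' := fun g h => by
        have e0 : C.idem * C.idem = C.idem := C.idem_mul_map 1
        simp only [mul_add, add_mul, sub_mul, mul_sub, one_mul, mul_one, C.idem_mul_psi,
          C.psi_idem, C.psi_mul, e0]
        abel }

theorem coe_rep (g : SL(2, R)) : (C.rep g : Module.End k M) = 1 - C.idem + C.psi g := rfl

theorem rep_eU (x : R) : (C.rep (SL2Gen.eU x) : Module.End k M) = 1 + C.map x * a := by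
  rw [C.coe_rep, psi]
  simp only [SL2Gen.eU00, SL2Gen.eU01, SL2Gen.eU10, SL2Gen.eU11, zero_mul, map_zero, one_mul,
    add_zero]
  rw [add_right_comm (C.map C.li * (a * b)), ← mul_add, C.map_lam, mul_comm C.li, C.lam_li, idem]
  abel

theorem rep_eL (x : R) : (C.rep (SL2Gen.eL x) : Module.End k M) = 1 + C.map (x * C.li) * b := by
  rw [C.coe_rep, psi]
  simp only [SL2Gen.eL00, SL2Gen.eL01, SL2Gen.eL10, SL2Gen.eL11, zero_mul, map_zero, one_mul,
    add_zero]
  rw [add_right_comm (C.map C.li * (a * b)), ← mul_add, C.map_lam, mul_comm C.li, C.lam_li, idem]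
  abel

end Corner

set_option maxHeartbeats 1000000 in
theorem exists_corner [FiniteDimensional k M] {a b : Module.End k M} (ha : a * a = 0)
    (hb : b * b = 0) (hz : ¬ IsNilpotent (a * b + b * a)) :
    ∃ (R : Type u) (_ : CommRing R) (_ : Algebra k R) (_ : FiniteDimensional k R) (_ : Nontrivial R)
      (lam : R) (C : Corner a b R lam) (N : ℕ), IsUnit lam ∧
      Algebra.adjoin k ({lam} : Set R) = ⊤ ∧ Function.Injective C.map ∧
      C.idem * C.idem = C.idem ∧
      (1 - C.idem) * (a * b + b * a) ^ N = 0 := by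
  classical
  set z := a * b + b * a with hzdef
  have hint : IsIntegral k z := Algebra.IsIntegral.isIntegral z
  have hμ : minpoly k z ≠ 0 := minpoly.ne_zero hint
  obtain ⟨F1, hF, hndvd⟩ :=
    Polynomial.exists_eq_pow_rootMultiplicity_mul_and_not_dvd (minpoly k z) hμ 0
  set e := (minpoly k z).rootMultiplicity 0 with he
  rw [map_zero, sub_zero] at hF hndvd
  have hm : F1.Monic := (monic_X_pow e).of_mul_monic_left (hF ▸ minpoly.monic hint)
  have hcop : IsCoprime (X : k[X]) F1 := (irreducible_X.coprime_iff_not_dvd).2 hndvd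
  obtain ⟨s, t, hst⟩ := hcop.pow_left (m := e)
  have hμ0 : aeval z (X ^ e * F1) = 0 := by rw [← hF]; exact minpoly.aeval k z
  have hdeg : F1.degree ≠ 0 := by
    intro h0
    refine hz ⟨e, ?_⟩
    rw [eq_C_of_degree_le_zero h0.le] at hm hμ0
    rw [Monic, leadingCoeff_C] at hm
    rw [hm, map_one, mul_one, map_pow, aeval_X] at hμ0
    exact hμ0
  have := AdjoinRoot.nontrivial F1 hdeg
  have : FiniteDimensional k (AdjoinRoot F1) := (AdjoinRoot.powerBasis' hm).finite
  let π := aeval z (s * X ^ e)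
  let f : k[X] →ₗ[k] Module.End k M :=
    (LinearMap.mulRight k π).comp (aeval z).toLinearMap
  have hf : ∀ p, f p = aeval z (p * (s * X ^ e)) := fun p => (map_mul (aeval z) p _).symm
  have hker : ∀ p q : k[X], F1 ∣ p - q → f p = f q := by
    rintro p q ⟨c, hc⟩
    rw [← sub_eq_zero, hf, hf, ← map_sub, ← sub_mul, hc,
      show F1 * c * (s * X ^ e) = X ^ e * F1 * (c * s) by ring, map_mul, hμ0, zero_mul]
  have hπ : π * π = π := by
    have h1 := hker (s * X ^ e) 1 ⟨-t, by linear_combination hst⟩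
    rw [hf, hf, one_mul, map_mul] at h1
    exact h1
  have hfmul : ∀ p q : k[X], f (p * q) = f p * f q := by
    intro p q
    rw [hf, hf, hf, ← map_mul]
    have h1 : f (p * q * (s * X ^ e)) = f (p * q * 1) :=
      hker _ _ ⟨-(p * q * t), by linear_combination (p * q) * hst⟩
    rw [hf, hf, mul_one] at h1
    rw [show p * (s * X ^ e) * (q * (s * X ^ e)) = p * q * (s * X ^ e) * (s * X ^ e) by ring, h1]
  have hsurj : Function.Surjective (AdjoinRoot.mk F1) := AdjoinRoot.mk_surjective
  let g : AdjoinRoot F1 → Module.End k M := fun x => f (hsurj x).choose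
  have hg : ∀ p, g (AdjoinRoot.mk F1 p) = f p := fun p =>
    hker _ _ (AdjoinRoot.mk_eq_mk.1 (hsurj (AdjoinRoot.mk F1 p)).choose_spec)
  obtain ⟨s', t', hst'⟩ := hcop
  have hroot : AdjoinRoot.root F1 * AdjoinRoot.mk F1 s' = 1 := by
    rw [← AdjoinRoot.mk_X, ← map_mul, ← map_one (AdjoinRoot.mk F1), AdjoinRoot.mk_eq_mk]
    exact ⟨-t', by linear_combination hst'⟩
  have hcomm : ∀ (v : Module.End k M), z * v = v * z → ∀ p : k[X], aeval z p * v = v * aeval z p :=
    by
    intro v hv p
    induction p using Polynomial.induction_on' with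
    | add p q hp hq => rw [map_add, add_mul, mul_add, hp, hq]
    | monomial n c =>
      rw [aeval_monomial, mul_assoc, z_pow_comm hv, ← mul_assoc,
        Algebra.commutes c v, mul_assoc]
  let C : Corner a b (AdjoinRoot F1) (AdjoinRoot.root F1) :=
    { li := AdjoinRoot.mk F1 s'
      lam_li := hroot
      map :=
        { toFun := g
          map_add' := by
            intro x y
            obtain ⟨p, rfl⟩ := hsurj x
            obtain ⟨q, rfl⟩ := hsurj y
            rw [← map_add, hg, hg, hg, map_add]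
          map_smul' := by
            intro c x
            obtain ⟨p, rfl⟩ := hsurj x
            rw [RingHom.id_apply, AdjoinRoot.smul_mk, hg, hg, map_smul] }
      map_mul := by
        intro x y
        obtain ⟨p, rfl⟩ := hsurj x
        obtain ⟨q, rfl⟩ := hsurj y
        show g _ = g _ * g _
        rw [← map_mul, hg, hg, hg, hfmul]
      map_lam := by
        intro x
        obtain ⟨p, rfl⟩ := hsurj x
        show g _ * z = g _
        rw [← AdjoinRoot.mk_X, ← map_mul, hg, hg, hf, hf]
        rw [show p * X * (s * X ^ e) = p * (s * X ^ e) * X by ring, map_mul _ _ X, aeval_X]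
      comm_left := by
        intro x
        obtain ⟨p, rfl⟩ := hsurj x
        show g _ * a = a * g _
        rw [hg, hf]
        exact hcomm a (z_comm_left ha) _
      comm_right := by
        intro x
        obtain ⟨p, rfl⟩ := hsurj x
        show g _ * b = b * g _
        rw [hg, hf]
        exact hcomm b (z_comm_right hb) _
      sq_left := ha
      sq_right := hb }
  have hidem : C.idem = π := by
    show g 1 = π
    rw [← map_one (AdjoinRoot.mk F1), hg, hf, one_mul]
  refine ⟨AdjoinRoot F1, inferInstance, inferInstance, inferInstance, inferInstance,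
    AdjoinRoot.root F1, C, e, ⟨⟨_, _, hroot, by rw [mul_comm]; exact hroot⟩, rfl⟩,
    AdjoinRoot.adjoinRoot_eq_top, ?_, by rw [hidem]; exact hπ, ?_⟩
  · rw [injective_iff_map_eq_zero]
    intro x hx
    obtain ⟨q, rfl⟩ := hsurj x
    have h0 : g (AdjoinRoot.mk F1 q) = 0 := hx
    rw [hg, hf] at h0
    have h1 : X ^ e * F1 ∣ q * (s * X ^ e) := hF ▸ minpoly.dvd k z h0
    have h3 : F1 ∣ q * (s * X ^ e) + q * t * F1 :=
      dvd_add ((dvd_mul_left F1 _).trans h1) (dvd_mul_left F1 _)
    rw [show q * (s * X ^ e) + q * t * F1 = q by linear_combination q * hst] at h3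
    rw [AdjoinRoot.mk_eq_zero]
    exact h3
  rw [hidem, show z ^ e = aeval z (X ^ e : k[X]) by rw [map_pow, aeval_X],
    show (1 : Module.End k M) - π = aeval z (1 - s * X ^ e) by rw [map_sub, map_one], ← map_mul,
    show (1 - s * X ^ e) * X ^ e = X ^ e * F1 * t by linear_combination -(X ^ e) * hst,
    map_mul, hμ0, zero_mul]

variable [FiniteDimensional k M]

theorem exists_torus (hk2 : (2 : k) ≠ 0) (hk3 : Nat.card k ≠ 3) : ∃ t : k, t ≠ 0 ∧ t * t ≠ 1 := by
  by_contra hall
  push Not at hall
  have huniv : ∀ t : k, t = 0 ∨ t = 1 ∨ t = -1 := fun t => by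
    by_cases ht : t = 0
    · exact Or.inl ht
    · exact Or.inr (mul_self_eq_one_iff.1 (hall t ht))
  refine hk3 ?_
  classical
  have hne : (1 : k) ≠ -1 := fun h => hk2 (by linear_combination h)
  rw [← Nat.card_univ,
    show (Set.univ : Set k) = ↑({0, 1, -1} : Finset k) from (Set.eq_univ_of_forall fun t => by
      simp only [Finset.coe_insert, Finset.coe_singleton, Set.mem_insert_iff, Set.mem_singleton_iff]
      exact huniv t).symm, Nat.card_eq_fintype_card]
  simp [hne]

set_option maxHeartbeats 1000000 in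
/-- Any two square-zero elements with `a b + b a` not nilpotent: `SL(2, R)` acts on the corner, and
the elementary matrices land in the group. -/
theorem exists_pre (hgen : GenProp k) (hk2 : (2 : k) ≠ 0) (hk3 : Nat.card k ≠ 3)
    {a b : Module.End k M} (ha : a * a = 0) (hb : b * b = 0) (haf : Fam G a) (hbf : Fam G b)
    (hz : ¬ IsNilpotent (a * b + b * a)) :
    ∃ (R : Type u) (_ : CommRing R) (_ : Algebra k R) (_ : FiniteDimensional k R) (_ : Nontrivial R)
      (lam : R) (C : Corner a b R lam),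
      IsUnit lam ∧ Algebra.adjoin k ({lam} : Set R) = ⊤ ∧ Function.Injective C.map ∧
      C.idem * C.idem = C.idem ∧ C.idem ≠ 0 ∧
      ∀ x, C.rep (SL2Gen.eU x) ∈ G ∧ C.rep (SL2Gen.eL x) ∈ G := by
  obtain ⟨R, _, _, _, _, lam, C, N, hu, hadj, hinj, hidem, hN⟩ := exists_corner ha hb hz
  set p := C.idem with hp
  have hpa : p * a = a * p := C.comm_left 1
  have hpb : p * b = b * p := C.comm_right 1
  -- lifts
  let L : ℕ → Subgroup SL(2, R) := fun n =>
    { carrier := {x | ∃ h ∈ G, InWords a b n h ∧ p * (h : Module.End k M) = C.psi x}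
      one_mem' := ⟨1, G.one_mem, InWords.one, by rw [Units.val_one, mul_one, C.psi_one]⟩
      mul_mem' := by
        rintro x y ⟨g, hg, hgw, hgx⟩ ⟨h, hh, hhw, hhy⟩
        refine ⟨g * h, G.mul_mem hg hh, hgw.mul hhw, ?_⟩
        rw [Units.val_mul, ← mul_assoc, hgx, ← C.psi_idem, mul_assoc, ← hp, hhy, C.psi_mul]
      inv_mem' := by
        rintro x ⟨g, hg, hgw, hgx⟩
        refine ⟨g⁻¹, G.inv_mem hg, hgw.inv, ?_⟩
        have h1 : C.psi x⁻¹ * (p * (g : Module.End k M)) = p := by
          rw [hgx, C.psi_mul, inv_mul_cancel, C.psi_one]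
        conv_lhs => rw [← h1, ← mul_assoc, C.psi_idem]
        rw [mul_assoc, ← Units.val_mul, mul_inv_cancel, Units.val_one, mul_one] }
  have hmemL : ∀ n x, x ∈ L n ↔
      ∃ h ∈ G, InWords a b n h ∧ p * (h : Module.End k M) = C.psi x := fun n x => Iff.rfl
  have hmapc : ∀ c : k, C.map (algebraMap k R c) = c • p := fun c => by
    rw [Algebra.algebraMap_eq_smul_one, map_smul]; rfl
  have hpsiU : ∀ x, C.psi (SL2Gen.eU x) = p + C.map x * a := fun x => by
    have h1 := C.rep_eU x
    rw [C.coe_rep, ← hp, sub_add, sub_eq_add_neg, add_left_cancel_iff, neg_sub,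
      sub_eq_iff_eq_add] at h1
    rw [h1, add_comm]
  have hpsiL : ∀ x, C.psi (SL2Gen.eL x) = p + C.map (x * C.li) * b := fun x => by
    have h1 := C.rep_eL x
    rw [C.coe_rep, ← hp, sub_add, sub_eq_add_neg, add_left_cancel_iff, neg_sub,
      sub_eq_iff_eq_add] at h1
    rw [h1, add_comm]
  have hbase : SL2Gen.gen k lam ≤ L 1 := by
    refine (Subgroup.closure_le _).2 ?_
    rintro _ (⟨c, rfl⟩ | ⟨c, rfl⟩)
    · refine ⟨_, (haf c).onePlus_mem (smul_sq ha c), inWords_left ha c, ?_⟩
      rw [coe_onePlus, mul_add, mul_one, hpsiU, hmapc, mul_smul_comm, smul_mul_assoc]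
    · refine ⟨_, (hbf c).onePlus_mem (smul_sq hb c), inWords_right hb c, ?_⟩
      rw [coe_onePlus, mul_add, mul_one, hpsiL, mul_assoc, C.lam_li, mul_one, hmapc,
        mul_smul_comm, smul_mul_assoc]
  have hU1 : ∀ x, SL2Gen.eU x ∈ L 1 ∧ SL2Gen.eL x ∈ L 1 := fun x =>
    ⟨hbase (hgen R lam hu hadj x).1, hbase (hgen R lam hu hadj x).2⟩
  obtain ⟨t, ht0, ht1⟩ := exists_torus hk2 hk3
  let ti : R := algebraMap k R t⁻¹
  let tt : R := algebraMap k R t
  have htt : tt * ti = 1 := by
    rw [← map_mul, mul_inv_cancel₀ ht0, map_one]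
  let nn : R → R → SL(2, R) := fun x y => SL2Gen.eU x * SL2Gen.eL (-y) * SL2Gen.eU x
  set hh := nn tt ti * (nn 1 1)⁻¹ with hhh
  have hhL : hh ∈ L 1 :=
    mul_mem (mul_mem (mul_mem (hU1 _).1 (hU1 _).2) (hU1 _).1)
      (inv_mem (mul_mem (mul_mem (hU1 _).1 (hU1 _).2) (hU1 _).1))
  have e00 : hh 0 0 = tt ∧ hh 0 1 = 0 ∧ hh 1 0 = 0 ∧ hh 1 1 = ti := by
    simp only [hhh, nn, SL2Gen.mulE, SL2Gen.invE00, SL2Gen.invE01, SL2Gen.invE10, SL2Gen.invE11,
      SL2Gen.eU00, SL2Gen.eU01, SL2Gen.eU10, SL2Gen.eU11, SL2Gen.eL00, SL2Gen.eL01, SL2Gen.eL10,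
      SL2Gen.eL11]
    refine ⟨?_, ?_, ?_, ?_⟩
    · linear_combination (-tt) * htt
    · linear_combination htt
    · linear_combination (-1 : R) * htt
    · linear_combination (0 : R) * htt
  obtain ⟨e00, e01, e10, e11⟩ := e00
  obtain ⟨q, hq⟩ : ∃ q : R, (1 - tt ^ 2) * q = 1 := ⟨algebraMap k R (1 - t ^ 2)⁻¹, by
    rw [← map_pow, ← map_one (algebraMap k R), ← map_sub, ← map_mul, mul_inv_cancel₀
      (sub_ne_zero.2 fun h => ht1 (by rw [← pow_two]; exact h.symm))]⟩
  have hstep : ∀ n, 1 ≤ n → (∀ x, SL2Gen.eU x ∈ L n ∧ SL2Gen.eL x ∈ L n) →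
      ∀ x, SL2Gen.eU x ∈ L (n + 1) ∧ SL2Gen.eL x ∈ L (n + 1) := by
    intro n hn hx x
    have comm : ∀ v w, v ∈ L n → w ∈ L 1 → v * w * v⁻¹ * w⁻¹ ∈ L (n + 1) := by
      intro v w hv hw
      obtain ⟨g, hg, hgw, hgv⟩ := (hmemL _ _).1 hv
      obtain ⟨h, hh', hhw, hhv⟩ := (hmemL _ _).1 hw
      obtain ⟨gi, hgi, hgiw, hgiv⟩ := (hmemL _ _).1 (inv_mem hv)
      refine ⟨g * h * g⁻¹ * h⁻¹, G.mul_mem (G.mul_mem (G.mul_mem hg hh') (G.inv_mem hg))
        (G.inv_mem hh'), hgw.comm hn hhw, ?_⟩
      have key : ∀ {g' : LinearMap.GeneralLinearGroup k M} {v' : SL(2, R)},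
          p * (g' : Module.End k M) = C.psi v' →
          p * ((g'⁻¹ : LinearMap.GeneralLinearGroup k M) : Module.End k M) = C.psi v'⁻¹ := by
        intro g' v' e
        have h1 : C.psi v'⁻¹ * (p * (g' : Module.End k M)) = p := by
          rw [e, C.psi_mul, inv_mul_cancel, C.psi_one]
        conv_lhs => rw [← h1, ← mul_assoc, C.psi_idem]
        rw [mul_assoc, ← Units.val_mul, mul_inv_cancel, Units.val_one, mul_one]
      have m2 : ∀ {g' h'' : LinearMap.GeneralLinearGroup k M} {v' w' : SL(2, R)},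
          p * (g' : Module.End k M) = C.psi v' → p * (h'' : Module.End k M) = C.psi w' →
          p * ((g' * h'' : LinearMap.GeneralLinearGroup k M) : Module.End k M) =
            C.psi (v' * w') := by
        intro g' h'' v' w' e1 e2
        rw [Units.val_mul, ← mul_assoc, e1, ← C.psi_idem, mul_assoc, ← hp, e2, C.psi_mul]
      exact m2 (m2 (m2 hgv hhv) (key hgv)) (key hhv)
    constructor
    · have h1 := comm _ _ (hx (x * q)).1 hhL
      rwa [show SL2Gen.eU (x * q) * hh * (SL2Gen.eU (x * q))⁻¹ * hh⁻¹ = SL2Gen.eU x by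
        rw [mul_assoc (SL2Gen.eU (x * q)), SL2Gen.eU_inv, mul_assoc (SL2Gen.eU (x * q)),
          SL2Gen.conj_eU_of_borel hh e10, SL2Gen.eU_mul, e00]
        congr 1
        linear_combination x * hq] at h1
    · have h1 := comm _ _ (hx (-(tt ^ 2) * x * q)).2 hhL
      rwa [show SL2Gen.eL (-(tt ^ 2) * x * q) * hh * (SL2Gen.eL (-(tt ^ 2) * x * q))⁻¹ * hh⁻¹ =
          SL2Gen.eL x by
        rw [SL2Gen.eL_inv]
        apply SL2Gen.ext22 <;>
          simp only [SL2Gen.mulE, SL2Gen.invE00, SL2Gen.invE01, SL2Gen.invE10, SL2Gen.invE11,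
            SL2Gen.eL00, SL2Gen.eL01, SL2Gen.eL10, SL2Gen.eL11, e00, e01, e10, e11]
        · linear_combination htt
        · ring
        · linear_combination x * hq + (x * q * (tt * ti + 1) - tt ^ 2 * x * q) * htt
        · linear_combination htt] at h1
  have hall : ∀ n, ∀ x, SL2Gen.eU x ∈ L (n + 1) ∧ SL2Gen.eL x ∈ L (n + 1) := by
    intro n
    induction n with
    | zero => exact hU1
    | succ n ih => exact hstep (n + 1) (Nat.le_add_left 1 n) ih
  have hkill : ∀ v ∈ words a b (2 * N + 1), (1 - p) * v = 0 := by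
    intro v hv
    have hle : words a b (2 * N + 1) ≤ LinearMap.ker (LinearMap.mulLeft k (1 - p)) := by
      refine iSup_le fun j => ?_
      have key : ∀ i, N ≤ i → ∀ w : Module.End k M, (1 - p) * ((a * b + b * a) ^ i * w) = 0 := by
        intro i hi w
        obtain ⟨l, rfl⟩ := Nat.exists_eq_add_of_le hi
        rw [pow_add, mul_assoc, ← mul_assoc, hN, zero_mul]
      rcases Nat.even_or_odd' (2 * N + 1 + j) with ⟨i, hi | hi⟩
      · rw [hi, show 2 * i = 2 * (i - 1) + 2 by omega]
        refine (lin_pow_le ha hb (i - 1)).2.trans (Submodule.span_le.2 ?_)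
        rintro _ (rfl | rfl) <;> exact key _ (by omega) _
      · rw [hi]
        refine (lin_pow_le ha hb i).1.trans (Submodule.span_le.2 ?_)
        rintro _ (rfl | rfl) <;> exact key _ (by omega) _
    exact hle hv
  have hrep : ∀ n, 2 * N + 1 ≤ n → ∀ x ∈ L n, C.rep x ∈ G := by
    intro n hn x hx
    obtain ⟨h, hh', hhw, hhx⟩ := (hmemL _ _).1 hx
    have h1 := hkill _ (words_anti hn hhw.1)
    have e : h = C.rep x := Units.ext (by
      rw [C.coe_rep, ← hp, ← hhx]
      rw [mul_sub, mul_one, sub_mul, one_mul, sub_eq_zero] at h1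
      rw [← h1, sub_add_cancel])
    rwa [← e]
  have hrU : ∀ x, C.rep (SL2Gen.eU x) ∈ G ∧ C.rep (SL2Gen.eL x) ∈ G := fun x =>
    ⟨hrep _ (Nat.le_refl _) _ (hall (2 * N) x).1, hrep _ (Nat.le_refl _) _ (hall (2 * N) x).2⟩
  have hp0 : p ≠ 0 := by
    intro h0
    refine hz ⟨N, ?_⟩
    rwa [h0, sub_zero, one_mul] at hN
  exact ⟨R, inferInstance, inferInstance, inferInstance, inferInstance, lam, C, hu, hadj, hinj,
    hidem, hp0, hrU⟩

/-- A minimal element commuting with the corner lies in it. -/
theorem Corner.fix_of_isMin {a b c d : Module.End k M} {R : Type u} [CommRing R] [Algebra k R]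
    {lam : R} (C : Corner a b R lam) (hidem : C.idem * C.idem = C.idem) (hp0 : C.idem ≠ 0)
    (hc : IsMin G c) (hpc : C.idem * c = c * C.idem) (hpd : C.idem * d = d * C.idem)
    (hcd : a * b + b * a = c * d + d * c)
    (hg : ∀ t : k, ∃ g ∈ G, (g : Module.End k M) = 1 + t • (C.idem * c)) : C.idem * c = c := by
  set p := C.idem with hp
  have hsq : ((1 - p) * c) * ((1 - p) * c) = 0 := by
    rw [mul_assoc, ← mul_assoc c (1 - p), mul_sub, mul_one, ← hpc, sub_mul c, mul_assoc, hc.sq,
      mul_zero, sub_zero, mul_zero]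
  by_contra hne
  have hfam : Fam G ((1 - p) * c) := by
    intro t
    obtain ⟨g, hgG, hge⟩ := hg (-t)
    refine ⟨onePlus _ (smul_sq hc.sq t) * g,
      G.mul_mem ((hc.fam t).onePlus_mem _) hgG, ?_⟩
    have e0 : c * (p * c) = 0 := by rw [hpc, ← mul_assoc, hc.sq, zero_mul]
    rw [Units.val_mul, coe_onePlus, hge, mul_add, mul_one, add_mul, one_mul, smul_mul_assoc,
      mul_smul_comm, e0, smul_zero, smul_zero, add_zero, sub_mul, one_mul, smul_sub, neg_smul,
      add_assoc, sub_eq_add_neg]
  have hne' : (1 - p) * c ≠ 0 := by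
    rw [sub_mul, one_mul, sub_ne_zero]
    exact fun h => hne h.symm
  have hle : LinearMap.range ((1 - p) * c) ≤ LinearMap.range c := by
    rw [sub_mul, one_mul, hpc]
    rintro _ ⟨m, rfl⟩
    exact sub_mem ⟨m, rfl⟩ ⟨p m, rfl⟩
  have heq := hc.range_eq hsq hne' hfam hle
  have hpc0 : p * c = 0 := LinearMap.ext fun m => by
    obtain ⟨n, hn⟩ := heq.ge (LinearMap.mem_range_self c m)
    show p (c m) = 0
    rw [← hn, ← Module.End.mul_apply, ← mul_assoc, mul_sub, mul_one, hidem, sub_self, zero_mul]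
    rfl
  refine hp0 ?_
  have h1 : p * (a * b + b * a) = 0 := by
    rw [hcd, mul_add, ← mul_assoc, hpc0, zero_mul, zero_add, ← mul_assoc, hpd, mul_assoc, hpc0,
      mul_zero]
  have h2 : p = C.map (1 * lam) * C.map C.li := by
    rw [← C.map_mul, one_mul, C.lam_li]; rfl
  rw [h2, ← C.map_lam 1]
  show p * (a * b + b * a) * C.map C.li = 0
  rw [h1, zero_mul]

set_option maxHeartbeats 1000000 in
/-- The full `SL(2, R)` lies in the group, `a` and `b` live in the corner, `R` is a field. -/
theorem exists_rep (hgen : GenProp k) (hk2 : (2 : k) ≠ 0) (hk3 : Nat.card k ≠ 3)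
    {a b : Module.End k M} (ha : IsMin G a) (hb : IsMin G b)
    (hz : ¬ IsNilpotent (a * b + b * a)) :
    ∃ (R : Type u) (_ : CommRing R) (_ : Algebra k R) (lam : R) (C : Corner a b R lam),
      FiniteDimensional k R ∧ IsField R ∧ IsUnit lam ∧ Algebra.adjoin k ({lam} : Set R) = ⊤ ∧
      C.idem * a = a ∧ C.idem * b = b ∧ (∀ g, C.rep g ∈ G) ∧ Function.Injective C.rep ∧
      (⊤ : Subgroup SL(2, R)) = SL2Gen.gen k lam := by
  obtain ⟨R, _, _, _, _, lam, C, hu, hadj, hinj, hidem, hp0, hrU⟩ :=
    exists_pre hgen hk2 hk3 ha.sq hb.sq ha.fam hb.fam hz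
  set p := C.idem with hp
  have hpa : p * a = a * p := C.comm_left 1
  have hpb : p * b = b * p := C.comm_right 1
  have hmapc : ∀ c : k, C.map (algebraMap k R c) = c • p := fun c => by
    rw [Algebra.algebraMap_eq_smul_one, map_smul]; rfl
  have hfa : p * a = a := C.fix_of_isMin hidem hp0 ha hpa hpb rfl fun t => ⟨_, (hrU (algebraMap k R t)).1, by
    rw [C.rep_eU, hmapc, smul_mul_assoc]⟩
  have hfb : p * b = b := C.fix_of_isMin hidem hp0 hb hpb hpa (add_comm _ _) fun t =>
    ⟨_, (hrU (algebraMap k R t * lam)).2, by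
      rw [C.rep_eL, mul_assoc, C.lam_li, mul_one, hmapc, smul_mul_assoc]⟩
  -- faithfulness
  have hinjA : ∀ x : R, C.map x * a = 0 → x = 0 := by
    intro x hx
    have h1 : C.map x * (a * b + b * a) = 0 := by
      rw [mul_add, ← mul_assoc, hx, zero_mul, zero_add, ← mul_assoc, C.comm_right, mul_assoc, hx,
        mul_zero]
    rw [C.map_lam, ← map_zero C.map] at h1
    have h3 := congrArg (· * C.li) (hinj h1)
    simpa [mul_assoc, C.lam_li] using h3
  have hinjB : ∀ x : R, C.map x * b = 0 → x = 0 := by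
    intro x hx
    have h1 : C.map x * (a * b + b * a) = 0 := by
      rw [mul_add, ← mul_assoc, C.comm_left, mul_assoc, hx, mul_zero, zero_add, ← mul_assoc, hx,
        zero_mul]
    rw [C.map_lam, ← map_zero C.map] at h1
    have h3 := congrArg (· * C.li) (hinj h1)
    simpa [mul_assoc, C.lam_li] using h3
  have hfield : IsField R := by
    refine ⟨⟨0, 1, zero_ne_one⟩, mul_comm, fun {x} hx0 => ?_⟩
    have hxa : C.map x * a ≠ 0 := fun h => hx0 (hinjA x h)
    have hsq : C.map x * a * (C.map x * a) = 0 := by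
      rw [C.mul_left, ha.sq, mul_zero]
    have hfam : Fam G (C.map x * a) := fun c => ⟨_, (hrU (c • x)).1, by
      rw [C.rep_eU, map_smul, smul_mul_assoc]⟩
    have hle : LinearMap.range (C.map x * a) ≤ LinearMap.range a := by
      rw [C.comm_left]
      rintro _ ⟨m, rfl⟩
      exact ⟨_, rfl⟩
    have heq := ha.range_eq hsq hxa hfam hle
    have hkey : Function.Injective (LinearMap.mulLeft k x) := by
      rw [injective_iff_map_eq_zero]
      intro y hy
      refine hinjA y (LinearMap.ext fun m => ?_)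
      obtain ⟨n, hn⟩ := heq.ge (LinearMap.mem_range_self a m)
      rw [LinearMap.mulLeft_apply] at hy
      show C.map y (a m) = 0
      rw [← hn, ← Module.End.mul_apply, ← mul_assoc, ← C.map_mul, mul_comm y x, hy, map_zero,
        zero_mul]
      rfl
    obtain ⟨v, hv⟩ := LinearMap.injective_iff_surjective.1 hkey 1
    exact ⟨v, hv⟩
  have htop : (⊤ : Subgroup SL(2, R)) = SL2Gen.gen k lam := by
    refine (eq_top_iff.2 fun g _ => ?_).symm
    have key : ∀ g : SL(2, R), g 1 0 ≠ 0 → g ∈ SL2Gen.gen k lam := by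
      intro g h0
      obtain ⟨i, hi⟩ := hfield.mul_inv_cancel h0
      have hd := SL2Gen.detE g
      have e : g = SL2Gen.eU ((g 0 0 - 1) * i) * SL2Gen.eL (g 1 0) *
          SL2Gen.eU ((g 1 1 - 1) * i) := by
        apply SL2Gen.ext22 <;>
          simp only [SL2Gen.mulE, SL2Gen.eU00, SL2Gen.eU01, SL2Gen.eU10, SL2Gen.eU11, SL2Gen.eL00,
            SL2Gen.eL01, SL2Gen.eL10, SL2Gen.eL11]
        · linear_combination -(g 0 0 - 1) * hi
        · linear_combination (-g 0 1 - (g 1 1 - 1) * (g 0 0 - 1) * i) * hi + (-i) * hd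
        · ring
        · linear_combination -(g 1 1 - 1) * hi
      rw [e]
      exact mul_mem (mul_mem (hgen R lam hu hadj _).1 (hgen R lam hu hadj _).2)
        (hgen R lam hu hadj _).1
    by_cases h0 : g 1 0 = 0
    · have h1 : (g * SL2Gen.eL 1 : SL(2, R)) 1 0 ≠ 0 := by
        rw [SL2Gen.mulE, SL2Gen.eL00, SL2Gen.eL10, h0, zero_mul, zero_add, mul_one]
        intro h11
        have hd := SL2Gen.detE g
        rw [h0, h11, mul_zero, mul_zero, sub_zero] at hd
        exact zero_ne_one hd
      have h3 := mul_mem (key _ h1) (inv_mem (hgen R lam hu hadj 1).2)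
      rwa [mul_inv_cancel_right] at h3
    · exact key g h0
  refine ⟨R, inferInstance, inferInstance, lam, C, inferInstance, hfield, hu, hadj, hfa, hfb,
    fun g => ?_, ?_, htop⟩
  · have hg : g ∈ SL2Gen.gen k lam := htop ▸ Subgroup.mem_top g
    induction hg using Subgroup.closure_induction with
    | mem x hx =>
      rcases hx with ⟨c, rfl⟩ | ⟨c, rfl⟩
      · exact (hrU _).1
      · exact (hrU _).2
    | one => rw [map_one]; exact G.one_mem
    | mul x y _ _ hx hy => rw [map_mul]; exact G.mul_mem hx hy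
    | inv x _ hx => rw [map_inv]; exact G.inv_mem hx
  · intro g h e
    have e1 : C.psi g = C.psi h := by
      have := congrArg (fun u : LinearMap.GeneralLinearGroup k M => (u : Module.End k M)) e
      simpa [C.coe_rep] using this
    have r1 : a * (a * b) = 0 := by rw [← mul_assoc, ha.sq, zero_mul]
    have r2 : b * (b * a) = 0 := by rw [← mul_assoc, hb.sq, zero_mul]
    have hzA : ∀ x, C.map x * (a * b * a) = C.map (x * lam) * a := fun x => by
      rw [aba ha.sq, ← mul_assoc, C.map_lam]
    have hzB : ∀ x, C.map x * (b * a * b) = C.map (x * lam) * b := fun x => by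
      rw [bab hb.sq, ← mul_assoc, C.map_lam]
    have hl : ∀ x : R, x * C.li * lam = x := fun x => by
      rw [mul_assoc, mul_comm C.li, C.lam_li, mul_one]
    have hcol : ∀ g : SL(2, R), C.psi g * a = C.map (g 0 0) * a + C.map (g 1 0 * C.li) * (b * a) :=
      by
      intro g
      simp only [Corner.psi, add_mul, mul_assoc (C.map _)]
      rw [hzA, hl, ha.sq, mul_assoc b a a, ha.sq, mul_zero, mul_zero, mul_zero, add_zero, add_zero]
    have hrow : ∀ g : SL(2, R), a * C.psi g = C.map (g 1 0 * C.li) * (a * b) + C.map (g 1 1) * a :=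
      by
      intro g
      simp only [Corner.psi, mul_add, ← mul_assoc, ← C.comm_left]
      simp only [mul_assoc (C.map _), r1, ha.sq, hzA, hl, mul_zero, zero_add, zero_mul]
    have hmid : ∀ g : SL(2, R), a * C.psi g * a = C.map (g 1 0) * a := by
      intro g
      rw [hrow, add_mul, mul_assoc (C.map _), hzA, hl, mul_assoc (C.map _), ha.sq, mul_zero,
        add_zero]
    have hmidB : ∀ g : SL(2, R), b * C.psi g * b = C.map (g 0 1 * lam) * b := by
      intro g
      simp only [Corner.psi, mul_add, add_mul, ← mul_assoc, ← C.comm_right]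
      simp only [mul_assoc (C.map _)]
      rw [show b * a * b * b = 0 by rw [mul_assoc, hb.sq, mul_zero], hzB, hb.sq]
      simp
    have cancelA : ∀ x y : R, C.map x * a = C.map y * a → x = y := fun x y hxy =>
      sub_eq_zero.1 (hinjA _ (by rw [map_sub, sub_mul, hxy, sub_self]))
    have e10 : g 1 0 = h 1 0 := cancelA _ _ (by rw [← hmid, ← hmid, e1])
    have e01 : g 0 1 = h 0 1 := by
      have h3 : g 0 1 * lam = h 0 1 * lam := sub_eq_zero.1 (hinjB _ (by
        rw [map_sub, sub_mul, ← hmidB, ← hmidB, e1, sub_self]))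
      simpa [mul_assoc, C.lam_li] using congrArg (· * C.li) h3
    refine SL2Gen.ext22 (cancelA _ _ ?_) e01 e10 (cancelA _ _ ?_)
    · have h3 := hcol g
      rw [e1, hcol, e10, add_left_inj] at h3
      exact h3.symm
    · have h3 := hrow g
      rw [e1, hrow, e10, add_right_inj] at h3
      exact h3.symm

end Cfsg.Agent.QuadPair
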