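import Cfsg.Agent.Lib.QuadPair.SL2Ring
import Cfsg.Agent.Lib.QuadPair.Pair
import Mathlib.Order.Atoms.Finite

/-!
`SL(2, k[λ])` is generated by `u(k)` and `l(k λ)`, `k` a finite field of odd order `≥ 5`: induction
along a minimal ideal `I`; the kernel of reduction mod `I` is either central, which forces a
section `R/I → R`, or contains some `u(y) ≠ 1`, hence all of the congruence subgroup.
-/

set_option autoImplicit false
set_option linter.unusedSectionVars false

universe u

namespace Cfsg.Agent.QuadPair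

namespace SL2Gen

open Matrix
open scoped MatrixGroups

section step

variable {k : Type u} [Field k] {R : Type u} [CommRing R] [Algebra k R]

/-- The congruence subgroup inside `H`. -/
def kerIn (H : Subgroup SL(2, R)) (I : Ideal R) : Subgroup SL(2, R) :=
  H ⊓ (Matrix.SpecialLinearGroup.map (n := Fin 2) (Ideal.Quotient.mk I)).ker

theorem mem_kerIn {H : Subgroup SL(2, R)} {I : Ideal R} {g : SL(2, R)} :
    g ∈ kerIn H I ↔ g ∈ H ∧ Matrix.SpecialLinearGroup.map (Ideal.Quotient.mk I) g = 1 :=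
  Iff.rfl

theorem entries_of_map_eq_one {I : Ideal R} {g : SL(2, R)}
    (h : Matrix.SpecialLinearGroup.map (Ideal.Quotient.mk I) g = 1) :
    g 0 0 - 1 ∈ I ∧ g 0 1 ∈ I ∧ g 1 0 ∈ I ∧ g 1 1 - 1 ∈ I := by
  refine ⟨?_, ?_, ?_, ?_⟩
  · have := mapE (Ideal.Quotient.mk I) g 0 0
    rw [h] at this
    rw [← Ideal.Quotient.mk_eq_mk_iff_sub_mem, map_one, ← this]; simp
  · have := mapE (Ideal.Quotient.mk I) g 0 1
    rw [h] at this
    rw [← Ideal.Quotient.eq_zero_iff_mem, ← this]; simp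
  · have := mapE (Ideal.Quotient.mk I) g 1 0
    rw [h] at this
    rw [← Ideal.Quotient.eq_zero_iff_mem, ← this]; simp
  · have := mapE (Ideal.Quotient.mk I) g 1 1
    rw [h] at this
    rw [← Ideal.Quotient.mk_eq_mk_iff_sub_mem, map_one, ← this]; simp

/-- Surjectivity of `H` onto the elementary matrices of `R / I`. -/
def Onto (H : Subgroup SL(2, R)) (I : Ideal R) : Prop :=
  ∀ x : R, (∃ h ∈ H, Matrix.SpecialLinearGroup.map (Ideal.Quotient.mk I) h =
      eU (Ideal.Quotient.mk I x)) ∧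
    ∃ h ∈ H, Matrix.SpecialLinearGroup.map (Ideal.Quotient.mk I) h = eL (Ideal.Quotient.mk I x)

theorem kerIn_conj {H : Subgroup SL(2, R)} {I m : Ideal R} (hm : ∀ x ∈ m, ∀ y ∈ I, x * y = 0)
    {g n : SL(2, R)} (hn : n ∈ kerIn H I)
    (hg : ∃ h ∈ H, Matrix.SpecialLinearGroup.map (Ideal.Quotient.mk m) h =
      Matrix.SpecialLinearGroup.map (Ideal.Quotient.mk m) g) :
    g * n * g⁻¹ ∈ kerIn H I := by
  obtain ⟨h, hh, he⟩ := hg
  obtain ⟨hnH, hn1⟩ := mem_kerIn.1 hn
  set v := h⁻¹ * g with hv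
  have hv1 : Matrix.SpecialLinearGroup.map (Ideal.Quotient.mk m) v = 1 := by
    rw [hv, map_mul, map_inv, he, inv_mul_cancel]
  obtain ⟨v00, v01, v10, v11⟩ := entries_of_map_eq_one hv1
  obtain ⟨n00, n01, n10, n11⟩ := entries_of_map_eq_one hn1
  have hc : v * n = n * v := by
    apply ext22 <;> simp only [mulE]
    · linear_combination hm _ v01 _ n10 - hm _ v10 _ n01
    · linear_combination hm _ v00 _ n01 + hm _ v01 _ n11 - hm _ v01 _ n00 - hm _ v11 _ n01
    · linear_combination hm _ v10 _ n00 + hm _ v11 _ n10 - hm _ v00 _ n10 - hm _ v10 _ n11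
    · linear_combination hm _ v10 _ n01 - hm _ v01 _ n10
  have e : g * n * g⁻¹ = h * n * h⁻¹ := by
    rw [show g = h * v by rw [hv, mul_inv_cancel_left], _root_.mul_inv_rev, mul_assoc h v n, hc]
    group
  rw [e]
  refine mem_kerIn.2 ⟨mul_mem (mul_mem hh hnH) (inv_mem hh), ?_⟩
  rw [map_mul, map_mul, hn1, mul_one, map_inv, mul_inv_cancel]

theorem isUnit_of_corner {I : Ideal R} {e : R} (hee : ∀ y ∈ I, e * y = y) (he : e ∈ I)
    (hinv : ∀ c ∈ I, c ≠ 0 → ∃ c' ∈ I, c * c' = e) {v : R} (hv : v - 1 ∈ I) (hne : e * v ≠ 0) :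
    IsUnit v := by
  obtain ⟨w, hw, hew⟩ := hinv (e * v) (I.mul_mem_right _ he) hne
  refine .of_mul_eq_one (1 - e + e * w) ?_
  linear_combination hew - hee _ hv

variable [Finite R] (hk2 : (2 : k) ≠ 0) (hk3 : ∃ t : k, t ≠ 0 ∧ t * t ≠ 1) {p : ℕ}
  [Fact p.Prime] [CharP R p] (hp : p ≠ 2)

include hk2 hk3 hp

/-- A noncentral kernel element gives a transvection in the kernel. -/
theorem exists_eU_mem {N : Subgroup SL(2, R)} {I : Ideal R}
    (hI : ∀ g ∈ N, g 0 0 - 1 ∈ I ∧ g 0 1 ∈ I ∧ g 1 0 ∈ I ∧ g 1 1 - 1 ∈ I)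
    (hU : ∀ x, ∀ g ∈ N, eU x * g * (eU x)⁻¹ ∈ N) (hL : ∀ x, ∀ g ∈ N, eL x * g * (eL x)⁻¹ ∈ N)
    (hdich : (∀ x ∈ I, ∀ y ∈ I, x * y = 0) ∨ ∃ e ∈ I, e ≠ 0 ∧ (∀ y ∈ I, e * y = y) ∧
      ∀ c ∈ I, c ≠ 0 → ∃ c' ∈ I, c * c' = e)
    {g : SL(2, R)} (hg : g ∈ N) (hne : g 1 0 ≠ 0) : ∃ y ∈ I, y ≠ 0 ∧ eU y ∈ N := by
  have hchar2 : ∀ {z : R}, 2 * z = 0 → z = 0 := by
    intro z hz
    have h : algebraMap k R 2⁻¹ * 2 = 1 := by
      rw [← map_ofNat (algebraMap k R) 2, ← map_mul, inv_mul_cancel₀ hk2, map_one]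
    linear_combination (algebraMap k R 2⁻¹) * hz - z * h
  obtain ⟨i00, i01, i10, i11⟩ := hI g hg
  have hd := detE g
  rcases hdich with h0 | ⟨e, heI, he0, hee, hinv⟩
  · set C := eU 1 * g * (eU 1)⁻¹ * g⁻¹ with hCdef
    have hC : C ∈ N := mul_mem (hU 1 g hg) (inv_mem hg)
    have hCe : C 1 0 = 0 ∧ C 0 0 = 1 + g 1 0 := by
      simp only [hCdef, eU_inv, mulE, invE00, invE10, eU00, eU01, eU10, eU11]
      refine ⟨?_, ?_⟩
      · linear_combination h0 _ i10 _ i10
      · linear_combination hd + h0 _ i00 _ i10 + h0 _ i10 _ i10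
    refine ⟨2 * g 1 0, I.mul_mem_left _ i10, fun h => hne (hchar2 h), ?_⟩
    have hmem : C * (eU 1 * C⁻¹ * (eU 1)⁻¹) ∈ N := mul_mem hC (hU 1 _ (inv_mem hC))
    rwa [show C * (eU 1 * C⁻¹ * (eU 1)⁻¹) = C * eU 1 * C⁻¹ * (eU 1)⁻¹ by group,
      conj_eU_of_borel C hCe.1, eU_inv, eU_mul, hCe.2,
      show (1 + g 1 0) ^ 2 * 1 + -1 = 2 * g 1 0 by linear_combination h0 _ i10 _ i10] at hmem
  · obtain ⟨c', hc'I, hcc'⟩ := hinv _ i10 hne
    set tt := -(c' * g 0 0) with htt
    set g1 := eU tt * g * (eU tt)⁻¹ with hg1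
    have hg1N : g1 ∈ N := hU _ g hg
    have hg1e : g1 1 0 = g 1 0 ∧ g1 0 0 = g 0 0 * (1 - e) := by
      simp only [hg1, eU_inv, mulE, eU00, eU01, eU10, eU11]
      refine ⟨by ring, ?_⟩
      rw [htt]
      linear_combination -(g 0 0) * hcc'
    set c := g 1 0 with hc
    have hE : ∀ x ∈ I, eL (-(c ^ 2 * x)) * eU (-x) ∈ N := by
      intro x hx
      have hmem : g1 * (eU x * g1⁻¹ * (eU x)⁻¹) ∈ N := mul_mem hg1N (hU x _ (inv_mem hg1N))
      have hz : g1 0 0 * x = 0 := by
        rw [hg1e.2]; linear_combination -(g 0 0) * hee x hx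
      have heq : g1 * eU x * g1⁻¹ = eL (-(c ^ 2 * x)) := by
        obtain ⟨a00, a01, a10, a11⟩ := conj_eU_entries g1 x
        apply ext22
        · rw [a00, eL00]; linear_combination -(g1 1 0) * hz
        · rw [a01, eL01]; linear_combination (g1 0 0) * hz
        · rw [a10, eL10, hg1e.1]
        · rw [a11, eL11]; linear_combination (g1 1 0) * hz
      rwa [show g1 * (eU x * g1⁻¹ * (eU x)⁻¹) = g1 * eU x * g1⁻¹ * (eU x)⁻¹ by group, heq,
        eU_inv] at hmem
    obtain ⟨t, ht0, ht1⟩ := hk3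
    by_cases h4 : ∃ s : k, s ≠ 0 ∧ s ^ 4 ≠ 1
    · obtain ⟨s, hs0, hs4⟩ := h4
      set a := algebraMap k R s
      set b := algebraMap k R s⁻¹
      have hab : a * b = 1 := by rw [← map_mul, mul_inv_cancel₀ hs0, map_one]
      have h1 := hE e heI
      have h2 := hE _ (I.mul_mem_left (b ^ 2) heI)
      have hconj : dE a b * (eL (-(c ^ 2 * e)) * eU (-e)) * (dE a b)⁻¹ ∈ N := by
        have hnorm : ∀ d ∈ N, dE a b * d * (dE a b)⁻¹ ∈ N := by
          intro d hd
          have hw : ∀ d ∈ N, (wE : SL(2, R))⁻¹ * d * wE ∈ N := by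
            intro d hd
            have := hU (-1) _ (hL 1 _ (hU (-1) d hd))
            rw [show (wE : SL(2, R))⁻¹ = eU (-1) * eL 1 * eU (-1) by
              simp only [wE, _root_.mul_inv_rev, eU_inv, eL_inv, neg_neg, mul_assoc]]
            convert this using 1
            simp only [wE, eU_inv, eL_inv, neg_neg, mul_assoc]
          have := hU a _ (hL (-b) _ (hU a _ (hw d hd)))
          convert this using 1
          simp only [dE, _root_.mul_inv_rev, inv_inv, mul_assoc]
        exact hnorm _ h1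
      rw [show dE a b * (eL (-(c ^ 2 * e)) * eU (-e)) * (dE a b)⁻¹ =
        dE a b * eL (-(c ^ 2 * e)) * (dE a b)⁻¹ * (dE a b * eU (-e) * (dE a b)⁻¹) by group,
        dE_conj_eL hab, dE_conj_eU hab] at hconj
      refine ⟨(b ^ 2 - a ^ 2) * e, I.mul_mem_left _ heI, ?_, ?_⟩
      · intro h
        refine he0 ?_
        have hs : s⁻¹ ^ 2 - s ^ 2 ≠ 0 := by
          intro h'
          refine hs4 ?_
          field_simp at h'
          linear_combination -h'
        have hu := (IsUnit.mk0 _ hs).map (algebraMap k R)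
        rw [map_sub, map_pow, map_pow] at hu
        exact hu.mul_right_eq_zero.1 h
      · have hm := mul_mem (inv_mem h2) hconj
        rwa [show -(c ^ 2 * (b ^ 2 * e)) = b ^ 2 * -(c ^ 2 * e) by ring, _root_.mul_inv_rev,
          mul_assoc, inv_mul_cancel_left, eU_inv, eU_mul, neg_neg,
          show b ^ 2 * e + a ^ 2 * -e = (b ^ 2 - a ^ 2) * e by ring] at hm
    · push Not at h4
      obtain ⟨i, hi⟩ : ∃ i : R, i * i = -1 := by
        refine ⟨algebraMap k R t, ?_⟩
        have h := h4 t ht0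
        have : (t * t - 1) * (t * t + 1) = 0 := by linear_combination h
        rw [← map_mul, eq_neg_of_add_eq_zero_left
          ((mul_eq_zero.1 this).resolve_left (sub_ne_zero.2 ht1)), map_neg, map_one]
      set x := 2 * i * c' with hx
      have hxI : x ∈ I := I.mul_mem_left _ hc'I
      set s := -(i * c) with hs
      have hex := hee x hxI
      have hec := hee c i10
      have hcx : c * x = 2 * i * e := by rw [hx]; linear_combination (2 * i) * hcc'
      have hxs : x * s = 2 * e := by rw [hs]; linear_combination (-i) * hcx + (-2 * e) * hi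
      set D := eL (-s) * (eL (-(c ^ 2 * x)) * eU (-x)) * (eL (-s))⁻¹ with hD
      have hDN : D ∈ N := hL _ _ (hE x hxI)
      have hDe : D 0 0 = 1 - 2 * e ∧ D 0 1 = -x ∧ D 1 0 = 0 ∧ D 1 1 = 1 - 2 * e := by
        simp only [hD, eL_inv, mulE, eU00, eU01, eU10, eU11, eL00, eL01, eL10, eL11, neg_neg]
        have hee' : e * e = e := hee e heI
        refine ⟨?_, ?_, ?_, ?_⟩
        · linear_combination -hxs
        · ring
        · linear_combination (-c) * hcx + (c ^ 2 * x) * hxs + (2 * e * c) * hcx + s * hxs +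
            (2 * e) * hs + (4 * i * c) * hee'
        · linear_combination hxs + (c * x + 2 * i * e) * hcx + (4 * e * e) * hi + (-4 : R) * hee'
      obtain ⟨d00, d01, d10, d11⟩ := hDe
      refine ⟨2 * x, I.mul_mem_left _ hxI, fun h => he0 ?_, ?_⟩
      · have hx0 := hchar2 h
        rw [hx0, mul_zero] at hcx
        exact hchar2 (by linear_combination i * hcx + (2 * e) * hi)
      · have hee' : e * e = e := hee e heI
        rw [show eU (2 * x) = D * D by
          apply ext22 <;> simp only [mulE, d00, d01, d10, d11, eU00, eU01, eU10, eU11]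
          · linear_combination (-4 : R) * hee'
          · linear_combination (-4 : R) * hex
          · ring
          · linear_combination (-4 : R) * hee']
        exact mul_mem hDN hDN

/-- Once one transvection of the kernel is in `H`, all are, and then `u(R) ⊆ H`. -/
theorem eU_mem_of_kerIn {H : Subgroup SL(2, R)} {I : Ideal R}
    (hatom : ∀ c ∈ I, c ≠ 0 → ∀ y ∈ I, ∃ r, r * c = y)
    (hdich : (∀ x ∈ I, ∀ y ∈ I, x * y = 0) ∨ ∃ e ∈ I, e ≠ 0 ∧ (∀ y ∈ I, e * y = y) ∧
      ∀ c ∈ I, c ≠ 0 → ∃ c' ∈ I, c * c' = e)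
    (hN : ∀ x, ∀ n ∈ kerIn H I, eU x * n * (eU x)⁻¹ ∈ kerIn H I ∧
      eL x * n * (eL x)⁻¹ ∈ kerIn H I)
    (h1 : eU 1 ∈ H) (hon : Onto H I) {y0 : R} (hy0I : y0 ∈ I) (hy0 : y0 ≠ 0)
    (hy : eU y0 ∈ kerIn H I) (x : R) : eU x ∈ H := by
  set N := kerIn H I
  have hword : ∀ a b : R, ∀ d ∈ N, dE a b * d * (dE a b)⁻¹ ∈ N := by
    intro a b d hd
    have hw : ∀ d ∈ N, (wE : SL(2, R))⁻¹ * d * wE ∈ N := by
      intro d hd
      have := (hN (-1) _ (hN 1 _ (hN (-1) d hd).1).2).1
      rw [show (wE : SL(2, R))⁻¹ = eU (-1) * eL 1 * eU (-1) by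
        simp only [wE, _root_.mul_inv_rev, eU_inv, eL_inv, neg_neg, mul_assoc]]
      convert this using 1
      simp only [wE, eU_inv, eL_inv, neg_neg, mul_assoc]
    have := (hN a _ (hN (-b) _ (hN a _ (hw d hd)).1).2).1
    convert this using 1
    simp only [dE, _root_.mul_inv_rev, inv_inv, mul_assoc]
  let B : AddSubgroup R :=
    { carrier := {z | eU z ∈ N}
      zero_mem' := show eU 0 ∈ N by rw [eU_zero]; exact one_mem _
      add_mem' := fun {z w} hz hw => show eU (z + w) ∈ N by rw [← eU_mul]; exact mul_mem hz hw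
      neg_mem' := fun {z} hz => show eU (-z) ∈ N by rw [← eU_inv]; exact inv_mem hz }
  have hIU : ∀ y ∈ I, eU y ∈ N := by
    intro y hyI
    obtain ⟨r, rfl⟩ := hatom y0 hy0I hy0 y hyI
    refine mul_mem_of_sq hk2 hk3 hp (B := B) (fun u hu b hb => ?_) r hy
    obtain ⟨v, hv⟩ := hu.exists_right_inv
    have := hword u v _ hb
    rwa [dE_conj_eU hv, pow_two] at this
  have hIL : ∀ y ∈ I, eL y ∈ N := by
    intro y hyI
    rw [← eL_eq_conj y, wE]
    have := (hN 1 _ (hN (-1) _ (hN 1 _ (hIU (-y) (I.neg_mem hyI))).1).2).1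
    convert this using 1
    simp only [_root_.mul_inv_rev, mul_assoc]
  have hH : ∀ {g}, g ∈ N → g ∈ H := fun h => (mem_kerIn.1 h).1
  set f := Matrix.SpecialLinearGroup.map (n := Fin 2) (Ideal.Quotient.mk I)
  obtain ⟨h, hh, he⟩ := (hon x).1
  have h00 : h 0 0 - 1 ∈ I := by
    have := mapE (Ideal.Quotient.mk I) h 0 0
    rw [he, eU00] at this
    rw [← Ideal.Quotient.mk_eq_mk_iff_sub_mem, map_one]; exact this.symm
  have h10 : h 1 0 ∈ I := by
    have := mapE (Ideal.Quotient.mk I) h 1 0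
    rw [he, eU10] at this
    rw [← Ideal.Quotient.eq_zero_iff_mem]; exact this.symm
  obtain ⟨j, hjI, hju⟩ : ∃ j ∈ I, IsUnit (h 0 0 + j * h 1 0) := by
    rcases hdich with h0 | ⟨e, heI, he0, hee, hinv⟩
    · refine ⟨0, I.zero_mem, ?_⟩
      rw [zero_mul, add_zero, ← add_sub_cancel (1 : R) (h 0 0)]
      exact IsNilpotent.isUnit_one_add ⟨2, by rw [pow_two]; exact h0 _ h00 _ h00⟩
    · by_cases hz : e * h 0 0 = 0
      · refine ⟨e, heI, isUnit_of_corner hee heI hinv ?_ fun h' => he0 ?_⟩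
        · rw [add_sub_right_comm]; exact I.add_mem h00 (I.mul_mem_right _ heI)
        · have hd := detE h
          have h2 : e * h 1 0 = 0 := by
            linear_combination h' - hz - (h 1 0) * hee e heI
          linear_combination -e * hd + (h 1 1) * hz - (h 0 1) * h2
      · exact ⟨0, I.zero_mem, isUnit_of_corner hee heI hinv (by rwa [zero_mul, add_zero])
          (by rwa [zero_mul, add_zero])⟩
  obtain ⟨vi, hvi⟩ := hju.exists_right_inv
  set v := h 0 0 + j * h 1 0 with hv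
  set h2 := eL (-(vi * h 1 0)) * (eU j * h) with hh2
  have hvI : v - 1 ∈ I := by
    rw [hv, add_sub_right_comm]; exact I.add_mem h00 (I.mul_mem_left _ h10)
  have hviI : vi - 1 ∈ I := by
    rw [show vi - 1 = -(vi * (v - 1)) by linear_combination hvi]
    exact I.neg_mem (I.mul_mem_left _ hvI)
  have hneg : ∀ {z}, z ∈ I → 1 - z - 1 ∈ I := fun hz => by simpa using I.neg_mem hz
  have hdE : dE v vi ∈ H := by
    rw [dE_word hvi]
    exact mul_mem (mul_mem (mul_mem (mul_mem (hH (hIL _ hviI)) h1) (hH (hIL _ hvI)))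
      (eU_inv (1 : R) ▸ inv_mem h1)) (hH (hIU _ (by simpa using I.neg_mem hviI)))
  have hfd : f (dE v vi) = 1 := by
    rw [dE_word hvi]
    simp only [f, map_mul, map_eU, map_eL, map_sub, map_one, map_neg]
    rw [show Ideal.Quotient.mk I vi = 1 by
        rw [← map_one (Ideal.Quotient.mk I), Ideal.Quotient.mk_eq_mk_iff_sub_mem]; exact hviI,
      show Ideal.Quotient.mk I v = 1 by
        rw [← map_one (Ideal.Quotient.mk I), Ideal.Quotient.mk_eq_mk_iff_sub_mem]; exact hvI,
      sub_self, eL_zero, eU_zero]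
    simp [eU_mul, eU_zero]
  have hh2H : h2 ∈ H := mul_mem (hH (hIL _ (I.neg_mem (I.mul_mem_left _ h10))))
    (mul_mem (hH (hIU _ hjI)) hh)
  obtain ⟨e00, e01, e10, e11⟩ := dE_entries hvi
  set g := (dE v vi)⁻¹ * h2 with hg
  have hgH : g ∈ H := mul_mem (inv_mem hdE) hh2H
  have hge : g 1 0 = 0 ∧ g 0 0 = 1 := by
    simp only [hg, hh2, mulE, invE00, invE01, invE10, invE11, e00, e01, e10, e11, eU00, eU01,
      eU10, eU11, eL00, eL01, eL10, eL11]
    refine ⟨?_, ?_⟩
    · linear_combination (-(v * h 1 0)) * hvi + (v * vi * h 1 0) * hv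
    · linear_combination hvi - vi * hv
  have hg11 : g 1 1 = 1 := by
    have hd := detE g
    rw [hge.1, hge.2, mul_zero, sub_zero, one_mul] at hd
    exact hd
  have hgeq : g = eU (g 0 1) := by apply ext22 <;> simp [hge.1, hge.2, hg11]
  have hfg : f g = eU (Ideal.Quotient.mk I x) := by
    simp only [hg, hh2, map_mul, map_inv, hfd, inv_one, one_mul]
    rw [show f h = eU (Ideal.Quotient.mk I x) from he]
    simp only [f, map_eU, map_eL]
    rw [Ideal.Quotient.eq_zero_iff_mem.2 (I.neg_mem (I.mul_mem_left _ h10)),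
      Ideal.Quotient.eq_zero_iff_mem.2 hjI, eL_zero, eU_zero, one_mul, one_mul]
  have hdiff : x - g 0 1 ∈ I := by
    have := mapE (Ideal.Quotient.mk I) g 0 1
    rw [hfg, eU01] at this
    rw [← Ideal.Quotient.mk_eq_mk_iff_sub_mem]; exact this
  rw [show x = g 0 1 + (x - g 0 1) by ring, ← eU_mul, ← hgeq]
  exact mul_mem hgH (hH (hIU _ hdiff))

/-- A central kernel gives a section, hence is impossible. -/
theorem central_absurd {H : Subgroup SL(2, R)} {I : Ideal R} (hI : I ≠ ⊥) {lam : R}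
    (hu : IsUnit lam) (hgen : Algebra.adjoin k ({lam} : Set R) = ⊤)
    (hU : ∀ c : k, eU (algebraMap k R c) ∈ H) (hL : eL lam ∈ H) (hon : Onto H I)
    (hcent : ∀ n ∈ kerIn H I, n 1 0 = 0 ∧ n 0 1 = 0 ∧ n 0 0 = n 1 1) : False := by
  set f := Matrix.SpecialLinearGroup.map (n := Fin 2) (Ideal.Quotient.mk I)
  set q := Ideal.Quotient.mk I
  obtain ⟨j, hj⟩ := (Fact.out : p.Prime).odd_of_ne_two hp
  have hpz : (p : R) = 0 := CharP.cast_eq_zero R p
  have hone : eU (1 : R) ∈ H := by have := hU 1; rwa [map_one] at this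
  have hsq : ∀ n ∈ kerIn H I, n * n = 1 ∧ ∀ g : SL(2, R), g * n = n * g := by
    intro n hn
    obtain ⟨a, b, c⟩ := hcent n hn
    have hd := detE n
    rw [a, b, mul_zero, sub_zero] at hd
    refine ⟨?_, fun g => ?_⟩
    · apply ext22 <;> simp [mulE, a, b]
      · linear_combination hd + (n 0 0) * c
      · linear_combination hd - (n 1 1) * c
    · apply ext22 <;> simp only [mulE, a, b, c] <;> ring
  have hpow : ∀ n ∈ kerIn H I, n ^ p = n := fun n hn => by
    rw [hj, pow_succ, pow_mul, pow_two, (hsq n hn).1, one_pow, one_mul]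
  have huniq : ∀ g ∈ H, ∀ h ∈ H, g ^ p = 1 → h ^ p = 1 → f g = f h → g = h := by
    intro g hg h hh hgp hhp hgh
    have hn : g⁻¹ * h ∈ kerIn H I :=
      mem_kerIn.2 ⟨mul_mem (inv_mem hg) hh, by rw [map_mul, map_inv]; exact hgh ▸ inv_mul_cancel _⟩
    have hc : Commute g (g⁻¹ * h) := (hsq _ hn).2 g
    have : (g * (g⁻¹ * h)) ^ p = 1 := by rw [mul_inv_cancel_left]; exact hhp
    rw [hc.mul_pow, hgp, one_mul, hpow _ hn, inv_mul_eq_one] at this
    exact this
  have heUp : ∀ z : R, eU z ^ p = 1 := fun z => by rw [eU_pow, hpz, zero_mul, eU_zero]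
  have heLp : ∀ z : R, eL z ^ p = 1 := fun z => by rw [eL_pow, hpz, zero_mul, eL_zero]
  have hcanon : ∀ z, (∃ h ∈ H, f h = z) → z ^ p = 1 → ∃ h ∈ H, f h = z ∧ h ^ p = 1 := by
    rintro z ⟨h, hh, rfl⟩ hz
    refine ⟨h ^ (p + 1), pow_mem hh _, by rw [map_pow, pow_succ, hz, one_mul], ?_⟩
    have hn : h ^ p ∈ kerIn H I := mem_kerIn.2 ⟨pow_mem hh _, by rw [map_pow]; exact hz⟩
    rw [← pow_mul, mul_comm, pow_mul, pow_succ, hpow _ hn, (hsq _ hn).1]
  have hroot : ∀ a : R, a ^ p = 1 → a * a = 1 → a = 1 := by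
    intro a h1 h2
    rw [hj, pow_succ, pow_mul, pow_two, h2, one_pow, one_mul] at h1
    exact h1
  have hA : ∀ z : R ⧸ I, ∃ s, eU s ∈ H ∧ q s = z := by
    intro z
    obtain ⟨x, rfl⟩ := Ideal.Quotient.mk_surjective z
    obtain ⟨h, hh, hf, hhp⟩ := hcanon _ (hon x).1 (by rw [← map_eU, ← map_pow, heUp, map_one])
    have hcm : eU 1 * h * (eU 1)⁻¹ = h := by
      refine huniq _ (mul_mem (mul_mem hone hh) (inv_mem hone)) _ hh ?_ hhp ?_
      · rw [conj_pow, hhp, mul_one, mul_inv_cancel]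
      · rw [map_mul, map_mul, map_inv, hf, map_eU, eU_inv, eU_mul, eU_mul]
        congr 1; ring
    rw [mul_inv_eq_iff_eq_mul] at hcm
    have e00 := congrArg (fun g : SL(2, R) => g 0 0) hcm
    have e01 := congrArg (fun g : SL(2, R) => g 0 1) hcm
    simp only [mulE, eU00, eU01, eU10, eU11, one_mul, mul_one, mul_zero, add_zero] at e00 e01
    have h10 : h 1 0 = 0 := by linear_combination e00
    have hdiag : h 1 1 = h 0 0 := by linear_combination e01
    have h00 : h 0 0 = 1 := by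
      refine hroot _ ?_ (by
        have hd := detE h; rw [h10, hdiag, mul_zero, sub_zero] at hd; exact hd)
      have key : ∀ n : ℕ, (h ^ n) 0 0 = h 0 0 ^ n ∧ (h ^ n) 1 0 = 0 := by
        intro n
        induction n with
        | zero => simp
        | succ n ih => simp [pow_succ, mulE, ih.1, ih.2, h10]
      rw [← (key p).1, hhp]; simp
    have hh' : h = eU (h 0 1) := by apply ext22 <;> simp [h10, hdiag, h00]
    refine ⟨h 0 1, hh' ▸ hh, ?_⟩
    rw [hh', map_eU] at hf
    have := congrArg (fun g : SL(2, R ⧸ I) => g 0 1) hf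
    simpa using this
  obtain ⟨li, hli⟩ := hu.exists_right_inv
  have hB : ∀ z : R ⧸ I, ∃ s, eL s ∈ H ∧ q s = z := by
    intro z
    obtain ⟨x, rfl⟩ := Ideal.Quotient.mk_surjective z
    obtain ⟨h, hh, hf, hhp⟩ := hcanon _ (hon x).2 (by rw [← map_eL, ← map_pow, heLp, map_one])
    have hcm : eL lam * h * (eL lam)⁻¹ = h := by
      refine huniq _ (mul_mem (mul_mem hL hh) (inv_mem hL)) _ hh ?_ hhp ?_
      · rw [conj_pow, hhp, mul_one, mul_inv_cancel]
      · rw [map_mul, map_mul, map_inv, hf, map_eL, eL_inv, eL_mul, eL_mul]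
        congr 1; ring
    rw [mul_inv_eq_iff_eq_mul] at hcm
    have e00 := congrArg (fun g : SL(2, R) => g 0 0) hcm
    have e10 := congrArg (fun g : SL(2, R) => g 1 0) hcm
    simp only [mulE, eL00, eL01, eL10, eL11, one_mul, mul_one, zero_mul, add_zero] at e00 e10
    have h01 : h 0 1 = 0 := by linear_combination (-li) * e00 + (-(h 0 1)) * hli
    have hdiag : h 1 1 = h 0 0 := by linear_combination (-li) * e10 + (h 0 0 - h 1 1) * hli
    have h00 : h 0 0 = 1 := by
      refine hroot _ ?_ (by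
        have hd := detE h; rw [h01, hdiag, zero_mul, sub_zero] at hd; exact hd)
      have key : ∀ n : ℕ, (h ^ n) 0 0 = h 0 0 ^ n ∧ (h ^ n) 0 1 = 0 := by
        intro n
        induction n with
        | zero => simp
        | succ n ih => simp [pow_succ, mulE, ih.1, ih.2, h01]
      rw [← (key p).1, hhp]; simp
    have hh' : h = eL (h 1 0) := by apply ext22 <;> simp [h01, hdiag, h00]
    refine ⟨h 1 0, hh' ▸ hh, ?_⟩
    rw [hh', map_eL] at hf
    have := congrArg (fun g : SL(2, R ⧸ I) => g 1 0) hf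
    simpa using this
  have hAu : ∀ {s t}, eU s ∈ H → eU t ∈ H → q s = q t → s = t := fun {s t} hs ht h => by
    have := congrArg (fun g : SL(2, R) => g 0 1)
      (huniq _ hs _ ht (heUp _) (heUp _) (by rw [map_eU, map_eU]; exact congrArg eU h))
    simpa using this
  have hBu : ∀ {s t}, eL s ∈ H → eL t ∈ H → q s = q t → s = t := fun {s t} hs ht h => by
    have := congrArg (fun g : SL(2, R) => g 1 0)
      (huniq _ hs _ ht (heLp _) (heLp _) (by rw [map_eL, map_eL]; exact congrArg eL h))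
    simpa using this
  have hweyl : ∀ {s t : R}, eU s ∈ H → eL t ∈ H → q (s * t) = 1 →
      s * t = 1 ∧ ∀ y, eU y ∈ H → eL (-(t ^ 2 * y)) ∈ H := by
    intro s t hs ht hst
    set n := eU s * eL (-t) * eU s with hn
    have htn : eL (-t) ∈ H := eL_inv t ▸ inv_mem ht
    have hnH : n ∈ H := mul_mem (mul_mem hs htn) hs
    have n00 : n 0 0 = 1 - s * t := by
      simp only [hn, mulE, eU00, eU01, eU10, eL00, eL01, eL10, eL11]; ring
    have n10 : n 1 0 = -t := by simp [hn, mulE]
    have hq00 : q (n 0 0) = 0 := by rw [n00, map_sub, map_one, hst, sub_self]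
    have key : ∀ y, eU y ∈ H →
        n 0 0 * n 1 0 * y = 0 ∧ n 0 0 ^ 2 * y = 0 ∧ eL (-(t ^ 2 * y)) ∈ H := by
      intro y hy
      obtain ⟨z, hz, hzq⟩ := hB (q (-(t ^ 2 * y)))
      obtain ⟨a00, a01, a10, a11⟩ := conj_eU_entries n y
      have heq : n * eU y * n⁻¹ = eL z := by
        refine huniq _ (mul_mem (mul_mem hnH hy) (inv_mem hnH)) _ hz ?_ (heLp _) ?_
        · rw [conj_pow, heUp, mul_one, mul_inv_cancel]
        · rw [map_eL, hzq]
          apply ext22
          · rw [mapE, a00, map_sub, map_mul, map_mul, hq00, eL00]; simp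
          · rw [mapE, a01, map_mul, map_pow, hq00, eL01]; simp
          · rw [mapE, a10, n10, eL10, neg_sq]
          · rw [mapE, a11, map_add, map_mul, map_mul, hq00, eL11]; simp
      have f00 := congrArg (fun g : SL(2, R) => g 0 0) heq
      have f01 := congrArg (fun g : SL(2, R) => g 0 1) heq
      have f10 := congrArg (fun g : SL(2, R) => g 1 0) heq
      simp only [a00, a01, a10, eL00, eL01, eL10] at f00 f01 f10
      refine ⟨by linear_combination -f00, f01, ?_⟩
      rw [show -(t ^ 2 * y) = z by rw [← f10, n10, neg_sq]]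
      exact hz
    obtain ⟨k1, k2, -⟩ := key 1 hone
    have hd := detE n
    refine ⟨?_, fun y hy => (key y hy).2.2⟩
    have : n 0 0 = 0 := by linear_combination -(n 0 0) * hd + (n 1 1) * k2 - (n 0 1) * k1
    rw [n00] at this
    linear_combination -this
  have hAB : ∀ y, eU y ∈ H → eL y ∈ H := by
    obtain ⟨t, ht, htq⟩ := hB 1
    obtain ⟨ht1, hk⟩ := hweyl hone ht (by rw [one_mul]; exact htq)
    rw [one_mul] at ht1
    intro y hy
    have := hk (-y) (eU_inv y ▸ inv_mem hy)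
    rwa [ht1, one_pow, one_mul, neg_neg] at this
  have hBA : ∀ z, eL z ∈ H → eU z ∈ H := fun z hz => by
    obtain ⟨y, hy, hyq⟩ := hA (q z)
    rwa [← hBu (hAB y hy) hz hyq]
  let A : AddSubgroup R :=
    { carrier := {z | eU z ∈ H}
      zero_mem' := show eU 0 ∈ H by rw [eU_zero]; exact one_mem _
      add_mem' := fun {z w} hz hw => show eU (z + w) ∈ H by rw [← eU_mul]; exact mul_mem hz hw
      neg_mem' := fun {z} hz => show eU (-z) ∈ H by rw [← eU_inv]; exact inv_mem hz }
  let T : AddSubgroup R :=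
    { carrier := {r | ∀ a ∈ A, r * a ∈ A}
      zero_mem' := fun a _ => by rw [zero_mul]; exact A.zero_mem
      add_mem' := fun hr hs a ha => by rw [add_mul]; exact A.add_mem (hr a ha) (hs a ha)
      neg_mem' := fun hr a ha => by rw [neg_mul]; exact A.neg_mem (hr a ha) }
  let Im : AddSubgroup (R ⧸ I) := T.map q.toAddMonoidHom
  have hTmul : ∀ {r s}, r ∈ T → s ∈ T → r * s ∈ T := fun {r s} hr hs a ha => by
    rw [mul_assoc]; exact hr _ (hs a ha)
  have hIm : ∀ u : R ⧸ I, IsUnit u → ∀ b ∈ Im, u * u * b ∈ Im := by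
    intro u hu b hb
    obtain ⟨r, hr, rfl⟩ := AddSubgroup.mem_map.1 hb
    obtain ⟨w, hw⟩ := hu.exists_right_inv
    obtain ⟨s, hs, hsq'⟩ := hA w
    obtain ⟨t, ht, htq⟩ := hB u
    obtain ⟨-, hk⟩ := hweyl hs ht (by rw [map_mul, hsq', htq, mul_comm]; exact hw)
    refine AddSubgroup.mem_map.2 ⟨t * t * r, hTmul ?_ hr, ?_⟩
    · intro a ha
      show eU (t * t * a) ∈ H
      have := hk (-a) (eU_inv a ▸ inv_mem ha)
      rw [show -(t ^ 2 * -a) = t * t * a by ring] at this
      exact hBA _ this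
    · show q (t * t * r) = u * u * q r
      rw [map_mul, map_mul, htq]
  have : CharP (R ⧸ I) p := by
    have : Nontrivial (R ⧸ I) := Ideal.Quotient.nontrivial_iff.2 fun h => by
      obtain ⟨s, hs, hsq'⟩ := hA 0
      have h1 := hAu hone hs (by
        rw [Ideal.Quotient.eq_zero_iff_mem.2 (h ▸ Submodule.mem_top (x := (1 : R))),
          hsq'])
      have h0 := hAu hs (A.zero_mem) (by rw [hsq', map_zero])
      refine hI (Submodule.eq_bot_iff _ |>.2 fun x _ => ?_)
      linear_combination x * (h1.trans h0)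
    exact (CharP.charP_iff_prime_eq_zero Fact.out).2 (by rw [← map_natCast q, hpz, map_zero])
  have : Finite (R ⧸ I) := Finite.of_surjective q Ideal.Quotient.mk_surjective
  have hTA : ∀ r ∈ T, r ∈ A := fun r hr => by
    have := hr 1 hone; rwa [mul_one] at this
  have hclosed : ∀ {r s}, r ∈ A → s ∈ A → r * s ∈ A := by
    intro r s hr hs
    have h1 : (1 : R ⧸ I) ∈ Im := AddSubgroup.mem_map.2
      ⟨1, fun a ha => by rwa [one_mul], map_one q⟩
    have := mul_mem_of_sq hk2 hk3 hp hIm (q r) h1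
    rw [mul_one] at this
    obtain ⟨r', hr', hrq⟩ := AddSubgroup.mem_map.1 this
    rw [← hAu (hTA r' hr') hr hrq]
    exact hr' s hs
  let Sa : Subalgebra k R :=
    { carrier := A
      mul_mem' := fun {r s} hr hs => hclosed hr hs
      one_mem' := hone
      add_mem' := A.add_mem
      zero_mem' := A.zero_mem
      algebraMap_mem' := hU }
  have htop : (⊤ : Subalgebra k R) ≤ Sa := by
    rw [← hgen]
    exact Algebra.adjoin_le (Set.singleton_subset_iff.2 (hBA lam hL))
  refine hI (Submodule.eq_bot_iff _ |>.2 fun x hx => ?_)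
  exact hAu (htop (show x ∈ (⊤ : Subalgebra k R) from Algebra.mem_top)) A.zero_mem
    (by rw [Ideal.Quotient.eq_zero_iff_mem.2 hx, map_zero])

end step

section main

variable {k : Type u} [Field k] [Finite k]

theorem gen_of_finite (hk2 : (2 : k) ≠ 0) (hk3 : ∃ t : k, t ≠ 0 ∧ t * t ≠ 1) {p : ℕ}
    [Fact p.Prime] [CharP k p] (hp : p ≠ 2) :
    ∀ (n : ℕ) (R : Type u) [CommRing R] [Algebra k R] [FiniteDimensional k R] [Nontrivial R],
      Nat.card R = n → ∀ lam : R, IsUnit lam → Algebra.adjoin k ({lam} : Set R) = ⊤ →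
        ∀ x : R, eU x ∈ gen k lam ∧ eL x ∈ gen k lam := by
  intro n
  induction n using Nat.strong_induction_on with
  | _ n ih =>
    intro R _ _ _ _ hn lam hu hgen
    have : Finite R := Module.finite_of_finite k
    have : CharP R p := charP_of_injective_algebraMap (algebraMap k R).injective p
    set H := gen k lam
    have hLlam : eL lam ∈ H := by
      have := eL_mem_gen lam (1 : k)
      rwa [map_one, one_mul] at this
    suffices hUall : ∀ x, eU x ∈ H from fun x => ⟨hUall x, eL_mem_of_eU hUall hu hLlam x⟩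
    by_cases hF : IsField R
    · intro x
      let := hF.toField
      exact field_case hk2 hk3 hp lam hu.ne_zero hgen x
    obtain ⟨I0, hI0b, hI0t⟩ := Ring.not_isField_iff_exists_ideal_bot_lt_and_lt_top.1 hF
    obtain ⟨I, hI, hIle⟩ := (IsAtomic.eq_bot_or_exists_atom_le I0).resolve_left hI0b.ne'
    have hInt : I ≠ ⊤ := ne_top_of_le_ne_top hI0t.ne hIle
    have hquot : ∀ J : Ideal R, J ≠ ⊥ → J ≠ ⊤ → Onto H J := by
      intro J hJb hJt
      have : Nontrivial (R ⧸ J) := Ideal.Quotient.nontrivial_iff.2 hJt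
      have hlt : Nat.card (R ⧸ J) < n := by
        have := Fintype.ofFinite R
        have := Fintype.ofFinite (R ⧸ J)
        rw [← hn, Nat.card_eq_fintype_card, Nat.card_eq_fintype_card]
        refine Fintype.card_lt_of_surjective_not_injective _ Ideal.Quotient.mk_surjective
          fun hinj => hJb (Submodule.eq_bot_iff _ |>.2 fun x hx => hinj ?_)
        rw [Ideal.Quotient.eq_zero_iff_mem.2 hx, map_zero]
      have hgen' : Algebra.adjoin k ({Ideal.Quotient.mk J lam} : Set (R ⧸ J)) = ⊤ := by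
        have := AlgHom.map_adjoin (Ideal.Quotient.mkₐ k J) ({lam} : Set R)
        rw [hgen, Algebra.map_top, Set.image_singleton] at this
        exact this.symm.trans
          ((AlgHom.range_eq_top _).2 (Ideal.Quotient.mkₐ_surjective k J))
      have hle : gen k (Ideal.Quotient.mk J lam) ≤
          H.map (Matrix.SpecialLinearGroup.map (n := Fin 2) (Ideal.Quotient.mk J)) := by
        refine (Subgroup.closure_le _).2 ?_
        rintro _ (⟨c, rfl⟩ | ⟨c, rfl⟩)
        · exact ⟨_, eU_mem_gen lam c, by rw [map_eU]; rfl⟩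
        · exact ⟨_, eL_mem_gen lam c, by rw [map_eL, map_mul]; rfl⟩
      intro x
      obtain ⟨hU', hL'⟩ := ih _ hlt (R ⧸ J) rfl _ (hu.map (Ideal.Quotient.mk J)) hgen'
        (Ideal.Quotient.mk J x)
      exact ⟨Subgroup.mem_map.1 (hle hU'), Subgroup.mem_map.1 (hle hL')⟩
    obtain ⟨c0, hc0I, hc0⟩ := Submodule.exists_mem_ne_zero_of_ne_bot hI.1
    have hatom : ∀ c ∈ I, c ≠ 0 → ∀ y ∈ I, ∃ r, r * c = y := by
      intro c hc hc' y hy
      have hle : Ideal.span {c} ≤ I := (Ideal.span_singleton_le_iff_mem _).2 hc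
      rcases eq_or_lt_of_le hle with h | h
      · rw [← h, Ideal.mem_span_singleton'] at hy; exact hy
      · exact absurd (Ideal.span_singleton_eq_bot.1 (hI.2 _ h)) hc'
    have hdich : (∀ x ∈ I, ∀ y ∈ I, x * y = 0) ∨ ∃ e ∈ I, e ≠ 0 ∧ (∀ y ∈ I, e * y = y) ∧
        ∀ c ∈ I, c ≠ 0 → ∃ c' ∈ I, c * c' = e := by
      by_cases h0 : ∀ x ∈ I, ∀ y ∈ I, x * y = 0
      · exact Or.inl h0
      push Not at h0
      obtain ⟨a, ha, b, hb, hab⟩ := h0
      obtain ⟨r, hr⟩ := hatom (a * b) (I.mul_mem_left _ hb) hab a ha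
      set e := r * b with he
      have hea : e * a = a := by rw [he]; linear_combination hr
      have ha0 : a ≠ 0 := fun h => hab (by rw [h, zero_mul])
      have hee : ∀ y ∈ I, e * y = y := by
        intro y hy
        obtain ⟨s, rfl⟩ := hatom a ha ha0 y hy
        linear_combination s * hea
      have heI : e ∈ I := I.mul_mem_left _ hb
      refine Or.inr ⟨e, heI, fun h => ha0 ?_, hee, fun c hc hc' => ?_⟩
      · rw [← hea, h, zero_mul]
      · obtain ⟨s, hs⟩ := hatom c hc hc' e heI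
        exact ⟨e * s, I.mul_mem_right _ heI, by linear_combination e * hs + hee e heI⟩
    set m : Ideal R := LinearMap.ker (LinearMap.mulLeft R c0) with hm
    have hmI : ∀ x ∈ m, ∀ y ∈ I, x * y = 0 := by
      intro x hx y hy
      obtain ⟨r, rfl⟩ := hatom c0 hc0I hc0 y hy
      rw [hm, LinearMap.mem_ker, LinearMap.mulLeft_apply] at hx
      linear_combination r * hx
    have hmt : m ≠ ⊤ := fun h => by
      have h1 : (1 : R) ∈ m := h ▸ Submodule.mem_top
      rw [hm, LinearMap.mem_ker, LinearMap.mulLeft_apply, mul_one] at h1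
      exact hc0 h1
    have hmb : m ≠ ⊥ := fun h => by
      rw [hm, LinearMap.ker_eq_bot] at h
      obtain ⟨v, hv⟩ := (Finite.injective_iff_surjective.1 h) 1
      refine hInt (Ideal.eq_top_of_isUnit_mem _ hc0I (.of_mul_eq_one v hv))
    have honI := hquot I hI.1 hInt
    have honm := hquot m hmb hmt
    have hN : ∀ x, ∀ g ∈ kerIn H I, eU x * g * (eU x)⁻¹ ∈ kerIn H I ∧
        eL x * g * (eL x)⁻¹ ∈ kerIn H I := by
      intro x g hg
      refine ⟨kerIn_conj hmI hg ?_, kerIn_conj hmI hg ?_⟩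
      · obtain ⟨h, hh, e⟩ := (honm x).1; exact ⟨h, hh, by rw [e, map_eU]⟩
      · obtain ⟨h, hh, e⟩ := (honm x).2; exact ⟨h, hh, by rw [e, map_eL]⟩
    have hone : eU (1 : R) ∈ H := by
      have := eU_mem_gen (k := k) lam 1
      rwa [map_one] at this
    by_cases hcent : ∀ g ∈ kerIn H I, g 1 0 = 0 ∧ g 0 1 = 0 ∧ g 0 0 = g 1 1
    · exact (central_absurd hk2 hk3 hp hI.1 hu hgen (eU_mem_gen lam) hLlam honI hcent).elim
    push Not at hcent
    obtain ⟨g, hg, hgne⟩ := hcent
    obtain ⟨g', hg', hg'ne⟩ : ∃ g' ∈ kerIn H I, g' 1 0 ≠ 0 := by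
      by_cases h10 : g 1 0 = 0
      swap
      · exact ⟨g, hg, h10⟩
      by_cases h01 : g 0 1 = 0
      · refine ⟨_, (hN 1 g hg).2, ?_⟩
        simp only [eL_inv, mulE, eL00, eL10, eL11, h10, h01]
        intro h
        exact hgne h10 h01 (by linear_combination h)
      · refine ⟨_, (hN 1 _ (hN (-1) _ (hN 1 g hg).1).2).1, ?_⟩
        simp only [eL_inv, eU_inv, mulE, eU00, eU01, eU10, eU11, eL00, eL01, eL10, eL11, h10]
        intro h
        exact h01 (by linear_combination -h)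
    obtain ⟨y, hyI, hy0, hy⟩ := exists_eU_mem hk2 hk3 hp
      (fun g hg => entries_of_map_eq_one (mem_kerIn.1 hg).2) (fun x g hg => (hN x g hg).1)
      (fun x g hg => (hN x g hg).2) hdich hg' hg'ne
    exact eU_mem_of_kerIn hk2 hk3 hp hatom hdich hN hone honI hyI hy0 hy

end main

end SL2Gen

/-- `SL(2, k[λ])` is generated by `u(k)` and `l(k λ)`. -/
theorem genProp {k : Type u} [Field k] (hk2 : (2 : k) ≠ 0) (hk3 : Nat.card k ≠ 3) : GenProp k := by
  intro R _ _ _ _ lam hu hgen x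
  rcases finite_or_infinite k with hk | hk
  · have : Fact (ringChar k).Prime := ⟨CharP.char_is_prime k _⟩
    exact SL2Gen.gen_of_finite hk2 (exists_torus hk2 hk3) (p := ringChar k)
      (fun h => hk2 (by
        have : ((ringChar k : ℕ) : k) = 0 := ringChar.Nat.cast_ringChar
        rw [h] at this; exact_mod_cast this))
      _ R rfl lam hu hgen x
  · exact SL2Gen.gen_eq_top_of_infinite lam hk2 hu hgen x

end Cfsg.Agent.QuadPair
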