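import Cfsg.Agent.Lib.QuadPair.Components

/-!
Every quadratic element of a quadratic pair either centralises a component group `G_i` or has its
whole scalar family inside it.
-/

set_option autoImplicit false
set_option linter.unusedSectionVars false

universe u v

namespace Cfsg.Agent.QuadPair

open Cfsg
open scoped commutatorElement

variable {k : Type u} [Field k] {M : Type v} [AddCommGroup M] [Module k M] [FiniteDimensional k M]
variable {G : Subgroup (LinearMap.GeneralLinearGroup k M)}

section one_minimal

variable {a x : Module.End k M}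

/-- The top odd word in `x` is the exact value of an iterated commutator. -/
theorem fam_top (h2 : (2 : k) ≠ 0) (ha : a * a = 0) (hx : x * x = 0) (haf : Fam G a)
    (hxf : Fam G x) (j : ℕ) (hz : (a * x + x * a) ^ (j + 1) * a = 0) :
    Fam G ((a * x + x * a) ^ (j + 1) * x) := by
  set z := a * x + x * a with hzdef
  intro c
  obtain ⟨t, ht, hl⟩ := exists_lead h2 ha hx haf hxf j
  set s := -(c / (2 * t)) with hs
  have h1 := hl.step (by omega) (smul_sq hx s) (hxf.smul s)
    (Submodule.smul_mem _ s right_mem_words)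
  have zx : z * x = x * z := z_comm_right hx
  have h0 : words a x (2 * j + 4) = ⊥ := by
    refine eq_bot_iff.2 (iSup_le fun i => ?_)
    have h4 : lin a x ^ (2 * (j + 1) + 2) ≤ ⊥ := by
      refine (lin_pow_le ha hx (j + 1)).2.trans (Submodule.span_le.2 ?_)
      rintro _ (rfl | rfl)
      · show z ^ (j + 1) * (a * x) ∈ (⊥ : Submodule k (Module.End k M))
        rw [← mul_assoc, hz, zero_mul]
        exact Submodule.zero_mem _
      · show z ^ (j + 1) * (x * a) ∈ (⊥ : Submodule k (Module.End k M))
        rw [← mul_assoc, z_pow_comm zx, mul_assoc, hz, mul_zero]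
        exact Submodule.zero_mem _
    rw [pow_add, show 2 * j + 4 = 2 * (j + 1) + 2 by omega, le_bot_iff.1 h4, Submodule.bot_mul]
  obtain ⟨g, hg, -, -, hge⟩ := h1
  refine ⟨g, hg, ?_⟩
  rw [show 2 * j + 2 + 1 + 1 = 2 * j + 4 by omega, h0, Submodule.mem_bot, sub_eq_zero] at hge
  rw [← sub_eq_iff_eq_add', hge]
  have : NeZero (2 : k) := ⟨h2⟩
  have e : (a * x - x * a) * x - x * (a * x - x * a) = (-2 : k) • (z * x) := by
    calc (a * x - x * a) * x - x * (a * x - x * a)
        = a * (x * x) + x * x * a - (x * a * x + x * a * x) := by noncomm_ring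
      _ = _ := by
        rw [hx, mul_zero, zero_mul, zero_add, zero_sub, neg_smul, two_smul, hzdef, bab hx]
  have e1 : (z ^ j * (a * x - x * a)) * x - x * (z ^ j * (a * x - x * a)) =
      (-2 : k) • (z ^ (j + 1) * x) := by
    rw [← mul_assoc x, ← z_pow_comm zx j, mul_assoc, mul_assoc, ← mul_sub, e, mul_smul_comm,
      ← mul_assoc, ← pow_succ]
  rw [smul_mul_assoc, mul_smul_comm, mul_smul_comm, smul_mul_assoc, ← smul_sub,
    ← smul_sub, e1, smul_smul, smul_smul, hs,
    show t * -(c / (2 * t)) * -2 = c by field_simp]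

/-- One minimal element suffices for `a x a = 0`. -/
theorem aba_eq_zero_of_nilpotent (h2 : (2 : k) ≠ 0) (ha : IsMin G a) (hx : x * x = 0)
    (hxf : Fam G x) (hz : IsNilpotent (a * x + x * a)) : a * x * a = 0 := by
  classical
  set z := a * x + x * a with hzdef
  rw [aba ha.sq, ← hzdef]
  by_contra hne
  obtain ⟨N, hN⟩ := id hz
  have hex : ∃ i, z ^ i * a = 0 := ⟨N, by simp [hN]⟩
  have hspec := Nat.find_spec hex
  have h1 : 1 < Nat.find hex := by
    by_contra hle
    interval_cases h : Nat.find hex
    · rw [pow_zero, one_mul] at hspec; exact ha.ne hspec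
    · rw [pow_one] at hspec; exact hne hspec
  obtain ⟨m, hm⟩ : ∃ m, Nat.find hex = m + 2 := ⟨Nat.find hex - 2, by omega⟩
  rw [hm] at hspec
  have htop : z ^ (m + 1) * a ≠ 0 := Nat.find_min hex (by omega)
  have za : z * a = a * z := z_comm_left ha.sq
  have hX : z ^ (m + 2) * x = x * (z ^ (m + 1) * a) * x := by
    rw [pow_succ, mul_assoc, ← bab hx, ← mul_assoc, ← mul_assoc,
      z_pow_comm (z_comm_right hx), mul_assoc x]
  have hzero : z ^ (m + 2) * x = 0 := by
    by_contra hX0
    have hXs : z ^ (m + 2) * x * (z ^ (m + 2) * x) = 0 := by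
      rw [mul_assoc, ← mul_assoc x, ← z_pow_comm (z_comm_right hx), mul_assoc, hx, mul_zero,
        mul_zero]
    have h3 := ha.le_rank _ hXs hX0 (fam_top h2 ha.sq hx ha.fam hxf (m + 1) hspec)
    have hWle : LinearMap.range (z ^ (m + 1) * a) ≤ LinearMap.range a := by
      rw [z_pow_comm za]
      rintro _ ⟨v, rfl⟩
      exact ⟨_, rfl⟩
    have hlt : LinearMap.range (z ^ (m + 1) * a) < LinearMap.range a := by
      refine lt_of_le_of_ne hWle fun he => ?_
      apply htop
      refine LinearMap.ext fun v => ?_
      obtain ⟨w, hw⟩ := he.ge ⟨v, rfl⟩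
      show (z ^ (m + 1)) (a v) = 0
      rw [← hw, ← Module.End.mul_apply, ← mul_assoc, ← pow_add,
        show m + 1 + (m + 1) = m + (m + 2) by omega, pow_add, mul_assoc, hspec, mul_zero]
      rfl
    have h4 : Module.finrank k (LinearMap.range (z ^ (m + 2) * x)) ≤
        Module.finrank k (LinearMap.range (z ^ (m + 1) * a)) := by
      rw [hX]
      refine le_trans (Submodule.finrank_mono ?_)
        (Submodule.finrank_map_le x (LinearMap.range (z ^ (m + 1) * a)))
      rintro _ ⟨v, rfl⟩
      exact ⟨_, ⟨_, rfl⟩, rfl⟩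
    exact absurd (h3.trans h4) (not_le.2 (Submodule.finrank_lt_finrank_of_lt hlt))
  exact false_of_top h2 ha hx hxf htop hspec hzero hz

end one_minimal

/-- `G` normalises the span of a component. -/
def compGroup (G A : Subgroup (LinearMap.GeneralLinearGroup k M)) :
    Subgroup (LinearMap.GeneralLinearGroup k M) :=
  ⨆ B ∈ comp G A, B

/-- Commuting with a subgroup, in `End M`. -/
def CommutesWith (H : Subgroup (LinearMap.GeneralLinearGroup k M)) (b : Module.End k M) : Prop :=
  ∀ g ∈ H, (g : Module.End k M) * b = b * (g : Module.End k M)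

theorem commutesWith_iSup {S : Set (Subgroup (LinearMap.GeneralLinearGroup k M))}
    {b : Module.End k M} (h : ∀ A ∈ S, CommutesWith A b) : CommutesWith (⨆ A ∈ S, A) b := by
  let P : Subgroup (LinearMap.GeneralLinearGroup k M) :=
    { carrier := {g | (g : Module.End k M) * b = b * (g : Module.End k M)}
      one_mem' := by simp
      mul_mem' := fun {g g'} hg hg' => by
        show ((g * g' : LinearMap.GeneralLinearGroup k M) : Module.End k M) * b = _
        rw [Units.val_mul, mul_assoc, hg', ← mul_assoc, hg, mul_assoc]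
      inv_mem' := fun {g} hg => by
        show ((g⁻¹ : LinearMap.GeneralLinearGroup k M) : Module.End k M) * b = _
        calc ((g⁻¹ : LinearMap.GeneralLinearGroup k M) : Module.End k M) * b
            = ((g⁻¹ : LinearMap.GeneralLinearGroup k M) : Module.End k M) *
                (b * (g : Module.End k M)) *
                  ((g⁻¹ : LinearMap.GeneralLinearGroup k M) : Module.End k M) := by
              rw [mul_assoc, mul_assoc, Units.mul_inv, mul_one]
          _ = _ := by rw [← hg, ← mul_assoc, Units.inv_mul, one_mul] }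
  intro g hg
  exact (iSup₂_le (fun A hA => show A ≤ P from fun g hg => h A hA g hg) : _ ≤ P) hg

theorem CommutesWith.min {A : Subgroup (LinearMap.GeneralLinearGroup k M)} {a x : Module.End k M}
    (hA : IsRootOf G A a) (hx : x ∈ vsp G a) {b : Module.End k M} (h : CommutesWith A b) :
    x * b = b * x := by
  have := h _ (onePlus_mem_of_vsp hA hx)
  rwa [coe_onePlus, add_mul, one_mul, mul_add, mul_one, add_right_inj] at this

theorem rep_wE {a b : Module.End k M} {R : Type u} [CommRing R] [Algebra k R] {lam : R}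
    (C : Corner a b R lam) (h : ∀ x, C.rep (SL2Gen.eU x) ∈ G ∧ C.rep (SL2Gen.eL x) ∈ G) :
    C.rep SL2Gen.wE ∈ G := by
  simp only [SL2Gen.wE, map_mul]
  exact G.mul_mem (G.mul_mem (h 1).1 (h (-1)).2) (h 1).1

theorem cj_onePlus_smul {x : Module.End k M} (hx : x * x = 0) (b : Module.End k M) (t : k) :
    cj (onePlus (t • x) (smul_sq hx t)) b = b + t • (x * b - b * x) - t ^ 2 • (x * b * x) := by
  simp only [cj, coe_onePlus, coe_onePlus_inv]
  simp only [add_mul, one_mul, mul_sub, mul_one, smul_mul_assoc, mul_smul_comm, smul_sub, sub_mul,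
    mul_assoc, pow_two]
  module

section main

variable (hgen : GenProp k) (hk2 : ringChar k ≠ 2) (hk3 : Nat.card k ≠ 3)
  (hG : IsQuadraticPair G)

include hgen hk2 hk3 hG

omit hgen hk2 hk3 hG in
theorem reach_conj_G {A B : Subgroup (LinearMap.GeneralLinearGroup k M)}
    (h : Relation.ReflTransGen (FAdj (quadraticRootSubgroups G)) A B)
    {g : LinearMap.GeneralLinearGroup k M} (hg : g ∈ G) :
    Relation.ReflTransGen (FAdj (quadraticRootSubgroups G)) (conjBy A g) (conjBy B g) :=
  h.lift (fun C => conjBy C g) fun _ _ hCD =>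
    ⟨conjBy_mem_quadraticRootSubgroups hCD.1 hg, conjBy_mem_quadraticRootSubgroups hCD.2.1 hg,
      RootSub.rankOne_conjBy hCD.2.2 g⟩

/-- The elements of `G` fixing the component of `A`. -/
theorem reach_conj_all {A : Subgroup (LinearMap.GeneralLinearGroup k M)}
    (hA : A ∈ quadraticRootSubgroups G) {g : LinearMap.GeneralLinearGroup k M} (hg : g ∈ G) :
    Relation.ReflTransGen (FAdj (quadraticRootSubgroups G)) A (conjBy A g) := by
  have h2 := two_ne_zero_of_ringChar hk2
  let P : Subgroup (LinearMap.GeneralLinearGroup k M) :=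
    { carrier := {g | g ∈ G ∧
        Relation.ReflTransGen (FAdj (quadraticRootSubgroups G)) A (conjBy A g)}
      one_mem' := ⟨G.one_mem, by rw [RootSub.conjBy_one]⟩
      mul_mem' := fun {g h} hg hh => ⟨G.mul_mem hg.1 hh.1, by
        have := reach_conj_G hh.2 hg.1
        rw [RootSub.conjBy_conjBy] at this
        exact hg.2.trans this⟩
      inv_mem' := fun {g} hg => ⟨G.inv_mem hg.1, by
        have := reach_conj_G (RootSub.fReach_symm hg.2) (G.inv_mem hg.1)
        rwa [RootSub.conjBy_conjBy, inv_mul_cancel, RootSub.conjBy_one] at this⟩ }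
  suffices hle : quadraticElements G ⊆ P from
    ((hG.2.symm.le.trans ((Subgroup.closure_le P).2 hle)) hg).2
  intro σ hσ
  obtain ⟨hx, -, hxf⟩ := mem_quadraticElements_iff.1 hσ
  set x := (σ : Module.End k M) - 1 with hxdef
  obtain ⟨a, ha, hAm⟩ := exists_of_mem_quadraticRootSubgroups hA
  obtain ⟨g, hgG, hopp⟩ := exists_opp_conj h2 hG.1 ha
  set y := cj g a
  have hBm := isRootOf_conjBy hAm ha.sq hgG
  have hB := conjBy_mem_quadraticRootSubgroups hA hgG
  have hBA : conjBy A g ∈ comp G A := ⟨hB, .single ⟨hA, hB,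
    isRankOnePair_of_opp hgen hk2 hk3 ha (ha.cj hgG) hopp hAm hBm⟩⟩
  let gt : k → LinearMap.GeneralLinearGroup k M := fun t => onePlus (t • x) (smul_sq hx t)
  have hgt : ∀ t, gt t ∈ G := fun t => (hxf t).onePlus_mem _
  have hadd : ∀ s t, gt (s + t) = gt s * gt t := fun s t => Units.ext (by
    simp only [gt, Units.val_mul, coe_onePlus, mul_add, add_mul, mul_one, one_mul, add_smul,
      smul_mul_assoc, mul_smul_comm, hx, smul_zero, add_zero]
    abel)
  have hσ1 : σ = gt 1 := Units.ext (by
    simp only [gt, coe_onePlus, one_smul, hxdef]; abel)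
  suffices hall : ∀ t, gt t ∈ P by
    show σ ∈ P
    exact hσ1 ▸ hall 1
  by_contra hcon
  push Not at hcon
  obtain ⟨t, ht⟩ := hcon
  have key : ∀ s, gt s ∉ P → y * a - a * y = s ^ 2 • (y * (x * a * x) - x * a * x * y) := by
    intro s hs
    have hcm : ∀ r, gt r ∉ P → (y * a - a * y) + r • (y * (x * a - a * x) - (x * a - a * x) * y) -
        r ^ 2 • (y * (x * a * x) - x * a * x * y) = 0 := by
      intro r hr
      have hne : comp G A ≠ comp G (conjBy A (gt r)) := fun e => hr ⟨hgt r, by
        have h1 : conjBy A (gt r) ∈ comp G A :=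
          e ▸ comp_self (conjBy_mem_quadraticRootSubgroups hA (hgt r))
        exact h1.2⟩
      have h1 := RootSub.commutator_eq_bot_iff_commute.1
        (comp_commute hgen hk2 hk3 hG.1 hBA
          (comp_self (conjBy_mem_quadraticRootSubgroups hA (hgt r))) hne) _
        (onePlus_mem_of_vsp hBm (ha.cj hgG).self_mem_vsp) _
        (onePlus_mem_of_vsp (isRootOf_conjBy hAm ha.sq (hgt r)) (ha.cj (hgt r)).self_mem_vsp)
      rw [commute_iff_sub_one, coe_onePlus, coe_onePlus, add_sub_cancel_left,
        add_sub_cancel_left, ← sub_eq_zero] at h1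
      rw [← h1, show cj (gt r) a = a + r • (x * a - a * x) - r ^ 2 • (x * a * x) from
        cj_onePlus_smul hx a r]
      simp only [mul_add, mul_sub, add_mul, sub_mul, smul_mul_assoc, mul_smul_comm, smul_sub]
      module
    have hsn : gt (-s) ∉ P := fun h => hs (by
      have : gt s = (gt (-s))⁻¹ := eq_inv_of_mul_eq_one_left (by
        rw [← hadd, add_neg_cancel]; exact Units.ext (by simp [gt, coe_onePlus]))
      rw [this]; exact P.inv_mem h)
    have e1 := hcm s hs
    have e2 := hcm (-s) hsn
    rw [neg_sq, neg_smul] at e2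
    generalize y * a - a * y = X at e1 e2 ⊢
    generalize y * (x * a - a * x) - (x * a - a * x) * y = Y at e1 e2
    generalize y * (x * a * x) - x * a * x * y = Z at e1 e2 ⊢
    have e3 : (2 : k) • (X - s ^ 2 • Z) = 0 := by
      rw [two_smul]
      linear_combination (norm := module) e1 + e2
    exact sub_eq_zero.1 ((smul_eq_zero.1 e3).resolve_left h2)
  -- two values of `s²`
  have hyne : y * a - a * y ≠ 0 := fun h => by
    apply hopp
    rw [mul_assoc, sub_eq_zero.1 h, ← mul_assoc, ha.sq, zero_mul]
  have hQ : ∀ c : k, gt (c * t) ∈ P ∨ c ^ 2 = 1 := by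
    intro c
    by_contra hc
    push Not at hc
    have e := key t ht
    have e' := key _ hc.1
    have h0 : ((c * t) ^ 2 - t ^ 2) • (y * (x * a * x) - x * a * x * y) = 0 := by
      rw [sub_smul, ← e', ← e, sub_self]
    rcases smul_eq_zero.1 h0 with h | h
    · have ht0 : t ≠ 0 := by
        rintro rfl
        refine ht ?_
        have : gt 0 = 1 := Units.ext (by simp [gt, coe_onePlus])
        rw [this]; exact P.one_mem
      exact hc.2 (mul_right_cancel₀ (pow_ne_zero 2 ht0) (by linear_combination h))
    · exact hyne (by rw [e, h, smul_zero])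
  obtain ⟨u, hu0, hu1⟩ := exists_torus h2 hk3
  have hcases : ∀ c : k, c ^ 2 ≠ 1 → c ≠ 0 → c = -2 := by
    intro c hc hc0
    have h1 := (hQ c).resolve_right hc
    rcases hQ (c + 1) with h | h
    · refine absurd ?_ ht
      have h3 := P.mul_mem (P.inv_mem h1) h
      rwa [show c + 1 = c + 1 from rfl, show (c + 1) * t = c * t + t by ring, hadd,
        inv_mul_cancel_left] at h3
    · have : c * (c + 2) = 0 := by linear_combination h
      exact eq_neg_of_add_eq_zero_left ((mul_eq_zero.1 this).resolve_left hc0)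
  have hu2 : u ^ 2 ≠ 1 := by rwa [pow_two]
  have e1 := hcases u hu2 hu0
  have e2 := hcases (-u) (by rwa [neg_sq]) (neg_ne_zero.2 hu0)
  exact h2 ((mul_self_eq_zero).1 (by linear_combination e2 + e1))

theorem compGroup_conj {A : Subgroup (LinearMap.GeneralLinearGroup k M)}
    {g : LinearMap.GeneralLinearGroup k M} (hg : g ∈ G) :
    conjBy (compGroup G A) g = compGroup G A := by
  have hle : ∀ g ∈ G, conjBy (compGroup G A) g ≤ compGroup G A := by
    intro g hg
    rw [conjBy, compGroup, Subgroup.map_iSup]
    refine iSup_le fun C => ?_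
    rw [Subgroup.map_iSup]
    exact iSup_le fun hC => le_iSup_mem (S := comp G A)
      ⟨conjBy_mem_quadraticRootSubgroups hC.1 hg,
        hC.2.trans (reach_conj_all hgen hk2 hk3 hG hC.1 hg)⟩
  refine le_antisymm (hle g hg) ?_
  have := (RootSub.conjBy_le_conjBy (g := g)).2 (hle g⁻¹ (G.inv_mem hg))
  rwa [RootSub.conjBy_conjBy, mul_inv_cancel, RootSub.conjBy_one] at this

theorem conj_mem_compGroup {A : Subgroup (LinearMap.GeneralLinearGroup k M)}
    {g e : LinearMap.GeneralLinearGroup k M} (hg : g ∈ G) (he : e ∈ compGroup G A) :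
    g * e * g⁻¹ ∈ compGroup G A :=
  (compGroup_conj hgen hk2 hk3 hG hg).le (RootSub.conj_mem_conjBy he)

/-- `[x, b]` commutes with the component group when `b` does. -/
theorem bracket_commutesWith {A : Subgroup (LinearMap.GeneralLinearGroup k M)}
    {x b : Module.End k M} (hx : x * x = 0) (hxf : Fam G x)
    (hb : CommutesWith (compGroup G A) b) :
    CommutesWith (compGroup G A) (x * b - b * x) := by
  have h2 := two_ne_zero_of_ringChar hk2
  intro e he
  have hcm : ∀ t : k, (e : Module.End k M) *
      (b + t • (x * b - b * x) - t ^ 2 • (x * b * x)) =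
        (b + t • (x * b - b * x) - t ^ 2 • (x * b * x)) * (e : Module.End k M) := by
    intro t
    set g := onePlus (t • x) (smul_sq hx t)
    have hg : g ∈ G := (hxf t).onePlus_mem _
    have h1 := hb _ (conj_mem_compGroup hgen hk2 hk3 hG (G.inv_mem hg) he)
    rw [inv_inv] at h1
    have e0 : cj g b = b + t • (x * b - b * x) - t ^ 2 • (x * b * x) := by
      exact cj_onePlus_smul hx b t
    rw [← e0]
    have h3 := congrArg (cj g) h1
    rw [cj_mul, cj_mul] at h3
    have e4 : cj g ((g⁻¹ * e * g : LinearMap.GeneralLinearGroup k M) : Module.End k M) =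
        (e : Module.End k M) := by
      rw [cj, ← Units.val_mul, ← Units.val_mul]
      congr 1
      group
    rwa [e4] at h3
  have h1 := hcm 1
  have h3 := hcm (-1)
  have h5 := congrArg₂ (fun p q : Module.End k M => p - q) h1 h3
  rw [← mul_sub, ← sub_mul] at h5
  have e5 : b + (1 : k) • (x * b - b * x) - (1 : k) ^ 2 • (x * b * x) -
      (b + (-1 : k) • (x * b - b * x) - (-1 : k) ^ 2 • (x * b * x)) =
      (2 : k) • (x * b - b * x) := by module
  rw [e5, mul_smul_comm, smul_mul_assoc] at h5
  exact smul_right_injective _ h2 h5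

/-- If all minimal elements of a component form nilpotent pairs with `x`, it centralises it. -/
theorem commutesWith_of_nilpotent {A : Subgroup (LinearMap.GeneralLinearGroup k M)}
    {x : Module.End k M} (hx : x * x = 0) (hxf : Fam G x)
    (hnil : ∀ B ∈ comp G A, ∀ b, IsMin G b → IsRootOf G B b → b * x * b = 0) :
    CommutesWith (compGroup G A) x := by
  have h2 := two_ne_zero_of_ringChar hk2
  refine commutesWith_iSup fun B hB e he => ?_
  obtain ⟨a0, ha0, hBm0⟩ := exists_of_mem_quadraticRootSubgroups hB.1
  have he' := (hBm0 e).1 he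
  by_cases he0 : (e : Module.End k M) - 1 = 0
  · rw [sub_eq_zero] at he0
    rw [he0, one_mul, mul_one]
  obtain ⟨ha, -, -⟩ := ha0.of_mem_vsp he' he0
  have hBm : IsRootOf G B ((e : Module.End k M) - 1) := fun g => by
    rw [hBm0 g, ha0.vsp_eq he' he0]
  set a := (e : Module.End k M) - 1 with had
  have axa := hnil B hB a ha hBm
  set u := x * a * x with hu
  set w := x * a - a * x with hwd
  -- the conjugates of `a`
  let gt : k → LinearMap.GeneralLinearGroup k M := fun t => onePlus (t • x) (smul_sq hx t)
  have hgt : ∀ t, gt t ∈ G := fun t => (hxf t).onePlus_mem _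
  have hat : ∀ t, cj (gt t) a = a + t • w - t ^ 2 • u := by
    intro t
    exact cj_onePlus_smul hx a t
  have hin : ∀ t, conjBy B (gt t) ∈ comp G A := fun t =>
    ⟨conjBy_mem_quadraticRootSubgroups hB.1 (hgt t),
      hB.2.trans (reach_conj_all hgen hk2 hk3 hG hB.1 (hgt t))⟩
  -- the linearised hypothesis
  have hlin : ∀ C ∈ comp G A, ∀ c, IsMin G c → IsRootOf G C c → ∀ d, IsMin G d →
      c * (x * d - d * x) * c = 0 := by
    intro C hC c hc hCm d hd
    have hcm : ∀ s : k, c * x * c + s • (c * (x * d - d * x) * c) -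
        s ^ 2 • (c * (d * x * d) * c) = 0 := by
      intro s
      set g := onePlus (s • d) (smul_sq hd.sq s)
      have hg : g ∈ G := (hd.fam s).onePlus_mem _
      have h1 := hnil _ ⟨conjBy_mem_quadraticRootSubgroups hC.1 hg,
        hC.2.trans (reach_conj_all hgen hk2 hk3 hG hC.1 hg)⟩ _ (hc.cj hg)
        (isRootOf_conjBy hCm hc.sq hg)
      have h3 := congrArg (cj g⁻¹) h1
      rw [cj_mul, cj_mul, cj_inv_cj, cj_zero] at h3
      rw [← h3]
      simp only [cj, g, inv_inv, coe_onePlus, coe_onePlus_inv]
      simp only [sub_mul, one_mul, mul_add, mul_one, smul_mul_assoc, mul_smul_comm, smul_smul,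
        add_mul, mul_sub, smul_sub, mul_assoc, pow_two]
      abel
    have e1 := hcm 1
    have e2 := hcm (-1)
    rw [one_smul, one_pow] at e1
    rw [neg_sq, one_pow, neg_smul, one_smul, one_smul] at e2
    rw [one_smul] at e1
    have e3 : (2 : k) • (c * (x * d - d * x) * c) = 0 := by
      generalize c * x * c = X at e1 e2
      generalize c * (x * d - d * x) * c = Y at e1 e2 ⊢
      generalize c * (d * x * d) * c = Z at e1 e2
      linear_combination (norm := module) e1 - e2
    exact (smul_eq_zero.1 e3).resolve_left h2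
  -- a minimal combination of the conjugates has a partner in the component
  have hopp : ∀ v, IsMin G v →
      (∀ D : Module.End k M, (∀ t, D * cj (gt t) a = cj (gt t) a * D) → D * a = a * D →
        D * v = v * D) →
      ∃ C ∈ comp G A, ∃ c, IsMin G c ∧ IsRootOf G C c ∧ v * c * v ≠ 0 := by
    intro v hv hvc
    obtain ⟨g, hg, hne⟩ := exists_opp_conj h2 hG.1 hv
    obtain ⟨L, hL, hLm⟩ := exists_sigma (hv.cj hg)
    refine ⟨L, ?_, _, hv.cj hg, hLm, hne⟩
    by_contra hLA
    have hne' : comp G A ≠ comp G L := fun e => hLA (e ▸ comp_self hL)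
    have hcomm : ∀ C ∈ comp G A, ∀ c, IsRootOf G C c → ∀ c' ∈ vsp G c,
        cj g v * c' = c' * cj g v := by
      intro C hC c hCm c' hc'
      have h1 := RootSub.commutator_eq_bot_iff_commute.1
        (comp_commute hgen hk2 hk3 hG.1 hC (comp_self hL) hne') _ (onePlus_mem_of_vsp hCm hc') _
        (onePlus_mem_of_vsp hLm (hv.cj hg).self_mem_vsp)
      rw [commute_iff_sub_one, coe_onePlus, coe_onePlus, add_sub_cancel_left,
        add_sub_cancel_left] at h1
      exact h1.symm
    have := hvc _ (fun t => hcomm _ (hin t) _ (isRootOf_conjBy hBm ha.sq (hgt t)) _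
      (ha.cj (hgt t)).self_mem_vsp) (hcomm _ hB _ hBm _ ha.self_mem_vsp)
    apply hne
    rw [mul_assoc, this, ← mul_assoc, hv.sq, zero_mul]
  have hw1 : ∀ D : Module.End k M, (∀ t, D * cj (gt t) a = cj (gt t) a * D) → D * a = a * D →
      D * u = u * D ∧ D * w = w * D := by
    intro D hD hDa
    have e1 := hD 1
    have e2 := hD (-1)
    simp only [hat, one_smul, one_pow, neg_sq, neg_smul, mul_add, mul_sub, add_mul, sub_mul,
      mul_neg, neg_mul, hDa] at e1 e2
    constructor
    · have e3 : (2 : k) • (D * u - u * D) = 0 := by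
        generalize a * D = A0 at e1 e2
        generalize D * u = A1 at e1 e2 ⊢
        generalize u * D = A2 at e1 e2 ⊢
        generalize D * w = A3 at e1 e2
        generalize w * D = A4 at e1 e2
        linear_combination (norm := module) -e1 - e2
      exact sub_eq_zero.1 ((smul_eq_zero.1 e3).resolve_left h2)
    · have e3 : (2 : k) • (D * w - w * D) = 0 := by
        generalize a * D = A0 at e1 e2
        generalize D * u = A1 at e1 e2
        generalize u * D = A2 at e1 e2
        generalize D * w = A3 at e1 e2 ⊢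
        generalize w * D = A4 at e1 e2 ⊢
        linear_combination (norm := module) e1 - e2
      exact sub_eq_zero.1 ((smul_eq_zero.1 e3).resolve_left h2)
  -- `y [x, a] y = 0` and the same for a conjugate
  have hyw : ∀ C ∈ comp G A, ∀ c, IsMin G c → IsRootOf G C c → c * w * c = 0 :=
    fun C hC c hc hCm => hlin C hC c hc hCm a ha
  have hyu : ∀ C ∈ comp G A, ∀ c, IsMin G c → IsRootOf G C c → c * u * c = 0 := by
    intro C hC c hc hCm
    have h1 := hlin C hC c hc hCm _ (ha.cj (hgt 1))
    rw [hat, one_smul, one_pow, one_smul] at h1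
    have e : x * (a + w - u) - (a + w - u) * x = w - (u + u) := by
      rw [hwd, hu]
      calc x * (a + (x * a - a * x) - x * a * x) - (a + (x * a - a * x) - x * a * x) * x
          = x * a - a * x + x * x * a + a * (x * x) - (x * a * x + x * a * x)
              - x * x * a * x + x * a * (x * x) := by noncomm_ring
        _ = _ := by rw [hx]; simp
    rw [e, mul_sub, sub_mul, hyw C hC c hc hCm, zero_sub, neg_eq_zero, mul_add, add_mul,
      ← two_smul k] at h1
    exact (smul_eq_zero.1 h1).resolve_left h2
  have hu0 : u = 0 := by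
    by_contra hne
    have hza : (a * x + x * a) ^ (0 + 1) * a = 0 := by rw [zero_add, pow_one, ← aba ha.sq, axa]
    have hfam := fam_top h2 ha.sq hx ha.fam hxf 0 hza
    rw [zero_add, pow_one, ← bab hx, ← hu] at hfam
    have hrk : Module.finrank k (LinearMap.range u) ≤ Module.finrank k (LinearMap.range a) := by
      refine le_trans (Submodule.finrank_mono ?_) (Submodule.finrank_map_le x (LinearMap.range a))
      rintro _ ⟨v, rfl⟩
      exact ⟨a (x v), ⟨_, rfl⟩, rfl⟩
    have husq : u * u = 0 := by
      rw [hu, show x * a * x * (x * a * x) = x * a * (x * x) * a * x by noncomm_ring, hx]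
      simp
    have hum := ha.of_rank_le husq hne hfam hrk
    obtain ⟨C, hC, c, hc, hCm, hne'⟩ := hopp u hum fun D h1 h3 => (hw1 D h1 h3).1
    exact bab_ne_zero h2 hum hc hne' (hyu C hC c hc hCm)
  have hw0 : w = 0 := by
    by_contra hne
    obtain ⟨hsq, hwf, -, -, -, -⟩ := bracket_facts hx ha.sq hxf ha.fam hu0 axa
    have hrk : Module.finrank k (LinearMap.range w) ≤ Module.finrank k (LinearMap.range a) := by
      rw [← finrank_flat hx (LinearMap.range a)]
      refine Submodule.finrank_mono ?_
      rintro _ ⟨m, rfl⟩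
      refine sub_mem (Submodule.mem_sup_left ⟨a m, ⟨m, rfl⟩, rfl⟩)
        (Submodule.mem_sup_right ⟨⟨x m, rfl⟩, ?_⟩)
      show x (a (x m)) ∈ LinearMap.range a
      rw [show x (a (x m)) = u m from rfl, hu0]
      exact Submodule.zero_mem _
    have hwm := ha.of_rank_le hsq hne hwf hrk
    obtain ⟨C, hC, c, hc, hCm, hne'⟩ := hopp w hwm fun D h1 h3 => (hw1 D h1 h3).2
    exact bab_ne_zero h2 hwm hc hne' (hyw C hC c hc hCm)
  rw [hwd, sub_eq_zero] at hw0
  rw [show (e : Module.End k M) = 1 + a by rw [had, add_sub_cancel], add_mul, one_mul, mul_add,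
    mul_one, hw0]

/-- A non-nilpotent pair: the corner part of `x` lies in the component group and the rest commutes
with what commutes with the component group. -/
theorem corner_split {A B : Subgroup (LinearMap.GeneralLinearGroup k M)} {a x : Module.End k M}
    (hB : B ∈ comp G A) (ha : IsMin G a) (hBm : IsRootOf G B a) (hx : x * x = 0) (hxf : Fam G x)
    (hz : ¬ IsNilpotent (a * x + x * a)) :
    ∃ x₀ : Module.End k M, x₀ * x₀ = 0 ∧ Fam (compGroup G A) x₀ ∧
      (x - x₀) * (x - x₀) = 0 ∧ Fam G (x - x₀) ∧ x₀ * (x - x₀) = 0 ∧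
      Module.finrank k (LinearMap.range (x - x₀)) < Module.finrank k (LinearMap.range x) ∧
      ∀ b, CommutesWith (compGroup G A) b → (x - x₀) * b = b * (x - x₀) := by
  have h2 := two_ne_zero_of_ringChar hk2
  obtain ⟨R, _, _, _, _, lam, C, hu, hadj, hinj, hidem, hp0, hrU⟩ :=
    exists_pre hgen h2 hk3 ha.sq hx ha.fam hxf hz
  set p := C.idem with hp
  have hpa : p * a = a * p := C.comm_left 1
  have hpx : p * x = x * p := C.comm_right 1
  have hmapc : ∀ c : k, C.map (algebraMap k R c) = c • p := fun c => by
    rw [Algebra.algebraMap_eq_smul_one, map_smul]; rfl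
  have hfa : p * a = a := C.fix_of_isMin hidem hp0 ha hpa hpx rfl fun t =>
    ⟨_, (hrU (algebraMap k R t)).1, by rw [C.rep_eU, hmapc, smul_mul_assoc]⟩
  have hBH : B ≤ compGroup G A := le_iSup_mem hB
  have hU : ∀ r, C.rep (SL2Gen.eU r) ∈ compGroup G A := fun r => by
    refine hBH ((hBm _).2 ?_)
    rw [C.rep_eU, add_sub_cancel_left]
    refine (mem_vsp_iff ha.sq).2 ⟨fun c => ⟨_, (hrU (c • r)).1, ?_⟩, ?_, ?_⟩
    · rw [C.rep_eU, map_smul, smul_mul_assoc]
    · rw [C.comm_left]; rintro _ ⟨m, rfl⟩; exact ⟨_, rfl⟩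
    · intro m hm; rw [LinearMap.mem_ker, Module.End.mul_apply, LinearMap.mem_ker.1 hm, map_zero]
  have hw := rep_wE C hrU
  have hLr : ∀ r, C.rep (SL2Gen.eL r) ∈ compGroup G A := fun r => by
    rw [← SL2Gen.eL_eq_conj r, map_mul, map_mul, map_inv]
    exact conj_mem_compGroup hgen hk2 hk3 hG hw (hU _)
  have hrepL : ∀ c : k, (C.rep (SL2Gen.eL (algebraMap k R c * lam)) : Module.End k M) =
      1 + c • (p * x) := fun c => by
    rw [C.rep_eL, mul_assoc, C.lam_li, mul_one, hmapc, smul_mul_assoc]
  have hneg : C.rep (SL2Gen.wE * SL2Gen.wE) ∈ compGroup G A := by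
    simp only [SL2Gen.wE, map_mul]
    exact mul_mem (mul_mem (mul_mem (hU _) (hLr _)) (hU _))
      (mul_mem (mul_mem (hU _) (hLr _)) (hU _))
  have hnegE : (C.rep (SL2Gen.wE * SL2Gen.wE) : Module.End k M) = 1 - p - p := by
    obtain ⟨w00, w01, w10, w11⟩ := SL2Gen.wE_entries (R := R)
    have h1 := C.psi_one
    rw [C.coe_rep, ← hp, sub_eq_add_neg (1 - p) p, add_right_inj, Corner.psi]
    simp only [SL2Gen.mulE, w00, w01, w10, w11]
    simp only [mul_zero, zero_mul, one_mul, mul_one, neg_mul, zero_add, add_zero, map_neg,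
      map_zero, neg_mul (α := Module.End k M)]
    rw [← neg_add, ← mul_add, C.map_lam, mul_comm, C.lam_li]
    rfl
  obtain ⟨x₀, hx₀⟩ : ∃ x₀, x₀ = p * x := ⟨_, rfl⟩
  simp only [← hx₀] at hrepL
  have hx₀sq : x₀ * x₀ = 0 := by
    rw [hx₀, hpx, mul_assoc, ← mul_assoc p x, hpx, mul_assoc x p p, ← mul_assoc, hx, zero_mul]
  have hx₀x : x₀ * x = 0 := by rw [hx₀, mul_assoc, hx, mul_zero]
  have hxx₀ : x * x₀ = 0 := by rw [hx₀, hpx, ← mul_assoc, hx, zero_mul]
  have hfam0 : Fam (compGroup G A) x₀ := fun c => ⟨_, hLr _, hrepL c⟩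
  have hz0 : p * x ≠ 0 := by
    intro h0
    refine hp0 ?_
    have e1 : C.map (1 * lam) = 0 := by
      rw [← C.map_lam 1, show C.map 1 = p from rfl, mul_add, ← mul_assoc p a, hfa, ← mul_assoc p x,
        h0, zero_mul, add_zero]
      calc a * x = a * p * x := by rw [← hpa, hfa]
        _ = 0 := by rw [mul_assoc, h0, mul_zero]
    rw [show p = C.map (1 * lam) * C.map C.li by rw [← C.map_mul, one_mul, C.lam_li]; rfl, e1,
      zero_mul]
  refine ⟨x₀, hx₀sq, hfam0, ?_, ?_, ?_, ?_, fun b hb => ?_⟩
  · simp [sub_mul, mul_sub, hx, hx₀sq, hx₀x, hxx₀]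
  · intro c
    refine ⟨onePlus (c • x) (smul_sq hx c) * (onePlus (c • x₀) (smul_sq hx₀sq c))⁻¹,
      G.mul_mem ((hxf c).onePlus_mem _) (G.inv_mem ?_), ?_⟩
    · rw [← eq_onePlus (smul_sq hx₀sq c) (hrepL c)]
      exact (hrU _).2
    · rw [Units.val_mul, coe_onePlus, coe_onePlus_inv, mul_sub, mul_one, add_mul, one_mul,
        smul_mul_assoc, mul_smul_comm, hxx₀, smul_zero, smul_zero, add_zero, smul_sub]
      abel
  · rw [mul_sub, hx₀x, hx₀sq, sub_zero]
  · have hle : LinearMap.range (x - x₀) ≤ (LinearMap.range x).map (1 - p) := by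
      rintro _ ⟨m, rfl⟩
      exact ⟨x m, ⟨m, rfl⟩, by rw [hx₀, ← Module.End.mul_apply, sub_mul, one_mul]⟩
    refine lt_of_le_of_lt (Submodule.finrank_mono hle) ?_
    refine lt_of_le_of_ne (Submodule.finrank_map_le _ _) fun heq => hz0 ?_
    have h5 := LinearMap.finrank_range_add_finrank_ker ((1 - p).domRestrict (LinearMap.range x))
    rw [LinearMap.range_domRestrict, heq, Nat.add_eq_left, Submodule.finrank_eq_zero] at h5
    refine LinearMap.ext fun m => ?_
    have h6 : (⟨x (p m), ⟨_, rfl⟩⟩ : LinearMap.range x) ∈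
        LinearMap.ker ((1 - p).domRestrict (LinearMap.range x)) := by
      rw [LinearMap.mem_ker, LinearMap.domRestrict_apply]
      show x (p m) - p (x (p m)) = 0
      rw [← Module.End.mul_apply x p, ← Module.End.mul_apply p (x * p), ← hpx, ← mul_assoc, hidem,
        sub_self]
    rw [h5, Submodule.mem_bot, Subtype.ext_iff] at h6
    show (p * x) m = 0
    rw [hpx]
    exact h6
  · -- `D = [x, b]` kills `[M, G_i] = M`
    set D := x * b - b * x with hD
    clear_value D
    have hDc : CommutesWith (compGroup G A) D := by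
      rw [hD]; exact bracket_commutesWith hgen hk2 hk3 hG hx hxf hb
    have hcx₀ : ∀ {d}, CommutesWith (compGroup G A) d → x₀ * d = d * x₀ := by
      intro d hd
      have := hd _ (hLr (algebraMap k R 1 * lam))
      rwa [hrepL, one_smul, add_mul, one_mul, mul_add, mul_one, add_right_inj] at this
    suffices hD0 : D = 0 by
      rw [hD, sub_eq_zero] at hD0
      rw [sub_mul, mul_sub, hD0, hcx₀ hb]
    have hanti : x * D = -(D * x) := by
      rw [eq_neg_iff_add_eq_zero, hD, mul_sub, sub_mul, ← mul_assoc, hx, mul_assoc b x x, hx,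
        zero_mul, mul_zero, zero_sub, sub_zero, ← mul_assoc, neg_add_cancel]
    have hpD : p * D = D * p := by
      have := hDc _ hneg
      rw [hnegE] at this
      simp only [sub_mul, mul_sub, one_mul, mul_one] at this
      have e : (2 : k) • (p * D - D * p) = 0 := by linear_combination (norm := module) -this
      exact sub_eq_zero.1 ((smul_eq_zero.1 e).resolve_left h2)
    have hDx : D * x₀ = 0 := by
      have h5 : D * x₀ = -(D * x₀) := by
        conv_lhs => rw [← hcx₀ hDc, hx₀, mul_assoc, hanti, mul_neg, ← mul_assoc, hpD, mul_assoc,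
          ← hx₀]
      have h7 : (2 : k) • (D * x₀) = 0 := by rw [two_smul]; exact eq_neg_iff_add_eq_zero.1 h5
      exact (smul_eq_zero.1 h7).resolve_left h2
    have haD : a * D = D * a :=
      CommutesWith.min hBm ha.self_mem_vsp (fun g hg => hDc g (hBH hg))
    have hDa : D * a = 0 := by
      have e1 : D * C.map (1 * lam) = 0 := by
        rw [← C.map_lam 1, show C.map 1 = p from rfl, mul_add, ← mul_assoc p a, hfa,
          ← mul_assoc p x, ← hx₀, mul_add, ← mul_assoc D x₀, hDx, zero_mul, add_zero]
        calc D * (a * x) = D * (a * p * x) := by rw [← hpa, hfa]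
          _ = a * (D * x₀) := by rw [← mul_assoc D, ← mul_assoc D, ← haD, hx₀]; simp only [mul_assoc]
          _ = 0 := by rw [hDx, mul_zero]
      have e2 : D * p = 0 := by
        rw [show p = C.map (1 * lam) * C.map C.li by rw [← C.map_mul, one_mul, C.lam_li]; rfl,
          ← mul_assoc, e1, zero_mul]
      rw [← hfa, ← mul_assoc, e2, zero_mul]
    let P : Subgroup (LinearMap.GeneralLinearGroup k M) :=
      { carrier := {g | D * (g : Module.End k M) = D}
        one_mem' := by simp
        mul_mem' := fun {g g'} (hg : D * (g : Module.End k M) = D)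
            (hg' : D * (g' : Module.End k M) = D) => by
          show D * ((g * g' : LinearMap.GeneralLinearGroup k M) : Module.End k M) = D
          rw [Units.val_mul, ← mul_assoc, hg, hg']
        inv_mem' := fun {g} (hg : D * (g : Module.End k M) = D) => by
          show D * ((g⁻¹ : LinearMap.GeneralLinearGroup k M) : Module.End k M) = D
          conv_lhs => rw [← hg, mul_assoc, Units.mul_inv, mul_one] }
    have hBP : B ≤ P := fun g hg => by
      show D * (g : Module.End k M) = D
      have h5 : D * ((g : Module.End k M) - 1) = 0 := LinearMap.ext fun m => by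
        obtain ⟨n, hn⟩ := ((mem_vsp_iff ha.sq).1 ((hBm g).1 hg)).2.1 ⟨m, rfl⟩
        rw [Module.End.mul_apply, ← hn, ← Module.End.mul_apply, hDa]
        rfl
      rwa [mul_sub, mul_one, sub_eq_zero] at h5
    have hP : compGroup G A ≤ P := iSup₂_le fun B' hB' => by
      have hcl := (comp_quasiData hgen hk2 hk3 hG.1 (A := A) (by
        rcases Relation.ReflTransGen.cases_head hB.2 with e | ⟨E, hE, -⟩
        · exact e ▸ hB.1
        · exact hE.1)).isClass
      obtain ⟨g, hg⟩ := hcl.2.2 _ (mem_restrictSet hB) _ (mem_restrictSet hB')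
      have hgm := congrArg (Subgroup.map (⨆ E ∈ comp G A, E).subtype) hg
      rw [RootSub.map_conjBy, map_restrict hB, map_restrict hB'] at hgm
      rw [hgm]
      rintro _ ⟨e, he, rfl⟩
      show D * ((g.1 * e * g.1⁻¹ : LinearMap.GeneralLinearGroup k M) : Module.End k M) = D
      rw [Units.val_mul, Units.val_mul, ← mul_assoc, ← mul_assoc, ← hDc _ g.2, mul_assoc _ D,
        show D * (e : Module.End k M) = D from hBP he, hDc _ g.2, mul_assoc, Units.mul_inv,
        mul_one]
    have hX : commutatorSubmodule (compGroup G A) = ⊤ := by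
      refine (hG.1.2 _ fun g hg v hv => ?_).resolve_left ?_
      · have hle : commutatorSubmodule (compGroup G A) ≤
            (commutatorSubmodule (compGroup G A)).comap (g : M →ₗ[k] M) := by
          refine iSup₂_le fun e he => ?_
          rintro _ ⟨m, rfl⟩
          refine le_iSup₂ (f := fun (f : LinearMap.GeneralLinearGroup k M)
            (_ : f ∈ compGroup G A) => LinearMap.range ((f : M →ₗ[k] M) - 1)) _
            (conj_mem_compGroup hgen hk2 hk3 hG hg he) ⟨(g : M →ₗ[k] M) m, ?_⟩
          show (((g * e * g⁻¹ : LinearMap.GeneralLinearGroup k M) : Module.End k M) - 1)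
            ((g : Module.End k M) m) = (g : Module.End k M) (((e : Module.End k M) - 1) m)
          rw [← cj_sub_one, cj, ← Module.End.mul_apply, mul_assoc, Units.inv_mul, mul_one]
          rfl
        exact hle hv
      · intro h0
        refine ha.ne (LinearMap.ext fun m => ?_)
        have h1 : a m ∈ commutatorSubmodule (compGroup G A) := by
          refine le_iSup₂ (f := fun (f : LinearMap.GeneralLinearGroup k M)
            (_ : f ∈ compGroup G A) => LinearMap.range ((f : M →ₗ[k] M) - 1)) _
            (hBH (onePlus_mem_of_vsp hBm ha.self_mem_vsp)) ⟨m, ?_⟩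
          show (((onePlus a _ : LinearMap.GeneralLinearGroup k M) : Module.End k M) - 1) m = a m
          rw [coe_onePlus, add_sub_cancel_left]
        rw [h0, Submodule.mem_bot] at h1
        exact h1
    have hker : commutatorSubmodule (compGroup G A) ≤ LinearMap.ker D := iSup₂_le fun e he => by
      rintro _ ⟨m, rfl⟩
      show D (((e : Module.End k M) - 1) m) = 0
      rw [← Module.End.mul_apply, mul_sub, mul_one, show D * (e : Module.End k M) = D from hP he,
        sub_self]
      rfl
    exact LinearMap.ext fun m => hker (hX ▸ Submodule.mem_top)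

/-- A quadratic element centralises a component or lies in it. -/
theorem fam_mem_comp {A : Subgroup (LinearMap.GeneralLinearGroup k M)}
    (hA : A ∈ quadraticRootSubgroups G) {x : Module.End k M} (hx : x * x = 0) (hxf : Fam G x) :
    CommutesWith (compGroup G A) x ∨ Fam (compGroup G A) x := by
  have h2 := two_ne_zero_of_ringChar hk2
  have hsplit : ∀ {x : Module.End k M}, x * x = 0 → Fam G x →
      ¬ CommutesWith (compGroup G A) x →
      ∃ x₀ : Module.End k M, x₀ * x₀ = 0 ∧ Fam (compGroup G A) x₀ ∧
      (x - x₀) * (x - x₀) = 0 ∧ Fam G (x - x₀) ∧ x₀ * (x - x₀) = 0 ∧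
      Module.finrank k (LinearMap.range (x - x₀)) < Module.finrank k (LinearMap.range x) ∧
      ∀ b, CommutesWith (compGroup G A) b → (x - x₀) * b = b * (x - x₀) := by
    intro x hx hxf hne
    obtain ⟨B, hB, b, hb, hBm, hne'⟩ : ∃ B ∈ comp G A, ∃ b, IsMin G b ∧ IsRootOf G B b ∧
        b * x * b ≠ 0 := by
      by_contra hall
      push Not at hall
      exact hne (commutesWith_of_nilpotent hgen hk2 hk3 hG hx hxf hall)
    exact corner_split hgen hk2 hk3 hG hB hb hBm hx hxf fun hz =>
      hne' (aba_eq_zero_of_nilpotent h2 hb hx hxf hz)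
  -- `G` is generated by the component group and its centraliser
  have hgenG : ∀ n, ∀ x : Module.End k M, x * x = 0 → Fam G x →
      Module.finrank k (LinearMap.range x) = n → ∀ c : k, ∀ b,
      CommutesWith (compGroup G A) b → (∀ d, CommutesWith (compGroup G A) d → d * b = b * d) →
      (1 + c • x) * b = b * (1 + c • x) := by
    intro n
    induction n using Nat.strong_induction_on with
    | _ n ih =>
      intro x hx hxf hn c b hb hb'
      by_cases hc : CommutesWith (compGroup G A) x
      · rw [add_mul, mul_add, one_mul, mul_one, smul_mul_assoc, mul_smul_comm, hb' x hc]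
      obtain ⟨x₀, h0, h0f, h1, h1f, h01, hlt, -⟩ := hsplit hx hxf hc
      have e := ih _ (hn ▸ hlt) (x - x₀) h1 h1f rfl c b hb hb'
      obtain ⟨g, hg, hge⟩ := h0f c
      have e' := hb g hg
      rw [hge] at e'
      have hfac : (1 + c • x₀) * (1 + c • (x - x₀)) = 1 + c • x := by
        rw [mul_add (1 + c • x₀), mul_one, add_mul, one_mul, smul_mul_assoc, mul_smul_comm, h01,
          smul_zero, smul_zero, add_zero, smul_sub]
        abel
      rw [← hfac, mul_assoc, e, ← mul_assoc, e', mul_assoc]
  suffices h : ∀ n, ∀ x : Module.End k M, x * x = 0 → Fam G x →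
      Module.finrank k (LinearMap.range x) = n →
      CommutesWith (compGroup G A) x ∨ Fam (compGroup G A) x from h _ x hx hxf rfl
  intro n
  induction n using Nat.strong_induction_on with
  | _ n ih =>
    intro x hx hxf hn
    by_cases hc : CommutesWith (compGroup G A) x
    · exact Or.inl hc
    right
    obtain ⟨x₀, h0, h0f, h1, h1f, h01, hlt, hcc⟩ := hsplit hx hxf hc
    rcases ih _ (hn ▸ hlt) (x - x₀) h1 h1f rfl with h | h
    · -- then the rest is central, hence zero
      suffices e : x - x₀ = 0 by rwa [sub_eq_zero.1 e]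
      set x' := x - x₀ with hx'
      have hall : ∀ g ∈ G, (g : Module.End k M) * x' = x' * (g : Module.End k M) := by
        have hmax : ∀ d, CommutesWith (compGroup G A) d → d * x' = x' * d := fun d hd =>
          (hcc d hd).symm
        let P : Subgroup (LinearMap.GeneralLinearGroup k M) :=
          { carrier := {g | cj g x' = x'}
            one_mem' := cj_one x'
            mul_mem' := fun {g g'} (hg : cj g x' = x') (hg' : cj g' x' = x') => by
              show cj (g * g') x' = x'
              rw [← cj_cj, hg', hg]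
            inv_mem' := fun {g} (hg : cj g x' = x') => by
              show cj g⁻¹ x' = x'
              conv_lhs => rw [← hg, cj_inv_cj] }
        have hsub : quadraticElements G ⊆ P := by
          intro σ hσ
          obtain ⟨hs, -, hsf⟩ := mem_quadraticElements_iff.1 hσ
          have := hgenG _ _ hs hsf rfl 1 x' h hmax
          rw [one_smul, add_sub_cancel] at this
          show cj σ x' = x'
          rw [cj, this, mul_assoc, Units.mul_inv, mul_one]
        intro g hg
        have hgP : cj g x' = x' := (hG.2.symm.le.trans ((Subgroup.closure_le P).2 hsub)) hg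
        conv_rhs => rw [← hgP, cj, mul_assoc, Units.inv_mul, mul_one]
      rcases hG.1.2 (LinearMap.ker x') (fun g hg v hv => by
          rw [LinearMap.mem_ker] at hv ⊢
          show (x' * (g : Module.End k M)) v = 0
          rw [← hall g hg, Module.End.mul_apply, hv, map_zero]) with hb | ht
      · refine LinearMap.ext fun v => ?_
        have : x' v ∈ LinearMap.ker x' :=
          LinearMap.mem_ker.2 (by rw [← Module.End.mul_apply, h1]; rfl)
        rwa [hb, Submodule.mem_bot] at this
      · exact LinearMap.ker_eq_top.1 ht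
    · have := h0f.add h h01
      rwa [add_sub_cancel] at this

end main

end Cfsg.Agent.QuadPair
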