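import Cfsg.Agent.Lib.QuadPair.Bracket

/-!
The pairs of root groups `E`, `F ∈ Σ`: the commutator case.
-/

set_option autoImplicit false
set_option linter.unusedSectionVars false

universe u v

namespace Cfsg.Agent.QuadPair

open Cfsg
open scoped commutatorElement

variable {k : Type u} [Field k] {M : Type v} [AddCommGroup M] [Module k M]
variable {G : Subgroup (LinearMap.GeneralLinearGroup k M)}

theorem eq_onePlus_sub_one {g : LinearMap.GeneralLinearGroup k M}
    (h : ((g : Module.End k M) - 1) * ((g : Module.End k M) - 1) = 0) :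
    g = onePlus ((g : Module.End k M) - 1) h := Units.ext (add_sub_cancel _ _).symm

theorem inv_sub_one {g : LinearMap.GeneralLinearGroup k M}
    (h : ((g : Module.End k M) - 1) * ((g : Module.End k M) - 1) = 0) :
    ((g⁻¹ : LinearMap.GeneralLinearGroup k M) : Module.End k M) - 1 =
      -((g : Module.End k M) - 1) := by
  conv_lhs => rw [eq_onePlus_sub_one h]
  rw [coe_onePlus_inv, sub_sub_cancel_left]

theorem comm_eq_of_bracket {e f : LinearMap.GeneralLinearGroup k M} {w : Module.End k M}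
    (he : ((e : Module.End k M) - 1) * ((e : Module.End k M) - 1) = 0)
    (hf : ((f : Module.End k M) - 1) * ((f : Module.End k M) - 1) = 0)
    (hw : ((e : Module.End k M) - 1) * ((f : Module.End k M) - 1) -
      ((f : Module.End k M) - 1) * ((e : Module.End k M) - 1) = w)
    (h1 : w * ((e : Module.End k M) - 1) = 0) (h2 : w * ((f : Module.End k M) - 1) = 0) :
    ((e * f * e⁻¹ * f⁻¹ : LinearMap.GeneralLinearGroup k M) : Module.End k M) - 1 = w := by
  have ee : ((e⁻¹ : LinearMap.GeneralLinearGroup k M) : Module.End k M) =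
      1 - ((e : Module.End k M) - 1) := by
    have := inv_sub_one he
    rw [sub_eq_iff_eq_add] at this
    rw [this]; abel
  have ef : ((f⁻¹ : LinearMap.GeneralLinearGroup k M) : Module.End k M) =
      1 - ((f : Module.End k M) - 1) := by
    have := inv_sub_one hf
    rw [sub_eq_iff_eq_add] at this
    rw [this]; abel
  rw [commutator_sub_one, hw, Units.val_mul, ee, ef, ← mul_assoc, mul_sub w 1, mul_one, h1,
    sub_zero, mul_sub w 1, mul_one, h2, sub_zero]

variable [FiniteDimensional k M]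

theorem exists_sigma {a : Module.End k M} (ha : IsMin G a) :
    ∃ L ∈ quadraticRootSubgroups G, ∀ g : LinearMap.GeneralLinearGroup k M,
      g ∈ L ↔ (g : Module.End k M) - 1 ∈ vsp G a := by
  have e : ((onePlus a ha.sq : LinearMap.GeneralLinearGroup k M) : Module.End k M) - 1 = a :=
    add_sub_cancel_left 1 a
  refine ⟨_, ⟨onePlus a ha.sq, mem_minimal_iff.2 (by rw [e]; exact ha), rfl⟩, fun g => ?_⟩
  rw [mem_sameActionSubgroup_iff (by rw [e]; exact ha), e]

theorem mem_G_of_vsp {a : Module.End k M} {g : LinearMap.GeneralLinearGroup k M}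
    (h : (g : Module.End k M) - 1 ∈ vsp G a) : g ∈ G := by
  obtain ⟨g', hg', e⟩ := (h.1 : Fam G _).mem
  rwa [show g = g' from Units.ext (by rw [e, add_sub_cancel])]

theorem onePlus_mem_of_vsp {a x : Module.End k M} {E : Subgroup (LinearMap.GeneralLinearGroup k M)}
    (hE : ∀ g : LinearMap.GeneralLinearGroup k M, g ∈ E ↔ (g : Module.End k M) - 1 ∈ vsp G a)
    (hx : x ∈ vsp G a) : onePlus x (mul_eq_zero_of_mem_vsp hx hx) ∈ E :=
  (hE _).2 (by rw [coe_onePlus, add_sub_cancel_left]; exact hx)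

/-- The commutator case. -/
theorem commutator_case (hgen : GenProp k) (hk2 : ringChar k ≠ 2) (hk3 : Nat.card k ≠ 3)
    (hirr : IsIrreducibleFor G) {a b : Module.End k M} (ha : IsMin G a) (hb : IsMin G b)
    (h : a * b * a = 0) (hne : a * b ≠ b * a)
    {E F : Subgroup (LinearMap.GeneralLinearGroup k M)}
    (hE : ∀ g : LinearMap.GeneralLinearGroup k M, g ∈ E ↔ (g : Module.End k M) - 1 ∈ vsp G a)
    (hF : ∀ g : LinearMap.GeneralLinearGroup k M, g ∈ F ↔ (g : Module.End k M) - 1 ∈ vsp G b) :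
    ⁅E, F⁆ ∈ quadraticRootSubgroups G ∧
      (∀ e ∈ E, e ≠ 1 → Subgroup.closure ((fun f : LinearMap.GeneralLinearGroup k M =>
        e * f * e⁻¹ * f⁻¹) '' (F : Set (LinearMap.GeneralLinearGroup k M))) = ⁅E, F⁆) ∧
      (∀ f ∈ F, f ≠ 1 → Subgroup.closure ((fun e : LinearMap.GeneralLinearGroup k M =>
        e * f * e⁻¹ * f⁻¹) '' (E : Set (LinearMap.GeneralLinearGroup k M))) = ⁅E, F⁆) ∧
      ⁅E ⊔ F, E ⊔ F⁆ ≠ ⊥ ∧ ⁅⁅E ⊔ F, E ⊔ F⁆, E ⊔ F⁆ = ⊥ ∧
      ((E ⊔ F : Subgroup (LinearMap.GeneralLinearGroup k M)) :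
        Set (LinearMap.GeneralLinearGroup k M)) ⊆ quadraticUnipotentCore G ⁅E, F⁆ ∧
      IsUnipotentOn (E ⊔ F) := by
  have h2 := two_ne_zero_of_ringChar hk2
  obtain ⟨hw, hmem, hsL, hsR⟩ := bracket_main hgen hk2 hk3 hirr ha hb h hne
  set w := a * b - b * a with hwdef
  obtain ⟨L, hL, hLm⟩ := exists_sigma hw
  have hbab := bab_of_aba h2 ha hb h
  -- the actions
  have hwneg : vsp G (b * a - a * b) = vsp G w := by
    rw [← vsp_neg (b * a - a * b), neg_sub]
  have actE : ∀ x ∈ vsp G a, (∀ u ∈ vsp G w, u * x = 0 ∧ x * u = 0) ∧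
      ∀ m ∈ LinearMap.ker w, x m ∈ LinearMap.range w := fun x hx =>
    bracket_action h2 ha hb h hne hx
  have actF : ∀ x ∈ vsp G b, (∀ u ∈ vsp G w, u * x = 0 ∧ x * u = 0) ∧
      ∀ m ∈ LinearMap.ker w, x m ∈ LinearMap.range w := fun x hx => by
    obtain ⟨h1, h3⟩ := bracket_action h2 hb ha hbab hne.symm hx
    rw [hwneg] at h1
    refine ⟨h1, fun m hm => ?_⟩
    have e : b * a - a * b = -w := (neg_sub _ _).symm
    rw [e, LinearMap.ker_neg, LinearMap.range_neg] at h3
    exact h3 m hm
  -- the commutator formula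
  have hcomm : ∀ e ∈ E, ∀ f ∈ F,
      ((e * f * e⁻¹ * f⁻¹ : LinearMap.GeneralLinearGroup k M) : Module.End k M) - 1 =
        ((e : Module.End k M) - 1) * ((f : Module.End k M) - 1) -
          ((f : Module.End k M) - 1) * ((e : Module.End k M) - 1) := by
    intro e he f hf
    have hx := (hE e).1 he
    have hy := (hF f).1 hf
    exact comm_eq_of_bracket (mul_eq_zero_of_mem_vsp hx hx) (mul_eq_zero_of_mem_vsp hy hy) rfl
      ((actE _ hx).1 _ (hmem _ hx _ hy)).1 ((actF _ hy).1 _ (hmem _ hx _ hy)).1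
  have hcL : ∀ e ∈ E, ∀ f ∈ F, e * f * e⁻¹ * f⁻¹ ∈ L := fun e he f hf => by
    rw [hLm, hcomm e he f hf]
    exact hmem _ ((hE e).1 he) _ ((hF f).1 hf)
  have hEF : ⁅E, F⁆ = L := by
    refine le_antisymm (Subgroup.commutator_le.2 hcL) fun g hg => ?_
    obtain ⟨y, hy, hye⟩ := hsR a ha.self_mem_vsp ha.ne _ ((hLm g).1 hg)
    have e1 := hcomm _ (onePlus_mem_of_vsp hE ha.self_mem_vsp) _ (onePlus_mem_of_vsp hF hy)
    simp only [coe_onePlus, add_sub_cancel_left] at e1
    rw [hye, sub_left_inj] at e1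
    rw [← Units.ext e1]
    exact Subgroup.commutator_mem_commutator (onePlus_mem_of_vsp hE ha.self_mem_vsp)
      (onePlus_mem_of_vsp hF hy)
  have hwL : onePlus w hw.sq ∈ L := by
    rw [hLm, coe_onePlus, add_sub_cancel_left]
    exact hw.self_mem_vsp
  have hLne : ∀ g, g ≠ onePlus w hw.sq ∨ g ≠ (1 : LinearMap.GeneralLinearGroup k M) := fun g => by
    by_contra hh
    push Not at hh
    have := congrArg (fun u : LinearMap.GeneralLinearGroup k M => (u : Module.End k M))
      (hh.1.symm.trans hh.2)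
    simp only [coe_onePlus, Units.val_one, add_eq_left] at this
    exact hw.ne this
  refine ⟨hEF ▸ hL, fun e he he1 => ?_, fun f hf hf1 => ?_, ?_, ?_, ?_, ?_⟩
  · rw [hEF]
    refine le_antisymm ((Subgroup.closure_le _).2 ?_) fun g hg => ?_
    · rintro _ ⟨f, hf, rfl⟩
      exact hcL e he f hf
    · obtain ⟨y, hy, hye⟩ := hsR _ ((hE e).1 he) (sub_one_ne_zero he1) _ ((hLm g).1 hg)
      have e1 := hcomm e he _ (onePlus_mem_of_vsp hF hy)
      simp only [coe_onePlus, add_sub_cancel_left] at e1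
      rw [hye, sub_left_inj] at e1
      exact Subgroup.subset_closure ⟨_, onePlus_mem_of_vsp hF hy, Units.ext e1⟩
  · rw [hEF]
    refine le_antisymm ((Subgroup.closure_le _).2 ?_) fun g hg => ?_
    · rintro _ ⟨e, he, rfl⟩
      exact hcL e he f hf
    · obtain ⟨x, hx, hxe⟩ := hsL _ ((hF f).1 hf) (sub_one_ne_zero hf1) _ ((hLm g).1 hg)
      have e1 := hcomm _ (onePlus_mem_of_vsp hE hx) f hf
      simp only [coe_onePlus, add_sub_cancel_left] at e1
      rw [hxe, sub_left_inj] at e1
      exact Subgroup.subset_closure ⟨_, onePlus_mem_of_vsp hE hx, Units.ext e1⟩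
  · intro hb0
    have h1 : L ≤ (⊥ : Subgroup (LinearMap.GeneralLinearGroup k M)) := by
      rw [← hb0, ← hEF]
      exact Subgroup.commutator_mono le_sup_left le_sup_right
    rcases hLne (onePlus w hw.sq) with h | h
    · exact h rfl
    · exact h (Subgroup.mem_bot.1 (h1 hwL))
  · -- class two
    have hcen : E ⊔ F ≤ Subgroup.centralizer (L : Set (LinearMap.GeneralLinearGroup k M)) := by
      refine sup_le ?_ ?_ <;> intro g hg <;> refine Subgroup.mem_centralizer_iff.2 fun l hl =>
        (commute_iff_sub_one l g).2 ?_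
      · obtain ⟨h1, h3⟩ := (actE _ ((hE g).1 hg)).1 _ ((hLm l).1 hl)
        rw [h1, h3]
      · obtain ⟨h1, h3⟩ := (actF _ ((hF g).1 hg)).1 _ ((hLm l).1 hl)
        rw [h1, h3]
    let Z := Subgroup.centralizer (L : Set (LinearMap.GeneralLinearGroup k M))
    have hsub : ∀ e : LinearMap.GeneralLinearGroup k M, ∃ P : Subgroup (LinearMap.GeneralLinearGroup k M),
        ∀ g, g ∈ P ↔ g ∈ Z ∧ g * e * g⁻¹ * e⁻¹ ∈ L := fun e =>
      ⟨{ carrier := {g | g ∈ Z ∧ g * e * g⁻¹ * e⁻¹ ∈ L}
         one_mem' := ⟨Z.one_mem, by simp⟩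
         mul_mem' := by
           rintro g h ⟨hg, hg'⟩ ⟨hh, hh'⟩
           refine ⟨Z.mul_mem hg hh, ?_⟩
           have e1 : g * h * e * (g * h)⁻¹ * e⁻¹ =
               g * (h * e * h⁻¹ * e⁻¹) * g⁻¹ * (g * e * g⁻¹ * e⁻¹) := by group
           have e2 : g * (h * e * h⁻¹ * e⁻¹) * g⁻¹ = h * e * h⁻¹ * e⁻¹ := by
             rw [← Subgroup.mem_centralizer_iff.1 hg _ hh', mul_inv_cancel_right]
           rw [e1, e2]
           exact L.mul_mem hh' hg'
         inv_mem' := by
           rintro g ⟨hg, hg'⟩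
           refine ⟨Z.inv_mem hg, ?_⟩
           have e1 : g⁻¹ * e * g⁻¹⁻¹ * e⁻¹ = g⁻¹ * (g * e * g⁻¹ * e⁻¹)⁻¹ * g := by group
           have e2 : g⁻¹ * (g * e * g⁻¹ * e⁻¹)⁻¹ * g = (g * e * g⁻¹ * e⁻¹)⁻¹ := by
             rw [mul_assoc, Subgroup.mem_centralizer_iff.1 hg _ (L.inv_mem hg'),
               inv_mul_cancel_left]
           rw [e1, e2]
           exact L.inv_mem hg' }, fun g => Iff.rfl⟩
    have hflip : ∀ {g e : LinearMap.GeneralLinearGroup k M}, g * e * g⁻¹ * e⁻¹ ∈ L →
        e * g * e⁻¹ * g⁻¹ ∈ L := fun {g e} hge => by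
      have := L.inv_mem hge
      rwa [show (g * e * g⁻¹ * e⁻¹)⁻¹ = e * g * e⁻¹ * g⁻¹ by group] at this
    have hab : ∀ {A : Subgroup (LinearMap.GeneralLinearGroup k M)} {c : Module.End k M},
        (∀ g : LinearMap.GeneralLinearGroup k M, g ∈ A ↔ (g : Module.End k M) - 1 ∈ vsp G c) →
        ∀ g ∈ A, ∀ e ∈ A, g * e * g⁻¹ * e⁻¹ ∈ L := by
      intro A c hA g hg e he
      have h1 : g * e = e * g := (commute_iff_sub_one g e).2 (by
        rw [mul_eq_zero_of_mem_vsp ((hA g).1 hg) ((hA e).1 he),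
          mul_eq_zero_of_mem_vsp ((hA e).1 he) ((hA g).1 hg)])
      rw [h1, mul_inv_cancel_right, mul_inv_cancel]
      exact L.one_mem
    have hbase : ∀ g ∈ E ⊔ F, ∀ e, (e ∈ E ∨ e ∈ F) → g * e * g⁻¹ * e⁻¹ ∈ L := by
      intro g hg e he
      obtain ⟨P, hP⟩ := hsub e
      refine ((hP g).1 ((sup_le ?_ ?_ : E ⊔ F ≤ P) hg)).2 <;> intro x hx <;>
        refine (hP x).2 ⟨hcen ?_, ?_⟩
      · exact Subgroup.mem_sup_left hx
      · rcases he with he | he
        · exact hab hE x hx e he
        · exact hcL x hx e he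
      · exact Subgroup.mem_sup_right hx
      · rcases he with he | he
        · exact hflip (hcL e he x hx)
        · exact hab hF x hx e he
    have hle : ⁅E ⊔ F, E ⊔ F⁆ ≤ L := by
      refine Subgroup.commutator_le.2 fun g hg e he => ?_
      obtain ⟨P, hP⟩ := hsub g
      refine hflip ((hP e).1 ((sup_le ?_ ?_ : E ⊔ F ≤ P) he)).2 <;> intro x hx <;>
        refine (hP x).2 ⟨hcen ?_, hflip (hbase g hg x ?_)⟩
      · exact Subgroup.mem_sup_left hx
      · exact Or.inl hx
      · exact Subgroup.mem_sup_right hx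
      · exact Or.inr hx
    refine Subgroup.commutator_eq_bot_iff_le_centralizer.2 fun g hg =>
      Subgroup.mem_centralizer_iff.2 fun x hx => ?_
    exact (Subgroup.mem_centralizer_iff.1 (hcen hx) g (hle hg)).symm
  · -- the unipotent core of `L`
    rw [hEF]
    have hfix : fixedSubmodule L = LinearMap.ker w := by
      refine le_antisymm ?_ (le_iInf₂ fun g hg => ?_)
      · refine (iInf₂_le (onePlus w hw.sq) hwL).trans ?_
        show LinearMap.ker (((onePlus w hw.sq : LinearMap.GeneralLinearGroup k M) : Module.End k M) - 1) ≤ _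
        rw [coe_onePlus, add_sub_cancel_left]
      · exact ((mem_vsp_iff hw.sq).1 ((hLm g).1 hg)).2.2
    have hcom : commutatorSubmodule L = LinearMap.range w := by
      refine le_antisymm (iSup₂_le fun g hg => ((mem_vsp_iff hw.sq).1 ((hLm g).1 hg)).2.1) ?_
      refine le_trans ?_ (le_iSup₂ (f := fun (g : LinearMap.GeneralLinearGroup k M) (_ : g ∈ L) =>
        LinearMap.range ((g : M →ₗ[k] M) - 1)) (onePlus w hw.sq) hwL)
      show _ ≤ LinearMap.range
        (((onePlus w hw.sq : LinearMap.GeneralLinearGroup k M) : Module.End k M) - 1)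
      rw [coe_onePlus, add_sub_cancel_left]
    let U : Subgroup (LinearMap.GeneralLinearGroup k M) :=
      { carrier := {g | g ∈ G ∧ g ∈ Subgroup.normalizer (L : Set (LinearMap.GeneralLinearGroup k M)) ∧
          (∀ m, (g : Module.End k M) m - m ∈ LinearMap.ker w) ∧
          (∀ m ∈ LinearMap.ker w, (g : Module.End k M) m - m ∈ LinearMap.range w) ∧
          ∀ m ∈ LinearMap.range w, (g : Module.End k M) m = m}
        one_mem' := ⟨G.one_mem, Subgroup.one_mem _, fun m => by simp, fun m _ => by simp,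
          fun m _ => rfl⟩
        mul_mem' := by
          rintro g h ⟨g1, g2, g3, g4, g5⟩ ⟨h1, h2, h3, h4, h5⟩
          refine ⟨G.mul_mem g1 h1, Subgroup.mul_mem _ g2 h2, fun m => ?_, fun m hm => ?_,
            fun m hm => ?_⟩
          · have := add_mem (g3 ((h : Module.End k M) m)) (h3 m)
            rwa [sub_add_sub_cancel, ← Module.End.mul_apply, ← Units.val_mul] at this
          · have hm' : (h : Module.End k M) m ∈ LinearMap.ker w := by
              have := add_mem (h3 m) hm
              rwa [sub_add_cancel] at this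
            have := add_mem (g4 _ hm') (h4 m hm)
            rwa [sub_add_sub_cancel, ← Module.End.mul_apply, ← Units.val_mul] at this
          · rw [Units.val_mul, Module.End.mul_apply, h5 m hm, g5 m hm]
        inv_mem' := by
          rintro g ⟨g1, g2, g3, g4, g5⟩
          have hgi : ∀ m, (g : Module.End k M)
              (((g⁻¹ : LinearMap.GeneralLinearGroup k M) : Module.End k M) m) = m := fun m => by
            rw [← Module.End.mul_apply, Units.mul_inv]; rfl
          have hneg : ∀ m, ((g⁻¹ : LinearMap.GeneralLinearGroup k M) : Module.End k M) m - m =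
              -((g : Module.End k M) (((g⁻¹ : LinearMap.GeneralLinearGroup k M) : Module.End k M) m) -
                ((g⁻¹ : LinearMap.GeneralLinearGroup k M) : Module.End k M) m) := fun m => by
            rw [hgi, neg_sub]
          refine ⟨G.inv_mem g1, Subgroup.inv_mem _ g2, fun m => ?_, fun m hm => ?_,
            fun m hm => ?_⟩
          · rw [hneg]; exact neg_mem (g3 _)
          · rw [hneg]
            refine neg_mem (g4 _ ?_)
            have h1 : ((g⁻¹ : LinearMap.GeneralLinearGroup k M) : Module.End k M) m - m ∈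
                LinearMap.ker w := by rw [hneg]; exact neg_mem (g3 _)
            have := add_mem h1 hm
            rwa [sub_add_cancel] at this
          · conv_lhs => rw [← g5 m hm]
            rw [← Module.End.mul_apply, Units.inv_mul]
            rfl }
    have hle : E ⊔ F ≤ U := by
      refine sup_le ?_ ?_ <;> intro g hg
      · have hx := (hE g).1 hg
        obtain ⟨h1, h3⟩ := actE _ hx
        refine ⟨mem_G_of_vsp hx, Subgroup.centralizer_le_normalizer _
          (Subgroup.mem_centralizer_iff.2 fun l hl => (commute_iff_sub_one l g).2 ?_),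
          fun m => ?_, fun m hm => ?_, fun m hm => ?_⟩
        · rw [(h1 _ ((hLm l).1 hl)).1, (h1 _ ((hLm l).1 hl)).2]
        · exact LinearMap.mem_ker.2 (DFunLike.congr_fun (h1 w hw.self_mem_vsp).1 m)
        · exact h3 m hm
        · obtain ⟨n, rfl⟩ := hm
          exact sub_eq_zero.1 (DFunLike.congr_fun (h1 w hw.self_mem_vsp).2 n)
      · have hx := (hF g).1 hg
        obtain ⟨h1, h3⟩ := actF _ hx
        refine ⟨mem_G_of_vsp hx, Subgroup.centralizer_le_normalizer _
          (Subgroup.mem_centralizer_iff.2 fun l hl => (commute_iff_sub_one l g).2 ?_),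
          fun m => ?_, fun m hm => ?_, fun m hm => ?_⟩
        · rw [(h1 _ ((hLm l).1 hl)).1, (h1 _ ((hLm l).1 hl)).2]
        · exact LinearMap.mem_ker.2 (DFunLike.congr_fun (h1 w hw.self_mem_vsp).1 m)
        · exact h3 m hm
        · obtain ⟨n, rfl⟩ := hm
          exact sub_eq_zero.1 (DFunLike.congr_fun (h1 w hw.self_mem_vsp).2 n)
    intro g hg
    obtain ⟨g1, g2, g3, g4, g5⟩ := hle hg
    refine ⟨g1, g2, ?_, ?_, ?_⟩
    · rw [hfix]; exact g3
    · rw [hfix, hcom]; exact g4
    · rw [hcom]; exact g5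
  · -- unipotence
    have hun : ∀ {A : Subgroup (LinearMap.GeneralLinearGroup k M)} {c : Module.End k M},
        (∀ g : LinearMap.GeneralLinearGroup k M, g ∈ A ↔ (g : Module.End k M) - 1 ∈ vsp G c) →
        IsUnipotentOn A := by
      intro A c hA
      refine RootSubgroups.UnipotentJoin.isUnipotentOn_of_le (V := vsp G c) ?_ (n := 2) ?_
      · rw [RootSubgroups.UnipotentJoin.disp, Submodule.span_le]
        rintro _ ⟨g, hg, rfl⟩
        exact (hA g).1 hg
      · rw [pow_two]
        exact eq_bot_iff.2 (Submodule.mul_le.2 fun x hx y hy =>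
          (Submodule.mem_bot k).2 (mul_eq_zero_of_mem_vsp hx hy))
    have hEn : L ≤ Subgroup.normalizer (E : Set (LinearMap.GeneralLinearGroup k M)) := by
      intro l hl
      refine Subgroup.centralizer_le_normalizer _ (Subgroup.mem_centralizer_iff.2 fun e he => ?_)
      obtain ⟨h1, h3⟩ := (actE _ ((hE e).1 he)).1 _ ((hLm l).1 hl)
      exact ((commute_iff_sub_one l e).2 (by rw [h1, h3])).symm
    have hFn : F ≤ Subgroup.normalizer ((E ⊔ L : Subgroup (LinearMap.GeneralLinearGroup k M)) :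
        Set (LinearMap.GeneralLinearGroup k M)) := by
      have hone : ∀ f ∈ F, ∀ x ∈ E ⊔ L, f * x * f⁻¹ ∈ E ⊔ L := by
        intro f hf
        have hmap : E ⊔ L ≤ (E ⊔ L).comap (MulAut.conj f).toMonoidHom := by
          refine sup_le (fun e he => ?_) fun l hl => ?_
          · show f * e * f⁻¹ ∈ E ⊔ L
            rw [show f * e * f⁻¹ = (e * f * e⁻¹ * f⁻¹)⁻¹ * e by group]
            exact mul_mem (inv_mem (Subgroup.mem_sup_right (hcL e he f hf)))
              (Subgroup.mem_sup_left he)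
          · show f * l * f⁻¹ ∈ E ⊔ L
            obtain ⟨h1, h3⟩ := (actF _ ((hF f).1 hf)).1 _ ((hLm l).1 hl)
            rw [← (commute_iff_sub_one l f).2 (by rw [h1, h3]), mul_inv_cancel_right]
            exact Subgroup.mem_sup_right hl
        exact fun x hx => hmap hx
      intro f hf
      refine Subgroup.mem_normalizer_iff.2 fun x => ⟨hone f hf x, fun hx => ?_⟩
      have := hone f⁻¹ (F.inv_mem hf) _ hx
      simpa [mul_assoc] using this
    exact RootSubgroups.UnipotentJoin.isUnipotentOn_mono (sup_le_sup_right le_sup_left F)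
      (RootSubgroups.UnipotentJoin.isUnipotentOn_sup
        (RootSubgroups.UnipotentJoin.isUnipotentOn_sup (hun hE) (hun hLm) hEn) (hun hF) hFn)

end Cfsg.Agent.QuadPair
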