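import Cfsg.Agent.Lib.QuadPair.Opposite

/-!
Two non-commuting, non-opposite root spaces: their brackets fill a root space `vsp G w`.
-/

set_option autoImplicit false
set_option linter.unusedSectionVars false

universe u v

namespace Cfsg.Agent.QuadPair

open Cfsg

variable {k : Type u} [Field k] {M : Type v} [AddCommGroup M] [Module k M]
variable {G : Subgroup (LinearMap.GeneralLinearGroup k M)}

/-- `y P + {v ∈ P | y v ∈ P}`. -/
def flat (y : Module.End k M) (P : Submodule k M) : Submodule k M := P.map y ⊔ (P ⊓ P.comap y)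

section finite

variable [FiniteDimensional k M]

/-- `flat y P` has the dimension of `P`. -/
theorem finrank_flat {y : Module.End k M} (hy : y * y = 0) (P : Submodule k M) :
    Module.finrank k (flat y P) = Module.finrank k P := by
  have hker : ∀ v ∈ P.map y, y v = 0 := by
    rintro _ ⟨u, -, rfl⟩
    exact DFunLike.congr_fun hy u
  have rn : ∀ Q : Submodule k M, Module.finrank k (Q.map y) +
      Module.finrank k ↥(Q ⊓ LinearMap.ker y) = Module.finrank k Q := by
    intro Q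
    have h := LinearMap.finrank_range_add_finrank_ker (y.domRestrict Q)
    rw [LinearMap.range_domRestrict, LinearMap.ker_domRestrict] at h
    have e : Module.finrank k ↥((LinearMap.ker y).comap Q.subtype) =
        Module.finrank k ↥(Q ⊓ LinearMap.ker y) := by
      rw [← Submodule.map_comap_subtype]
      exact (Submodule.equivMapOfInjective _ Q.injective_subtype _).finrank_eq
    omega
  have e1 : (P ⊓ P.comap y).map y = P.map y ⊓ P := by
    ext v
    constructor
    · rintro ⟨u, ⟨hu, hu'⟩, rfl⟩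
      exact ⟨⟨u, hu, rfl⟩, hu'⟩
    · rintro ⟨⟨u, hu, rfl⟩, hu'⟩
      exact ⟨u, ⟨hu, hu'⟩, rfl⟩
  have e2 : P ⊓ P.comap y ⊓ LinearMap.ker y = P ⊓ LinearMap.ker y := by
    ext v
    simp only [Submodule.mem_inf, Submodule.mem_comap, LinearMap.mem_ker]
    exact ⟨fun h => ⟨h.1.1, h.2⟩, fun h => ⟨⟨h.1, h.2 ▸ P.zero_mem⟩, h.2⟩⟩
  have e3 : P.map y ⊓ (P ⊓ P.comap y) = P.map y ⊓ P := by
    ext v
    simp only [Submodule.mem_inf, Submodule.mem_comap]
    exact ⟨fun h => ⟨h.1, h.2.1⟩, fun h => ⟨h.1, h.2, by rw [hker v h.1]; exact P.zero_mem⟩⟩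
  have h1 := rn P
  have h2 := rn (P ⊓ P.comap y)
  rw [e1, e2] at h2
  have h3 := Submodule.finrank_sup_add_finrank_inf_eq (P.map y) (P ⊓ P.comap y)
  rw [e3] at h3
  rw [flat]
  omega

/-- The bracket of a non-commuting, non-opposite pair is minimal, with determined spaces. -/
theorem bracket_min (h2 : (2 : k) ≠ 0) {a b : Module.End k M} (ha : IsMin G a) (hb : IsMin G b)
    (h : a * b * a = 0) (hne : a * b ≠ b * a) :
    IsMin G (a * b - b * a) ∧
      LinearMap.range (a * b - b * a) = flat b (LinearMap.range a) ∧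
      LinearMap.ker (a * b - b * a) = flat b (LinearMap.ker a) := by
  have hbab := bab_of_aba h2 ha hb h
  obtain ⟨hsq, hf, e1, e2, e3, e4⟩ := bracket_facts ha.sq hb.sq ha.fam hb.fam h hbab
  have hw0 : a * b - b * a ≠ 0 := sub_ne_zero.2 hne
  have hr : LinearMap.range (a * b - b * a) ≤ flat b (LinearMap.range a) := by
    rintro _ ⟨m, rfl⟩
    refine sub_mem (Submodule.mem_sup_right ⟨⟨b m, rfl⟩, ?_⟩)
      (Submodule.mem_sup_left ⟨a m, ⟨m, rfl⟩, rfl⟩)
    have h5 : b (a (b m)) = 0 := DFunLike.congr_fun hbab m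
    show b (a (b m)) ∈ LinearMap.range a
    rw [h5]
    exact Submodule.zero_mem _
  have hk : flat b (LinearMap.ker a) ≤ LinearMap.ker (a * b - b * a) := by
    refine sup_le ?_ ?_
    · rintro _ ⟨u, hu, rfl⟩
      have h5 : b (a (b u)) = 0 := DFunLike.congr_fun hbab u
      have h6 : b (b u) = 0 := DFunLike.congr_fun hb.sq u
      show a (b (b u)) - b (a (b u)) = 0
      rw [h5, h6, map_zero, sub_zero]
    · rintro v ⟨hv, hv'⟩
      show a (b v) - b (a v) = 0
      rw [LinearMap.mem_ker.1 hv, LinearMap.mem_ker.1 (Submodule.mem_comap.1 hv'), map_zero,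
        sub_zero]
  have hd : Module.finrank k (LinearMap.range (a * b - b * a)) ≤
      Module.finrank k (LinearMap.range a) := by
    have := Submodule.finrank_mono hr
    rwa [finrank_flat hb.sq] at this
  have hmin := ha.of_rank_le hsq hw0 hf hd
  have heq := ha.finrank_eq hmin
  refine ⟨hmin, Submodule.eq_of_le_of_finrank_le hr ?_,
    (Submodule.eq_of_le_of_finrank_le hk ?_).symm⟩
  · rw [finrank_flat hb.sq, heq]
  · rw [finrank_flat hb.sq]
    have h5 := LinearMap.finrank_range_add_finrank_ker (a * b - b * a)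
    have h6 := LinearMap.finrank_range_add_finrank_ker a
    omega

/-- Brackets fill the root space, for the first variable fixed. -/
theorem bracket_surj (hgen : GenProp k) (hk2 : ringChar k ≠ 2) (hk3 : Nat.card k ≠ 3)
    (hirr : IsIrreducibleFor G) {a b : Module.End k M} (ha : IsMin G a) (hb : IsMin G b)
    (h : a * b * a = 0) (hne : a * b ≠ b * a) :
    (∀ x ∈ vsp G a, ∀ y ∈ vsp G b, x * y - y * x ∈ vsp G (a * b - b * a)) ∧
      (∀ y ∈ vsp G b, y ≠ 0 → ∀ u ∈ vsp G (a * b - b * a), ∃ x ∈ vsp G a, x * y - y * x = u) := by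
  have h2 := two_ne_zero_of_ringChar hk2
  obtain ⟨hw, -, -⟩ := bracket_min h2 ha hb h hne
  set w := a * b - b * a with hwdef
  have hnc : ∀ {x y}, x ∈ vsp G a → x ≠ 0 → y ∈ vsp G b → y ≠ 0 → x * y ≠ y * x :=
    fun hx hx0 hy hy0 hc =>
      hne (commute_all h2 ha hb hx hx0 hy hy0 hc ha.self_mem_vsp hb.self_mem_vsp)
  -- changing the first or the second variable keeps the spaces
  have left : ∀ {x y}, x ∈ vsp G a → x ≠ 0 → y ∈ vsp G b → y ≠ 0 →
      vsp G (x * y - y * x) = vsp G (a * y - y * a) := by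
    intro x y hx hx0 hy hy0
    obtain ⟨hxm, hxr, hxk⟩ := ha.of_mem_vsp hx hx0
    obtain ⟨hym, -, -⟩ := hb.of_mem_vsp hy hy0
    obtain ⟨-, r1, k1⟩ := bracket_min h2 hxm hym (aba_zero_of_vsp h2 ha hb h hx hy)
      (hnc hx hx0 hy hy0)
    obtain ⟨-, r2, k2⟩ := bracket_min h2 ha hym (aba_zero_of_vsp h2 ha hb h ha.self_mem_vsp hy)
      (hnc ha.self_mem_vsp ha.ne hy hy0)
    exact vsp_congr (by rw [r1, r2, hxr]) (by rw [k1, k2, hxk])
  have right : ∀ {x y}, x ∈ vsp G a → x ≠ 0 → y ∈ vsp G b → y ≠ 0 →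
      vsp G (x * y - y * x) = vsp G (x * b - b * x) := by
    intro x y hx hx0 hy hy0
    obtain ⟨hxm, -, -⟩ := ha.of_mem_vsp hx hx0
    obtain ⟨hym, hyr, hyk⟩ := hb.of_mem_vsp hy hy0
    obtain ⟨-, r1, k1⟩ := bracket_min h2 hym hxm
      (bab_of_aba h2 hxm hym (aba_zero_of_vsp h2 ha hb h hx hy)) (hnc hx hx0 hy hy0).symm
    obtain ⟨-, r2, k2⟩ := bracket_min h2 hb hxm
      (bab_of_aba h2 hxm hb (aba_zero_of_vsp h2 ha hb h hx hb.self_mem_vsp))
      (hnc hx hx0 hb.self_mem_vsp hb.ne).symm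
    rw [← vsp_neg (x * y - y * x), ← vsp_neg (x * b - b * x), neg_sub, neg_sub]
    exact vsp_congr (by rw [r1, r2, hyr]) (by rw [k1, k2, hyk])
  have hall : ∀ {x y}, x ∈ vsp G a → x ≠ 0 → y ∈ vsp G b → y ≠ 0 →
      vsp G (x * y - y * x) = vsp G w := fun hx hx0 hy hy0 =>
    (left hx hx0 hy hy0).trans (right ha.self_mem_vsp ha.ne hy hy0)
  have hmem : ∀ x ∈ vsp G a, ∀ y ∈ vsp G b, x * y - y * x ∈ vsp G w := by
    intro x hx y hy
    by_cases hx0 : x = 0
    · rw [hx0, zero_mul, mul_zero, sub_zero]; exact Submodule.zero_mem _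
    by_cases hy0 : y = 0
    · rw [hy0, zero_mul, mul_zero, sub_zero]; exact Submodule.zero_mem _
    rw [← hall hx hx0 hy hy0]
    exact (bracket_min h2 (ha.of_mem_vsp hx hx0).1 (hb.of_mem_vsp hy hy0).1
      (aba_zero_of_vsp h2 ha hb h hx hy) (hnc hx hx0 hy hy0)).1.self_mem_vsp
  refine ⟨hmem, fun y hy hy0 u hu => ?_⟩
  -- the two root spaces have the same dimension
  obtain ⟨g, hg, hopp⟩ := exists_opp_of_mem_span h2 hirr (a := a) hw
    (bracket_mem_span h2 hb.sq hb.fam)
  have hdim : Module.finrank k (vsp G a) = Module.finrank k (vsp G w) :=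
    ((finrank_vsp_eq hgen hk2 hk3 hw (ha.cj hg) hopp).trans (finrank_vsp_cj hg ha.sq)).symm
  let f : vsp G a →ₗ[k] vsp G w :=
    { toFun := fun x => ⟨x.1 * y - y * x.1, hmem _ x.2 _ hy⟩
      map_add' := fun x z => Subtype.ext (by
        show ((x + z : vsp G a) : Module.End k M) * y - y * ((x + z : vsp G a) : Module.End k M) = _
        simp only [Submodule.coe_add, add_mul, mul_add]
        abel)
      map_smul' := fun c x => Subtype.ext (by
        show ((c • x : vsp G a) : Module.End k M) * y - y * ((c • x : vsp G a) : Module.End k M) = _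
        simp only [Submodule.coe_smul, smul_mul_assoc, mul_smul_comm, ← smul_sub, RingHom.id_apply]) }
  have hinj : Function.Injective f := by
    rw [injective_iff_map_eq_zero]
    intro x hx
    by_contra hx0
    exact hnc x.2 (fun h0 => hx0 (Subtype.ext h0)) hy hy0 (sub_eq_zero.1 (congrArg Subtype.val hx))
  obtain ⟨x, hx⟩ := (LinearMap.injective_iff_surjective_of_finrank_eq_finrank hdim).1 hinj ⟨u, hu⟩
  exact ⟨x.1, x.2, congrArg Subtype.val hx⟩

/-- Everything about a non-commuting, non-opposite pair. -/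
theorem bracket_main (hgen : GenProp k) (hk2 : ringChar k ≠ 2) (hk3 : Nat.card k ≠ 3)
    (hirr : IsIrreducibleFor G) {a b : Module.End k M} (ha : IsMin G a) (hb : IsMin G b)
    (h : a * b * a = 0) (hne : a * b ≠ b * a) :
    IsMin G (a * b - b * a) ∧
      (∀ x ∈ vsp G a, ∀ y ∈ vsp G b, x * y - y * x ∈ vsp G (a * b - b * a)) ∧
      (∀ y ∈ vsp G b, y ≠ 0 → ∀ u ∈ vsp G (a * b - b * a), ∃ x ∈ vsp G a, x * y - y * x = u) ∧
      (∀ x ∈ vsp G a, x ≠ 0 → ∀ u ∈ vsp G (a * b - b * a), ∃ y ∈ vsp G b, x * y - y * x = u) := by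
  have h2 := two_ne_zero_of_ringChar hk2
  obtain ⟨h1, h3⟩ := bracket_surj hgen hk2 hk3 hirr ha hb h hne
  obtain ⟨-, h4⟩ := bracket_surj hgen hk2 hk3 hirr hb ha (bab_of_aba h2 ha hb h) hne.symm
  refine ⟨(bracket_min h2 ha hb h hne).1, h1, h3, fun x hx hx0 u hu => ?_⟩
  obtain ⟨y, hy, e⟩ := h4 x hx hx0 (-u) (by
    rw [← vsp_neg (b * a - a * b), neg_sub]; exact neg_mem hu)
  exact ⟨y, hy, by rw [← neg_sub, e, neg_neg]⟩

/-- How `x` in the first space acts on the flag of the bracket space. -/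
theorem bracket_action (h2 : (2 : k) ≠ 0) {a b : Module.End k M} (ha : IsMin G a) (hb : IsMin G b)
    (h : a * b * a = 0) (hne : a * b ≠ b * a) {x : Module.End k M} (hx : x ∈ vsp G a) :
    (∀ u ∈ vsp G (a * b - b * a), u * x = 0 ∧ x * u = 0) ∧
      ∀ m ∈ LinearMap.ker (a * b - b * a), x m ∈ LinearMap.range (a * b - b * a) := by
  obtain ⟨hw, hwr, hwk⟩ := bracket_min h2 ha hb h hne
  have hbab := bab_of_aba h2 ha hb h
  obtain ⟨-, -, e1, e2, -, -⟩ := bracket_facts ha.sq hb.sq ha.fam hb.fam h hbab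
  obtain ⟨-, hxr, hxk⟩ := (mem_vsp_iff ha.sq).1 hx
  refine ⟨fun u hu => ?_, fun m hm => ?_⟩
  · obtain ⟨-, hur, huk⟩ := (mem_vsp_iff hw.sq).1 hu
    constructor
    · refine LinearMap.ext fun m => ?_
      obtain ⟨n, hn⟩ := hxr (LinearMap.mem_range_self x m)
      show u (x m) = 0
      rw [← hn]
      exact LinearMap.mem_ker.1 (huk (LinearMap.mem_ker.2 (DFunLike.congr_fun e2 n)))
    · refine LinearMap.ext fun m => ?_
      obtain ⟨n, hn⟩ := hur (LinearMap.mem_range_self u m)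
      show x (u m) = 0
      rw [← hn]
      exact LinearMap.mem_ker.1 (hxk (LinearMap.mem_ker.2 (DFunLike.congr_fun e1 n)))
  · by_cases hx0 : x = 0
    · rw [hx0, LinearMap.zero_apply]; exact Submodule.zero_mem _
    obtain ⟨hxm, hxr', hxk'⟩ := ha.of_mem_vsp hx hx0
    have hc : x * b ≠ b * x := fun hc =>
      hne (commute_all h2 ha hb hx hx0 hb.self_mem_vsp hb.ne hc ha.self_mem_vsp hb.self_mem_vsp)
    obtain ⟨-, r1, -⟩ := bracket_min h2 hxm hb
      (aba_zero_of_vsp h2 ha hb h hx hb.self_mem_vsp) hc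
    rw [hwk] at hm
    obtain ⟨_, ⟨u, hu, rfl⟩, v, ⟨hv, -⟩, rfl⟩ := Submodule.mem_sup.1 hm
    have e : x (b u + v) = (x * b - b * x) u := by
      show x (b u + v) = x (b u) - b (x u)
      rw [map_add, LinearMap.mem_ker.1 (hxk hv), add_zero, LinearMap.mem_ker.1 (hxk hu), map_zero,
        sub_zero]
    rw [e, hwr, ← hxr', ← r1]
    exact LinearMap.mem_range_self _ u

end finite

end Cfsg.Agent.QuadPair
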