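import Cfsg.Agent.Lib.QuadPair.Nilpotent

/-!
One commuting pair of non-identity elements makes two members of `Σ` commute.
-/

set_option autoImplicit false
set_option linter.unusedSectionVars false

namespace Cfsg.Agent.QuadPair

open Cfsg

variable {k : Type*} [Field k] {M : Type*} [AddCommGroup M] [Module k M]
variable {G : Subgroup (LinearMap.GeneralLinearGroup k M)}

/-- `a b a = b a b = 0`: the two scalar families generate a group of class at most two. -/
theorem bracket_facts {a b : Module.End k M} (ha : a * a = 0) (hb : b * b = 0)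
    (haf : Fam G a) (hbf : Fam G b) (h1 : a * b * a = 0) (h2 : b * a * b = 0) :
    (a * b - b * a) * (a * b - b * a) = 0 ∧ Fam G (a * b - b * a) ∧
      a * (a * b - b * a) = 0 ∧ (a * b - b * a) * a = 0 ∧
      b * (a * b - b * a) = 0 ∧ (a * b - b * a) * b = 0 := by
  have e1 : a * (a * b - b * a) = 0 := by
    rw [mul_sub, ← mul_assoc, ha, zero_mul, zero_sub, ← mul_assoc, h1, neg_zero]
  have e2 : (a * b - b * a) * a = 0 := by
    rw [sub_mul, h1, mul_assoc b a a, ha, mul_zero, sub_zero]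
  have e3 : b * (a * b - b * a) = 0 := by
    rw [mul_sub, ← mul_assoc, h2, zero_sub, ← mul_assoc, hb, zero_mul, neg_zero]
  have e4 : (a * b - b * a) * b = 0 := by
    rw [sub_mul, mul_assoc a b b, hb, mul_zero, zero_sub, h2, neg_zero]
  refine ⟨?_, fun c => ?_, e1, e2, e3, e4⟩
  · rw [mul_sub, ← mul_assoc, e2, zero_mul, zero_sub, ← mul_assoc, e4, zero_mul, neg_zero]
  · have hc := smul_sq ha c
    refine ⟨onePlus _ hc * onePlus b hb * (onePlus _ hc)⁻¹ * (onePlus b hb)⁻¹,
      G.mul_mem (G.mul_mem (G.mul_mem ((haf c).onePlus_mem hc) (hbf.mem.onePlus_mem hb))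
        (G.inv_mem ((haf c).onePlus_mem hc))) (G.inv_mem (hbf.mem.onePlus_mem hb)), ?_⟩
    rw [← sub_eq_iff_eq_add', commutator_sub_one, coe_onePlus, coe_onePlus, add_sub_cancel_left,
      add_sub_cancel_left, Units.val_mul, coe_onePlus_inv, coe_onePlus_inv, smul_mul_assoc,
      mul_smul_comm, ← smul_sub, smul_mul_assoc]
    congr 1
    have e5 : (a * b - b * a) * (1 - c • a) = a * b - b * a := by
      rw [mul_sub (a * b - b * a), mul_one, mul_smul_comm, e2, smul_zero, sub_zero]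
    have e6 : (a * b - b * a) * (1 - b) = a * b - b * a := by
      rw [mul_sub (a * b - b * a), mul_one, e4, sub_zero]
    first
      | rw [← mul_assoc, e5, e6]
      | rw [e5, e6]

theorem isNilpotent_of_bab {a b : Module.End k M} (ha : a * a = 0) (hb : b * b = 0)
    (h : b * a * b = 0) : IsNilpotent (a * b + b * a) := by
  refine ⟨2, ?_⟩
  rw [pow_two]
  calc (a * b + b * a) * (a * b + b * a)
      = a * (b * a * b) + a * (b * b) * a + (b * (a * a) * b + (b * a * b) * a) := by noncomm_ring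
    _ = 0 := by simp [ha, hb, h]

variable [FiniteDimensional k M]

/-- Commuting with one member of the space of `b` means commuting with all. -/
theorem commute_vsp_of_commute (h2 : (2 : k) ≠ 0) {a b : Module.End k M} (ha : IsMin G a)
    (hb : IsMin G b) (hab : a * b = b * a) {x : Module.End k M} (hx : x ∈ vsp G b) :
    a * x = x * a := by
  by_cases hx0 : x = 0
  · rw [hx0, mul_zero, zero_mul]
  obtain ⟨hxm, hxr, hxk⟩ := hb.of_mem_vsp hx hx0
  have haB : ∀ y ∈ LinearMap.range b, a y ∈ LinearMap.range b := by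
    rintro _ ⟨m, rfl⟩
    exact ⟨a m, (DFunLike.congr_fun hab m).symm⟩
  have hxax : x * a * x = 0 := LinearMap.ext fun m => by
    have h1 := haB _ (hxr ▸ LinearMap.mem_range_self x m)
    have h3 : a (x m) ∈ LinearMap.ker x := by
      rw [hxk]; exact range_le_ker hb.sq h1
    exact LinearMap.mem_ker.1 h3
  have haxa := (mul_self_eq_zero_of_nilpotent h2 ha hxm
    (isNilpotent_of_bab ha.sq hxm.sq hxax)).1
  obtain ⟨hw2, hwf, e1, e2, -, -⟩ := bracket_facts ha.sq hxm.sq ha.fam hxm.fam haxa hxax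
  by_contra hne
  have hw0 : a * x - x * a ≠ 0 := sub_ne_zero.2 hne
  have hwr : LinearMap.range (a * x - x * a) ≤ LinearMap.range b := by
    rintro _ ⟨m, rfl⟩
    exact sub_mem (haB _ (hxr ▸ LinearMap.mem_range_self x m))
      (hxr ▸ LinearMap.mem_range_self x (a m))
  have hwk : LinearMap.ker b ≤ LinearMap.ker (a * x - x * a) := by
    intro m hm
    have h1 : a m ∈ LinearMap.ker b := by
      have h2 : b (a m) = a (b m) := (DFunLike.congr_fun hab m).symm
      rw [LinearMap.mem_ker, h2, LinearMap.mem_ker.1 hm, map_zero]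
    rw [← hxk] at hm h1
    show a (x m) - x (a m) = 0
    rw [LinearMap.mem_ker.1 hm, LinearMap.mem_ker.1 h1, map_zero, sub_zero]
  obtain ⟨-, hr, hk⟩ := hb.of_mem_vsp ((mem_vsp_iff hb.sq).2 ⟨hwf, hwr, hwk⟩) hw0
  refine hw0 (sub_eq_zero.2 (Eq.trans (b := (0 : Module.End k M)) ?_ ?_))
  · refine LinearMap.ext fun m => ?_
    obtain ⟨n, hn⟩ := hr.ge (hxr ▸ LinearMap.mem_range_self x m)
    show a (x m) = 0
    rw [← hn, ← Module.End.mul_apply, e1]
    rfl
  · refine (LinearMap.ext fun m => ?_).symm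
    have h1 : a m ∈ LinearMap.ker (a * x - x * a) :=
      LinearMap.mem_ker.2 (DFunLike.congr_fun e2 m)
    rw [hk, ← hxk] at h1
    exact LinearMap.mem_ker.1 h1

/-- One commuting pair makes all pairs commute. -/
theorem commute_all (h2 : (2 : k) ≠ 0) {a b : Module.End k M} (ha : IsMin G a) (hb : IsMin G b)
    {a₀ b₀ : Module.End k M} (ha₀ : a₀ ∈ vsp G a) (ha₀0 : a₀ ≠ 0) (hb₀ : b₀ ∈ vsp G b)
    (hb₀0 : b₀ ≠ 0) (hc : a₀ * b₀ = b₀ * a₀) {x y : Module.End k M} (hx : x ∈ vsp G a)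
    (hy : y ∈ vsp G b) : x * y = y * x := by
  by_cases hy0 : y = 0
  · rw [hy0, mul_zero, zero_mul]
  have hma := (ha.of_mem_vsp ha₀ ha₀0).1
  have hmb := (hb.of_mem_vsp hb₀ hb₀0).1
  have h1 := commute_vsp_of_commute h2 hma hmb hc ((hb.vsp_eq hb₀ hb₀0).symm ▸ hy)
  exact (commute_vsp_of_commute h2 (hb.of_mem_vsp hy hy0).1 hma h1.symm
    ((ha.vsp_eq ha₀ ha₀0).symm ▸ hx)).symm

theorem two_ne_zero_of_ringChar (h : ringChar k ≠ 2) : (2 : k) ≠ 0 := Ring.two_ne_zero h

theorem exists_of_mem_quadraticRootSubgroups {E : Subgroup (LinearMap.GeneralLinearGroup k M)}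
    (hE : E ∈ quadraticRootSubgroups G) : ∃ a, IsMin G a ∧
      ∀ g, g ∈ E ↔ (g : Module.End k M) - 1 ∈ vsp G a := by
  obtain ⟨σ, hσ, rfl⟩ := hE
  exact ⟨_, mem_minimal_iff.1 hσ, fun g => mem_sameActionSubgroup_iff (mem_minimal_iff.1 hσ)⟩

theorem commute_iff_sub_one (e f : LinearMap.GeneralLinearGroup k M) :
    e * f = f * e ↔ ((e : Module.End k M) - 1) * ((f : Module.End k M) - 1) =
      ((f : Module.End k M) - 1) * ((e : Module.End k M) - 1) := by
  have e1 : ((e : Module.End k M) - 1) * ((f : Module.End k M) - 1) -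
      ((f : Module.End k M) - 1) * ((e : Module.End k M) - 1) =
      ((e * f : LinearMap.GeneralLinearGroup k M) : Module.End k M) -
        ((f * e : LinearMap.GeneralLinearGroup k M) : Module.End k M) := by
    rw [Units.val_mul, Units.val_mul]
    noncomm_ring
  rw [← sub_eq_zero (b := ((f : Module.End k M) - 1) * ((e : Module.End k M) - 1)), e1,
    sub_eq_zero, ← Units.ext_iff]

theorem sub_one_ne_zero {e : LinearMap.GeneralLinearGroup k M} (h : e ≠ 1) :
    (e : Module.End k M) - 1 ≠ 0 := fun h0 => h (Units.ext (sub_eq_zero.1 h0))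

/-- One commuting or normalizing element makes two members of `Σ` commute. -/
theorem commutator_eq_bot (hk2 : ringChar k ≠ 2)
    {E F : Subgroup (LinearMap.GeneralLinearGroup k M)} (hE : E ∈ quadraticRootSubgroups G)
    (hF : F ∈ quadraticRootSubgroups G)
    (h : (∃ e ∈ E, e ≠ 1 ∧ ∃ f ∈ F, f ≠ 1 ∧ e * f = f * e) ∨
      E ⊓ Subgroup.normalizer (F : Set (LinearMap.GeneralLinearGroup k M)) ≠ ⊥) :
    ⁅E, F⁆ = ⊥ := by
  have h2 := two_ne_zero_of_ringChar hk2
  obtain ⟨a, ha, hEm⟩ := exists_of_mem_quadraticRootSubgroups hE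
  obtain ⟨b, hb, hFm⟩ := exists_of_mem_quadraticRootSubgroups hF
  suffices hpair : ∃ x ∈ vsp G a, x ≠ 0 ∧ ∃ y ∈ vsp G b, y ≠ 0 ∧ x * y = y * x by
    obtain ⟨x, hx, hx0, y, hy, hy0, hxy⟩ := hpair
    rw [Subgroup.commutator_eq_bot_iff_le_centralizer]
    intro e he
    refine Subgroup.mem_centralizer_iff.2 fun f hf => ((commute_iff_sub_one e f).2 ?_).symm
    exact commute_all h2 ha hb hx hx0 hy hy0 hxy ((hEm e).1 he) ((hFm f).1 hf)
  rcases h with ⟨e, he, he1, f, hf, hf1, hc⟩ | h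
  · exact ⟨_, (hEm e).1 he, sub_one_ne_zero he1, _, (hFm f).1 hf, sub_one_ne_zero hf1,
      (commute_iff_sub_one e f).1 hc⟩
  obtain ⟨e, he1⟩ := (Subgroup.ne_bot_iff_exists_ne_one.1 h)
  have hx := (hEm e).1 e.2.1
  have hx0 := sub_one_ne_zero (fun h => he1 (Subtype.ext h))
  set x := (e.1 : Module.End k M) - 1 with hxdef
  obtain ⟨hxm, -, -⟩ := ha.of_mem_vsp hx hx0
  refine ⟨x, hx, hx0, ?_⟩
  -- conjugates of `1 + b`
  have key : ∀ s : Module.End k M, ∀ g : LinearMap.GeneralLinearGroup k M, s * s = 0 →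
      (g : Module.End k M) = 1 + s → g ∈ Subgroup.normalizer (F : Set (LinearMap.GeneralLinearGroup k M)) →
      b + (s * b - b * s) - s * b * s ∈ vsp G b := by
    intro s g hs hg hgN
    have hf : onePlus b hb.sq ∈ F :=
      (hFm _).2 (by rw [coe_onePlus, add_sub_cancel_left]; exact hb.self_mem_vsp)
    have h1 := (hFm _).1 ((Subgroup.mem_normalizer_iff.1 hgN _).1 hf)
    rw [show g = onePlus s hs from eq_onePlus hs hg, Units.val_mul, Units.val_mul,
      coe_onePlus_inv, coe_onePlus, coe_onePlus] at h1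
    convert h1 using 1
    calc b + (s * b - b * s) - s * b * s
        = b + (s * b - b * s) - s * b * s - s * s := by rw [hs, sub_zero]
      _ = _ := by noncomm_ring
  have h1 := key x e.1 hxm.sq (add_sub_cancel _ _).symm e.2.2
  have h3 := key (-x) e.1⁻¹ (by rw [neg_mul_neg, hxm.sq]) (by
    rw [eq_onePlus hxm.sq (add_sub_cancel (1 : Module.End k M) (e.1 : Module.End k M)).symm,
      coe_onePlus_inv, sub_eq_add_neg]) (inv_mem e.2.2)
  have hbm := hb.self_mem_vsp
  have hw : x * b - b * x ∈ vsp G b := by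
    have h4 := (vsp G b).smul_mem ((2 : k)⁻¹) (sub_mem h1 h3)
    have e4 : (b + (x * b - b * x) - x * b * x) -
        (b + (-x * b - b * -x) - -x * b * -x) = (2 : k) • (x * b - b * x) := by
      rw [two_smul]; noncomm_ring
    rwa [e4, smul_smul, inv_mul_cancel₀ h2, one_smul] at h4
  have hxbx : x * b * x ∈ vsp G b := by
    have h4 := sub_mem (add_mem hbm hw) h1
    rwa [sub_sub_cancel] at h4
  have hbxb : b * x * b = 0 := by
    have h4 := mul_eq_zero_of_mem_vsp hbm hw
    rwa [mul_sub, ← mul_assoc, ← mul_assoc, hb.sq, zero_mul, sub_zero] at h4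
  obtain ⟨hxbx0, -⟩ := mul_self_eq_zero_of_nilpotent h2 hxm hb
    (isNilpotent_of_bab hxm.sq hb.sq hbxb)
  by_cases hw0 : x * b - b * x = 0
  · exact ⟨b, hbm, hb.ne, sub_eq_zero.1 hw0⟩
  · obtain ⟨-, -, e1, e2, -, -⟩ := bracket_facts hxm.sq hb.sq hxm.fam hb.fam hxbx0 hbxb
    exact ⟨_, hw, hw0, e1.trans e2.symm⟩

end Cfsg.Agent.QuadPair
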