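import Cfsg.Agent.Lib.QuadPair.Pair
import Cfsg.Agent.Lib.QuadPair.Commute
import Cfsg.Agent.Lib.RootSubgroups.UnipotentJoin

/-!
Opposite minimal elements: the partner `y` with `a y a = a`, conjugacy of the two root spaces, and
existence of opposite elements in every orbit.
-/

set_option autoImplicit false
set_option linter.unusedSectionVars false

universe u v

namespace Cfsg.Agent.QuadPair

open Cfsg
open scoped Pointwise

variable {k : Type u} [Field k] {M : Type v} [AddCommGroup M] [Module k M]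
variable {G : Subgroup (LinearMap.GeneralLinearGroup k M)}

theorem vsp_neg [FiniteDimensional k M] (a : Module.End k M) : vsp G (-a) = vsp G a :=
  vsp_congr (LinearMap.range_neg a) (LinearMap.ker_neg a)

theorem mem_ker_cj {g : LinearMap.GeneralLinearGroup k M} {x : Module.End k M} {m : M} :
    m ∈ LinearMap.ker (cj g x) ↔
      ((g⁻¹ : LinearMap.GeneralLinearGroup k M) : Module.End k M) m ∈ LinearMap.ker x := by
  simp only [LinearMap.mem_ker, cj, Module.End.mul_apply]
  constructor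
  · intro h
    have h1 := congrArg ((g⁻¹ : LinearMap.GeneralLinearGroup k M) : Module.End k M) h
    rwa [← Module.End.mul_apply, Units.inv_mul, map_zero] at h1
  · intro h
    rw [h, map_zero]

theorem range_cj_le {g : LinearMap.GeneralLinearGroup k M} {x y : Module.End k M}
    (h : LinearMap.range x ≤ LinearMap.range y) :
    LinearMap.range (cj g x) ≤ LinearMap.range (cj g y) := by
  rw [range_cj_equiv, range_cj_equiv]
  exact Submodule.map_mono h

theorem cj_mem_vsp {g : LinearMap.GeneralLinearGroup k M} (hg : g ∈ G) {a x : Module.End k M}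
    (ha : a * a = 0) (hx : x ∈ vsp G a) : cj g x ∈ vsp G (cj g a) := by
  obtain ⟨hf, hr, hk⟩ := (mem_vsp_iff ha).1 hx
  refine (mem_vsp_iff (by rw [← cj_mul, ha, cj_zero])).2 ⟨hf.cj hg, range_cj_le hr, fun m hm => ?_⟩
  exact mem_ker_cj.2 (hk (mem_ker_cj.1 hm))

/-- Conjugation as a linear map. -/
def cjLin (g : LinearMap.GeneralLinearGroup k M) : Module.End k M →ₗ[k] Module.End k M where
  toFun := cj g
  map_add' := cj_add g
  map_smul' := cj_smul g

theorem cjLin_apply (g : LinearMap.GeneralLinearGroup k M) (x : Module.End k M) :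
    cjLin g x = cj g x := rfl

theorem cj_mem_vsp_iff {g : LinearMap.GeneralLinearGroup k M} (hg : g ∈ G) {a x : Module.End k M}
    (ha : a * a = 0) : cj g x ∈ vsp G (cj g a) ↔ x ∈ vsp G a := by
  refine ⟨fun h => ?_, cj_mem_vsp hg ha⟩
  have h1 := cj_mem_vsp (G.inv_mem hg) (by rw [← cj_mul, ha, cj_zero]) h
  rwa [cj_inv_cj, cj_inv_cj] at h1

theorem finrank_vsp_cj [FiniteDimensional k M] {g : LinearMap.GeneralLinearGroup k M} (hg : g ∈ G)
    {a : Module.End k M} (ha : a * a = 0) :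
    Module.finrank k (vsp G (cj g a)) = Module.finrank k (vsp G a) := by
  have h : (vsp G a).map (cjLin g) = vsp G (cj g a) := by
    ext x
    constructor
    · rintro ⟨y, hy, rfl⟩
      exact cj_mem_vsp hg ha hy
    · intro hx
      refine ⟨cj g⁻¹ x, ?_, cj_cj_inv g x⟩
      exact (cj_mem_vsp_iff hg ha).1 (by rw [cj_cj_inv]; exact hx)
  rw [← h]
  exact ((vsp G a).equivMapOfInjective (cjLin g) (cj_injective g)).symm.finrank_eq

section finite

variable [FiniteDimensional k M]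

theorem bab_of_aba (h2 : (2 : k) ≠ 0) {a b : Module.End k M} (ha : IsMin G a) (hb : IsMin G b)
    (h : a * b * a = 0) : b * a * b = 0 := by
  have hz := isNilpotent_of_bab hb.sq ha.sq h
  rw [add_comm] at hz
  exact (mul_self_eq_zero_of_nilpotent h2 ha hb hz).2

/-- `a b a = 0` only depends on the spaces of `a` and `b`. -/
theorem aba_zero_of_vsp (h2 : (2 : k) ≠ 0) {a b : Module.End k M} (ha : IsMin G a)
    (hb : IsMin G b) (h : a * b * a = 0) {x y : Module.End k M} (hx : x ∈ vsp G a)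
    (hy : y ∈ vsp G b) : x * y * x = 0 := by
  by_cases hx0 : x = 0
  · rw [hx0, mul_zero]
  by_cases hy0 : y = 0
  · rw [hy0, mul_zero, zero_mul]
  obtain ⟨hxm, hxr, hxk⟩ := ha.of_mem_vsp hx hx0
  obtain ⟨hym, hyr, hyk⟩ := hb.of_mem_vsp hy hy0
  have h1 := bab_of_aba h2 ha hb h
  have h3 : y * a * y = 0 := LinearMap.ext fun m => by
    obtain ⟨n, hn⟩ := hyr.le (LinearMap.mem_range_self y m)
    have h4 : a (b n) ∈ LinearMap.ker y := by
      rw [hyk]
      exact LinearMap.mem_ker.2 (DFunLike.congr_fun h1 n)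
    show y (a (y m)) = 0
    rw [← hn]
    exact LinearMap.mem_ker.1 h4
  have h5 := bab_of_aba h2 hym ha h3
  refine LinearMap.ext fun m => ?_
  obtain ⟨n, hn⟩ := hxr.le (LinearMap.mem_range_self x m)
  have h4 : y (a n) ∈ LinearMap.ker x := by
    rw [hxk]
    exact LinearMap.mem_ker.2 (DFunLike.congr_fun h5 n)
  show x (y (x m)) = 0
  rw [← hn]
  exact LinearMap.mem_ker.1 h4

theorem aba_ne_zero_of_vsp (h2 : (2 : k) ≠ 0) {a b : Module.End k M} (ha : IsMin G a)
    (hb : IsMin G b) (h : a * b * a ≠ 0) {x y : Module.End k M} (hx : x ∈ vsp G a)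
    (hx0 : x ≠ 0) (hy : y ∈ vsp G b) (hy0 : y ≠ 0) : x * y * x ≠ 0 := fun hxy =>
  h (aba_zero_of_vsp h2 (ha.of_mem_vsp hx hx0).1 (hb.of_mem_vsp hy hy0).1 hxy
    (by rw [ha.vsp_eq hx hx0]; exact ha.self_mem_vsp)
    (by rw [hb.vsp_eq hy hy0]; exact hb.self_mem_vsp))

theorem not_isNilpotent_of_aba (h2 : (2 : k) ≠ 0) {a b : Module.End k M} (ha : IsMin G a)
    (hb : IsMin G b) (h : a * b * a ≠ 0) : ¬ IsNilpotent (a * b + b * a) := fun hz =>
  h (mul_self_eq_zero_of_nilpotent h2 ha hb hz).1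

/-- The partner of `a` in the space of `b`. -/
theorem exists_inv (hgen : GenProp k) (hk2 : ringChar k ≠ 2) (hk3 : Nat.card k ≠ 3)
    {a b : Module.End k M} (ha : IsMin G a) (hb : IsMin G b) (h : a * b * a ≠ 0) :
    ∃ y ∈ vsp G b, y ≠ 0 ∧ a * y * a = a ∧ y * a * y = y := by
  have h2 := two_ne_zero_of_ringChar hk2
  obtain ⟨R, _, _, lam, C, -, -, -, -, hpa, hpb, hrep, -, -⟩ :=
    exists_rep hgen h2 hk3 ha hb (not_isNilpotent_of_aba h2 ha hb h)
  have e1 : a * (C.map C.li * b) * a = a := by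
    rw [← mul_assoc, ← C.comm_left, mul_assoc (C.map C.li) a b, mul_assoc (C.map C.li),
      aba ha.sq, ← mul_assoc, C.map_lam, mul_comm C.li, C.lam_li]
    exact hpa
  have e2 : C.map C.li * b * a * (C.map C.li * b) = C.map C.li * b := by
    rw [mul_assoc (C.map C.li) b a, C.mul_rl, bab hb.sq, ← mul_assoc, C.map_lam, mul_assoc,
      mul_comm C.li lam, C.lam_li, mul_one]
  refine ⟨C.map C.li * b, (mem_vsp_iff hb.sq).2 ⟨fun c => ⟨_, hrep (SL2Gen.eL (c • (1 : R))), ?_⟩,
    ?_, ?_⟩, ?_, e1, e2⟩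
  · rw [C.rep_eL, smul_mul_assoc, one_mul, map_smul, smul_mul_assoc]
  · rw [C.comm_right]
    rintro _ ⟨m, rfl⟩
    exact ⟨_, rfl⟩
  · intro m hm
    rw [LinearMap.mem_ker, Module.End.mul_apply, LinearMap.mem_ker.1 hm, map_zero]
  · intro h0
    rw [h0, mul_zero, zero_mul] at e1
    exact ha.ne e1.symm

/-- With a partner `y`: `(1+a)(1-y)` carries `a` to `-y`. -/
theorem cj_inv_identity {a y : Module.End k M} (ha : a * a = 0) (hy : y * y = 0)
    (e1 : a * y * a = a) (e2 : y * a * y = y) :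
    (1 - y) * a * (1 + y) = -((1 - a) * y * (1 + a)) ∧
      cj (onePlus a ha * (onePlus y hy)⁻¹) a = -y := by
  have h1 : (1 - y) * a * (1 + y) = -((1 - a) * y * (1 + a)) := by
    calc (1 - y) * a * (1 + y) = a + a * y - y * a - y * a * y := by noncomm_ring
      _ = a * y * a + a * y - y * a - y := by rw [e1, e2]
      _ = _ := by noncomm_ring
  refine ⟨h1, ?_⟩
  have h3 : cj (onePlus a ha * (onePlus y hy)⁻¹) a =
      (1 + a) * ((1 - y) * a * (1 + y)) * (1 - a) := by
    simp only [cj, _root_.mul_inv_rev, inv_inv, Units.val_mul, coe_onePlus, coe_onePlus_inv,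
      mul_assoc]
  have h5 : (1 + a) * (1 - a) = 1 := by rw [mul_sub, mul_one, add_mul, one_mul, ha, add_zero,
    add_sub_cancel_right]
  rw [h3, h1, mul_neg, neg_mul, ← mul_assoc, ← mul_assoc, h5, one_mul, mul_assoc, h5, mul_one]

/-- Opposite root spaces are conjugate. -/
theorem exists_cj_vsp (hgen : GenProp k) (hk2 : ringChar k ≠ 2) (hk3 : Nat.card k ≠ 3)
    {a b : Module.End k M} (ha : IsMin G a) (hb : IsMin G b) (h : a * b * a ≠ 0) :
    ∃ g ∈ G, vsp G (cj g a) = vsp G b := by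
  obtain ⟨y, hy, hy0, e1, e2⟩ := exists_inv hgen hk2 hk3 ha hb h
  obtain ⟨hym, -, -⟩ := hb.of_mem_vsp hy hy0
  refine ⟨_, G.mul_mem (ha.fam.mem.onePlus_mem ha.sq)
    (G.inv_mem (hym.fam.mem.onePlus_mem hym.sq)), ?_⟩
  rw [(cj_inv_identity ha.sq hym.sq e1 e2).2, vsp_neg]
  exact hb.vsp_eq hy hy0

theorem finrank_vsp_eq (hgen : GenProp k) (hk2 : ringChar k ≠ 2) (hk3 : Nat.card k ≠ 3)
    {a b : Module.End k M} (ha : IsMin G a) (hb : IsMin G b) (h : a * b * a ≠ 0) :
    Module.finrank k (vsp G a) = Module.finrank k (vsp G b) := by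
  obtain ⟨g, hg, e⟩ := exists_cj_vsp hgen hk2 hk3 ha hb h
  rw [← e, finrank_vsp_cj hg ha.sq]

end finite

/-! ### Partners in an orbit -/

/-- The elements `1 + c x`, as a subgroup. -/
def famGroup (x : Module.End k M) (hx : x * x = 0) :
    Subgroup (LinearMap.GeneralLinearGroup k M) where
  carrier := {g | ∃ c : k, (g : Module.End k M) = 1 + c • x}
  one_mem' := ⟨0, by simp⟩
  mul_mem' := by
    rintro g h ⟨c, hc⟩ ⟨d, hd⟩
    refine ⟨c + d, ?_⟩
    rw [Units.val_mul, hc, hd, mul_add, mul_one, add_mul, one_mul, smul_mul_assoc, mul_smul_comm,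
      hx, smul_zero, smul_zero, add_zero, add_assoc, ← add_smul]
  inv_mem' := by
    rintro g ⟨c, hc⟩
    refine ⟨-c, ?_⟩
    rw [show g = onePlus _ (smul_sq hx c) from Units.ext hc, coe_onePlus_inv, neg_smul,
      sub_eq_add_neg]

variable [FiniteDimensional k M]

theorem isUnipotentOn_pair (h2 : (2 : k) ≠ 0) {a b : Module.End k M} (ha : IsMin G a)
    (hb : IsMin G b) (h : a * b * a = 0) :
    IsUnipotentOn (famGroup a ha.sq ⊔ famGroup b hb.sq) := by
  let E : Subgroup (LinearMap.GeneralLinearGroup k M) :=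
    { carrier := {g | InWords a b 1 g}
      one_mem' := InWords.one
      mul_mem' := fun hg hh => hg.mul hh
      inv_mem' := fun hg => hg.inv }
  have hle : famGroup a ha.sq ⊔ famGroup b hb.sq ≤ E := by
    refine sup_le ?_ ?_ <;> rintro g ⟨c, hc⟩
    · rw [eq_onePlus (smul_sq ha.sq c) hc]
      exact inWords_left ha.sq c
    · rw [eq_onePlus (smul_sq hb.sq c) hc]
      exact inWords_right hb.sq c
  refine RootSubgroups.UnipotentJoin.isUnipotentOn_of_le (V := words a b 1) ?_ (n := 3) ?_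
  · rw [RootSubgroups.UnipotentJoin.disp, Submodule.span_le]
    rintro _ ⟨g, hg, rfl⟩
    exact (hle hg).1
  · refine eq_bot_iff.2 ?_
    have h3 : words a b 1 ^ 3 ≤ words a b 3 := by
      rw [pow_succ, pow_two]
      refine Submodule.mul_le.2 fun x hx y hy => mul_mem_words (m := 2) (n := 1) ?_ hy
      exact (Submodule.mul_le.2 fun u hu w hw => mul_mem_words (m := 1) (n := 1) hu hw) hx
    refine h3.trans ?_
    have hlin : lin a b ^ 3 ≤ ⊥ := by
      refine ((lin_pow_le ha.sq hb.sq 1).1).trans ?_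
      rw [pow_one, ← aba ha.sq, ← bab hb.sq, h, bab_of_aba h2 ha hb h]
      simp
    refine iSup_le fun j => ?_
    rw [pow_add]
    refine (mul_le_mul' hlin le_rfl).trans ?_
    rw [Submodule.bot_mul]

/-- Every orbit of a minimal element contains an opposite of it. -/
theorem exists_opp_conj (h2 : (2 : k) ≠ 0) (hirr : IsIrreducibleFor G) {a : Module.End k M}
    (ha : IsMin G a) : ∃ g ∈ G, a * cj g a * a ≠ 0 := by
  by_contra hall
  push Not at hall
  set W : Set (Subgroup (LinearMap.GeneralLinearGroup k M)) :=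
    {A | ∃ (g : LinearMap.GeneralLinearGroup k M) (hg : g ∈ G),
      A = famGroup (cj g a) (ha.cj hg).sq} with hW
  have hmem : ∀ g (hg : g ∈ G), famGroup (cj g a) (ha.cj hg).sq ≤ G := by
    rintro g hg h ⟨c, hc⟩
    obtain ⟨h', hh', e⟩ := (ha.cj hg).fam c
    rwa [show h = h' from Units.ext (hc.trans e.symm)]
  have hWG : ∀ A ∈ W, A ≤ G := by
    rintro _ ⟨g, hg, rfl⟩
    exact hmem g hg
  have hWW : ∀ A ∈ W, ∀ B ∈ W, IsUnipotentOn (A ⊔ B) := by
    rintro _ ⟨g, hg, rfl⟩ _ ⟨h, hh, rfl⟩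
    refine isUnipotentOn_pair h2 (ha.cj hg) (ha.cj hh) ?_
    have h1 := congrArg (cj g) (hall (g⁻¹ * h) (G.mul_mem (G.inv_mem hg) hh))
    rwa [cj_mul, cj_mul, cj_cj, mul_inv_cancel_left, cj_zero] at h1
  have hWconj : ∀ A ∈ W, ∀ g ∈ G, conjBy A g ∈ W := by
    rintro _ ⟨h, hh, rfl⟩ g hg
    refine ⟨g * h, G.mul_mem hg hh, ?_⟩
    ext x
    constructor
    · rintro ⟨y, ⟨c, hc⟩, rfl⟩
      refine ⟨c, ?_⟩
      show ((g * y * g⁻¹ : LinearMap.GeneralLinearGroup k M) : Module.End k M) = _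
      rw [← sub_eq_iff_eq_add', ← cj_sub_one, hc, add_sub_cancel_left, cj_smul, cj_cj]
    · rintro ⟨c, hc⟩
      refine ⟨g⁻¹ * x * g, ⟨c, ?_⟩, show g * (g⁻¹ * x * g) * g⁻¹ = x by group⟩
      have e := (cj_sub_one g⁻¹ x).symm
      rw [hc, add_sub_cancel_left, cj_smul, ← cj_cj g, cj_inv_cj, inv_inv,
        sub_eq_iff_eq_add'] at e
      exact e
  have hu := RootSubgroups.UnipotentJoin.isUnipotentOn_iSup hWG hWW hWconj
  set U := ⨆ A ∈ W, A with hU
  obtain ⟨n, hn⟩ := (RootSubgroups.UnipotentJoin.isUnipotentOn_iff U).1 hu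
  classical
  have hex : ∃ n, RootSubgroups.UnipotentJoin.disp U ^ n = ⊥ := ⟨n, hn⟩
  obtain ⟨n0, hn0⟩ : ∃ n0, Nat.find hex = n0 + 1 := by
    refine ⟨Nat.find hex - 1, (Nat.succ_pred_eq_of_ne_zero fun h0 => ?_).symm⟩
    have h1 := Nat.find_spec hex
    rw [h0, pow_zero] at h1
    have h3 : (1 : Module.End k M) ∈ (⊥ : Submodule k (Module.End k M)) :=
      h1 ▸ Submodule.one_le.1 le_rfl
    obtain ⟨m, hm⟩ := hirr.1
    exact hm (DFunLike.congr_fun ((Submodule.mem_bot k).1 h3) m)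
  have hz := Nat.find_spec hex
  rw [hn0, pow_succ'] at hz
  obtain ⟨p, hp, hp0⟩ := Submodule.exists_mem_ne_zero_of_ne_bot
    (Nat.find_min hex (show n0 < Nat.find hex by omega))
  obtain ⟨m, hm⟩ : ∃ m, p m ≠ 0 := by
    by_contra h
    push Not at h
    exact hp0 (LinearMap.ext h)
  let F : Submodule k M := fixedSubmodule U
  have hmemF : ∀ v, v ∈ F ↔ ∀ g ∈ U, ((g : LinearMap.GeneralLinearGroup k M) : Module.End k M) v = v :=
    fun v => by simp [F, fixedSubmodule, sub_eq_zero]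
  have hpF : p m ∈ F := (hmemF _).2 fun g hg => by
    have h1 := Submodule.mul_mem_mul (RootSubgroups.UnipotentJoin.mem_disp hg) hp
    rw [hz, Submodule.mem_bot] at h1
    exact sub_eq_zero.1 (DFunLike.congr_fun h1 m)
  have hinv : ∀ g ∈ G, ∀ w ∈ F, (g : M →ₗ[k] M) w ∈ F := by
    intro g hg w hw
    refine (hmemF _).2 fun h hh => ?_
    have hh' : g⁻¹ * h * g ∈ U := by
      have e := RootSubgroups.UnipotentJoin.conjBy_iSup hWconj (G.inv_mem hg)
      rw [← hU] at e
      exact e.le ⟨h, hh, by simp⟩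
    have h1 := congrArg (g : Module.End k M) ((hmemF w).1 hw _ hh')
    rw [← Module.End.mul_apply, ← Units.val_mul, ← mul_assoc, ← mul_assoc, mul_inv_cancel,
      one_mul, Units.val_mul, Module.End.mul_apply] at h1
    exact h1
  rcases hirr.2 F hinv with hb | ht
  · exact hm ((Submodule.mem_bot k).1 (hb ▸ hpF))
  · refine ha.ne (LinearMap.ext fun v => ?_)
    have h1 : onePlus a ha.sq ∈ U := by
      refine (le_iSup₂_of_le (famGroup (cj 1 a) (ha.cj G.one_mem).sq) ⟨1, G.one_mem, rfl⟩ le_rfl :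
        famGroup (cj 1 a) (ha.cj G.one_mem).sq ≤ U) ⟨1, ?_⟩
      rw [coe_onePlus, cj_one, one_smul]
    have h3 := (hmemF v).1 (ht ▸ Submodule.mem_top) _ h1
    rw [coe_onePlus, LinearMap.add_apply, Module.End.one_apply, add_eq_left] at h3
    exact h3

/-- A minimal element in the span of an orbit has an opposite in that orbit. -/
theorem exists_opp_of_mem_span (h2 : (2 : k) ≠ 0) (hirr : IsIrreducibleFor G)
    {a w : Module.End k M} (hw : IsMin G w)
    (hmem : w ∈ Submodule.span k ((fun g => cj g a) '' (G : Set (LinearMap.GeneralLinearGroup k M)))) :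
    ∃ g ∈ G, w * cj g a * w ≠ 0 := by
  set S := Submodule.span k ((fun g => cj g a) '' (G : Set (LinearMap.GeneralLinearGroup k M)))
  by_contra hall
  push Not at hall
  obtain ⟨h, hh, hne⟩ := exists_opp_conj h2 hirr hw
  have hS : S.map (cjLin h) ≤ S := by
    rw [Submodule.map_span, Submodule.span_le]
    rintro _ ⟨_, ⟨g, hg, rfl⟩, rfl⟩
    exact Submodule.subset_span ⟨h * g, G.mul_mem hh hg, (cj_cj h g a).symm⟩
  have h1 : cj h w ∈ S := hS ⟨w, hmem, rfl⟩
  have hker : S ≤ LinearMap.ker ((LinearMap.mulRight k w).comp (LinearMap.mulLeft k w)) := by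
    rw [Submodule.span_le]
    rintro _ ⟨g, hg, rfl⟩
    exact hall g hg
  exact hne (hker h1)

/-- `[b, x]` lies in the span of the orbit of `a` with `x`. -/
theorem bracket_mem_span (h2 : (2 : k) ≠ 0) {a b : Module.End k M} (hb : b * b = 0)
    (hbf : Fam G b) :
    a * b - b * a ∈
      Submodule.span k ((fun g => cj g a) '' (G : Set (LinearMap.GeneralLinearGroup k M))) := by
  set S := Submodule.span k ((fun g => cj g a) '' (G : Set (LinearMap.GeneralLinearGroup k M)))
  have hg := hbf.mem.onePlus_mem hb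
  have h1 : cj (onePlus b hb) a ∈ S := Submodule.subset_span ⟨_, hg, rfl⟩
  have h3 : cj (onePlus b hb)⁻¹ a ∈ S := Submodule.subset_span ⟨_, G.inv_mem hg, rfl⟩
  have e : cj (onePlus b hb)⁻¹ a - cj (onePlus b hb) a = (2 : k) • (a * b - b * a) := by
    simp only [cj, inv_inv, coe_onePlus, coe_onePlus_inv, two_smul]
    noncomm_ring
  have h4 := S.smul_mem (2 : k)⁻¹ (sub_mem h3 h1)
  rwa [e, smul_smul, inv_mul_cancel₀ h2, one_smul] at h4

end Cfsg.Agent.QuadPair
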