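import Cfsg.Prelude.Def_RootSubgroups

/-!
Quadratic pairs: the endomorphisms `x` with `1 + k x ⊆ G`, minimal ones, and the space `vsp G a`
of those with the same action as `a`; `E(σ) = 1 + vsp G (σ - 1)`.
-/

set_option autoImplicit false
set_option linter.unusedSectionVars false

namespace Cfsg.Agent.QuadPair

open Cfsg

variable {k : Type*} [Field k] {M : Type*} [AddCommGroup M] [Module k M]
variable {G : Subgroup (LinearMap.GeneralLinearGroup k M)}

/-- `1 + x` as a unit, for `x² = 0`. -/
def onePlus (x : Module.End k M) (h : x * x = 0) : LinearMap.GeneralLinearGroup k M :=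
  ⟨1 + x, 1 - x, by simp [mul_sub, add_mul, h], by simp [sub_mul, mul_add, h]⟩

theorem coe_onePlus (x : Module.End k M) (h : x * x = 0) :
    (onePlus x h : Module.End k M) = 1 + x := rfl

theorem coe_onePlus_inv (x : Module.End k M) (h : x * x = 0) :
    (((onePlus x h)⁻¹ : LinearMap.GeneralLinearGroup k M) : Module.End k M) = 1 - x := rfl

theorem eq_onePlus {g : LinearMap.GeneralLinearGroup k M} {x : Module.End k M} (h : x * x = 0)
    (hg : (g : Module.End k M) = 1 + x) : g = onePlus x h := Units.ext hg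

theorem smul_sq {x : Module.End k M} (h : x * x = 0) (c : k) : (c • x) * (c • x) = 0 := by
  rw [smul_mul_assoc, mul_smul_comm, h, smul_zero, smul_zero]

/-- `1 + x` lies in `G`. -/
def Mem (G : Subgroup (LinearMap.GeneralLinearGroup k M)) (x : Module.End k M) : Prop :=
  ∃ g ∈ G, (g : Module.End k M) = 1 + x

/-- `1 + c x` lies in `G` for every scalar `c`. -/
def Fam (G : Subgroup (LinearMap.GeneralLinearGroup k M)) (x : Module.End k M) : Prop :=
  ∀ c : k, Mem G (c • x)

theorem Mem.onePlus_mem {x : Module.End k M} (hx : Mem G x) (h : x * x = 0) : onePlus x h ∈ G := by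
  obtain ⟨g, hg, e⟩ := hx
  rwa [← eq_onePlus h e]

theorem Fam.mem {x : Module.End k M} (hx : Fam G x) : Mem G x := by simpa using hx 1

theorem Fam.zero : Fam G (0 : Module.End k M) := fun c => ⟨1, G.one_mem, by simp⟩

theorem Fam.smul {x : Module.End k M} (hx : Fam G x) (t : k) : Fam G (t • x) := fun c => by
  rw [smul_smul]
  exact hx _

theorem Fam.add {x y : Module.End k M} (hx : Fam G x) (hy : Fam G y) (hxy : x * y = 0) :
    Fam G (x + y) := fun c => by
  obtain ⟨g, hg, eg⟩ := hx c
  obtain ⟨h, hh, eh⟩ := hy c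
  refine ⟨g * h, G.mul_mem hg hh, ?_⟩
  have e : c • x * c • y = 0 := by rw [smul_mul_assoc, mul_smul_comm, hxy, smul_zero, smul_zero]
  rw [Units.val_mul, eg, eh, mul_add (1 + c • x), mul_one, add_mul, one_mul, e, add_zero,
    smul_add, add_assoc]

theorem Fam.neg {x : Module.End k M} (hx : Fam G x) : Fam G (-x) := by
  simpa using hx.smul (-1 : k)

/-! ### Conjugation -/

/-- `g x g⁻¹`. -/
def cj (g : LinearMap.GeneralLinearGroup k M) (x : Module.End k M) : Module.End k M :=
  (g : Module.End k M) * x * ((g⁻¹ : LinearMap.GeneralLinearGroup k M) : Module.End k M)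

theorem cj_mul (g : LinearMap.GeneralLinearGroup k M) (x y : Module.End k M) :
    cj g (x * y) = cj g x * cj g y := by
  simp [cj, mul_assoc]

theorem cj_zero (g : LinearMap.GeneralLinearGroup k M) : cj g (0 : Module.End k M) = 0 := by
  simp [cj]

theorem cj_one (x : Module.End k M) : cj 1 x = x := by simp [cj]

theorem cj_cj (g h : LinearMap.GeneralLinearGroup k M) (x : Module.End k M) :
    cj g (cj h x) = cj (g * h) x := by
  simp [cj, mul_assoc]

theorem cj_inv_cj (g : LinearMap.GeneralLinearGroup k M) (x : Module.End k M) :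
    cj g⁻¹ (cj g x) = x := by
  rw [cj_cj, inv_mul_cancel, cj_one]

theorem cj_cj_inv (g : LinearMap.GeneralLinearGroup k M) (x : Module.End k M) :
    cj g (cj g⁻¹ x) = x := by
  rw [cj_cj, mul_inv_cancel, cj_one]

theorem cj_injective (g : LinearMap.GeneralLinearGroup k M) :
    Function.Injective (cj g : Module.End k M → Module.End k M) :=
  Function.LeftInverse.injective (cj_inv_cj g)

theorem cj_add (g : LinearMap.GeneralLinearGroup k M) (x y : Module.End k M) :
    cj g (x + y) = cj g x + cj g y := by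
  simp [cj, mul_add, add_mul]

theorem cj_smul (g : LinearMap.GeneralLinearGroup k M) (c : k) (x : Module.End k M) :
    cj g (c • x) = c • cj g x := by
  simp [cj]

theorem cj_sub_one (g h : LinearMap.GeneralLinearGroup k M) :
    cj g ((h : Module.End k M) - 1) = ((g * h * g⁻¹ : LinearMap.GeneralLinearGroup k M) :
      Module.End k M) - 1 := by
  simp [cj, mul_sub, sub_mul, mul_assoc]

theorem Fam.cj {g : LinearMap.GeneralLinearGroup k M} {x : Module.End k M} (hx : Fam G x)
    (hg : g ∈ G) : Fam G (QuadPair.cj g x) := fun c => by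
  obtain ⟨h, hh, eh⟩ := hx c
  refine ⟨g * h * g⁻¹, G.mul_mem (G.mul_mem hg hh) (G.inv_mem hg), ?_⟩
  have e : (h : Module.End k M) - 1 = c • x := by rw [eh, add_sub_cancel_left]
  rw [← cj_smul, ← e, cj_sub_one, add_sub_cancel]

theorem range_cj_equiv (g : LinearMap.GeneralLinearGroup k M) (x : Module.End k M) :
    LinearMap.range (cj g x) =
      (LinearMap.range x).map (g : Module.End k M) := by
  have h1 : LinearMap.range ((g⁻¹ : LinearMap.GeneralLinearGroup k M) : Module.End k M) = ⊤ :=
    LinearMap.range_eq_top.2 fun m => ⟨(g : Module.End k M) m, by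
      rw [← Module.End.mul_apply, Units.inv_mul]; rfl⟩
  rw [cj, Module.End.mul_eq_comp, LinearMap.range_comp, h1, Submodule.map_top,
    Module.End.mul_eq_comp, LinearMap.range_comp]

theorem finrank_range_cj (g : LinearMap.GeneralLinearGroup k M) (x : Module.End k M) :
    Module.finrank k (LinearMap.range (cj g x)) = Module.finrank k (LinearMap.range x) := by
  rw [range_cj_equiv]
  have hinj : Function.Injective (g : Module.End k M) := fun a b h => by
    have := congrArg ((g⁻¹ : LinearMap.GeneralLinearGroup k M) : Module.End k M) h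
    rwa [← Module.End.mul_apply, ← Module.End.mul_apply, Units.inv_mul] at this
  exact (Submodule.equivMapOfInjective _ hinj _).symm.finrank_eq

/-! ### Minimal elements -/

/-- `a` is a nonzero square-zero `x` with `1 + k x ⊆ G`, of least rank. -/
structure IsMin (G : Subgroup (LinearMap.GeneralLinearGroup k M)) (a : Module.End k M) : Prop where
  sq : a * a = 0
  ne : a ≠ 0
  fam : Fam G a
  le_rank : ∀ x : Module.End k M, x * x = 0 → x ≠ 0 → Fam G x →
    Module.finrank k (LinearMap.range a) ≤ Module.finrank k (LinearMap.range x)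

theorem mem_quadraticElements_iff {σ : LinearMap.GeneralLinearGroup k M} :
    σ ∈ quadraticElements G ↔ ((σ : Module.End k M) - 1) * ((σ : Module.End k M) - 1) = 0 ∧
      (σ : Module.End k M) - 1 ≠ 0 ∧ Fam G ((σ : Module.End k M) - 1) := by
  constructor
  · rintro ⟨-, ⟨hsq, hne⟩, hfam⟩
    exact ⟨hsq, hne, fun c => ⟨onePlus _ (smul_sq hsq c), hfam ⟨c, rfl⟩, rfl⟩⟩
  · rintro ⟨hsq, hne, hfam⟩
    refine ⟨?_, ⟨hsq, hne⟩, ?_⟩
    · obtain ⟨g, hg, e⟩ := hfam.mem
      rwa [show σ = g from Units.ext (by rw [e, add_sub_cancel])]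
    · rintro τ ⟨c, hc⟩
      obtain ⟨g, hg, e⟩ := hfam c
      rwa [show τ = g from Units.ext (hc.trans e.symm)]

theorem mem_minimal_iff {σ : LinearMap.GeneralLinearGroup k M} :
    σ ∈ minimalQuadraticElements G ↔ IsMin G ((σ : Module.End k M) - 1) := by
  constructor
  · rintro ⟨hσ, hmin⟩
    obtain ⟨hsq, hne, hfam⟩ := mem_quadraticElements_iff.1 hσ
    refine ⟨hsq, hne, hfam, fun x hx hx0 hxf => ?_⟩
    have h1 := hmin (onePlus x hx) (mem_quadraticElements_iff.2
      (by simpa [coe_onePlus] using ⟨hx, hx0, hxf⟩))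
    have e : ((onePlus x hx : LinearMap.GeneralLinearGroup k M) : M →ₗ[k] M) - 1 = x :=
      add_sub_cancel_left 1 x
    unfold commutatorRank at h1
    rw [e] at h1
    exact h1
  · intro h
    refine ⟨mem_quadraticElements_iff.2 ⟨h.sq, h.ne, h.fam⟩, fun τ hτ => ?_⟩
    obtain ⟨hsq, hne, hfam⟩ := mem_quadraticElements_iff.1 hτ
    exact h.le_rank _ hsq hne hfam

theorem IsMin.of_rank_le {a x : Module.End k M} (ha : IsMin G a) (hx : x * x = 0) (hx0 : x ≠ 0)
    (hxf : Fam G x)
    (hr : Module.finrank k (LinearMap.range x) ≤ Module.finrank k (LinearMap.range a)) :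
    IsMin G x :=
  ⟨hx, hx0, hxf, fun y hy hy0 hyf => hr.trans (ha.le_rank y hy hy0 hyf)⟩

theorem IsMin.cj {a : Module.End k M} (ha : IsMin G a) {g : LinearMap.GeneralLinearGroup k M}
    (hg : g ∈ G) : IsMin G (QuadPair.cj g a) :=
  ha.of_rank_le (by rw [← cj_mul, ha.sq, cj_zero])
    (fun h => ha.ne (cj_injective g (h.trans (cj_zero g).symm))) (ha.fam.cj hg)
    (finrank_range_cj g a).le

theorem IsMin.finrank_eq {a b : Module.End k M} (ha : IsMin G a) (hb : IsMin G b) :
    Module.finrank k (LinearMap.range a) = Module.finrank k (LinearMap.range b) :=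
  le_antisymm (ha.le_rank b hb.sq hb.ne hb.fam) (hb.le_rank a ha.sq ha.ne ha.fam)

/-- An element of `Fam G` with range inside that of a minimal one has the same range. -/
theorem IsMin.range_eq [FiniteDimensional k M] {a x : Module.End k M} (ha : IsMin G a)
    (hx : x * x = 0) (hx0 : x ≠ 0) (hxf : Fam G x)
    (hle : LinearMap.range x ≤ LinearMap.range a) : LinearMap.range x = LinearMap.range a :=
  Submodule.eq_of_le_of_finrank_le hle (ha.le_rank x hx hx0 hxf)

/-! ### The space of elements acting like `a` -/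

/-- The `x` with `1 + k x ⊆ G`, range in that of `a` and killing the kernel of `a`. -/
def vsp (G : Subgroup (LinearMap.GeneralLinearGroup k M)) (a : Module.End k M) :
    Submodule k (Module.End k M) where
  carrier := {x | Fam G x ∧ LinearMap.range x ≤ LinearMap.range a ⊓ LinearMap.ker a ∧
    LinearMap.ker a ≤ LinearMap.ker x}
  zero_mem' := ⟨Fam.zero, by simp, by simp⟩
  add_mem' := fun {x y} hx hy => ⟨hx.1.add hy.1 (LinearMap.ext fun m =>
      LinearMap.mem_ker.1 (hx.2.2 (hy.2.1 (LinearMap.mem_range_self y m)).2)), by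
    rintro _ ⟨m, rfl⟩
    exact add_mem (hx.2.1 ⟨m, rfl⟩) (hy.2.1 ⟨m, rfl⟩), fun m hm => by
    rw [LinearMap.mem_ker, LinearMap.add_apply, LinearMap.mem_ker.1 (hx.2.2 hm),
      LinearMap.mem_ker.1 (hy.2.2 hm), add_zero]⟩
  smul_mem' := fun t {x} hx => ⟨hx.1.smul t, by
    rintro _ ⟨m, rfl⟩
    exact Submodule.smul_mem _ t (hx.2.1 ⟨m, rfl⟩), fun m hm => by
    rw [LinearMap.mem_ker, LinearMap.smul_apply, LinearMap.mem_ker.1 (hx.2.2 hm), smul_zero]⟩

theorem range_le_ker {a : Module.End k M} (h : a * a = 0) :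
    LinearMap.range a ≤ LinearMap.ker a := by
  rintro _ ⟨m, rfl⟩
  rw [LinearMap.mem_ker, ← Module.End.mul_apply, h]
  rfl

theorem mem_vsp_iff {a x : Module.End k M} (ha : a * a = 0) :
    x ∈ vsp G a ↔ Fam G x ∧ LinearMap.range x ≤ LinearMap.range a ∧
      LinearMap.ker a ≤ LinearMap.ker x :=
  ⟨fun h => ⟨h.1, h.2.1.trans inf_le_left, h.2.2⟩,
    fun h => ⟨h.1, le_inf h.2.1 (h.2.1.trans (range_le_ker ha)), h.2.2⟩⟩

theorem mul_eq_zero_of_mem_vsp {a x y : Module.End k M} (hx : x ∈ vsp G a) (hy : y ∈ vsp G a) :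
    x * y = 0 :=
  LinearMap.ext fun m => LinearMap.mem_ker.1 (hx.2.2 (hy.2.1 (LinearMap.mem_range_self y m)).2)

theorem IsMin.self_mem_vsp {a : Module.End k M} (ha : IsMin G a) : a ∈ vsp G a :=
  (mem_vsp_iff ha.sq).2 ⟨ha.fam, le_rfl, le_rfl⟩

section finite
variable [FiniteDimensional k M]

theorem IsMin.of_mem_vsp {a x : Module.End k M} (ha : IsMin G a) (hx : x ∈ vsp G a) (hx0 : x ≠ 0) :
    IsMin G x ∧ LinearMap.range x = LinearMap.range a ∧ LinearMap.ker x = LinearMap.ker a := by
  obtain ⟨hf, hr, hk⟩ := (mem_vsp_iff ha.sq).1 hx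
  have hsq := mul_eq_zero_of_mem_vsp hx hx
  have hre := ha.range_eq hsq hx0 hf hr
  refine ⟨ha.of_rank_le hsq hx0 hf (by rw [hre]), hre,
    (Submodule.eq_of_le_of_finrank_le hk ?_).symm⟩
  have h1 := LinearMap.finrank_range_add_finrank_ker x
  have h2 := LinearMap.finrank_range_add_finrank_ker a
  have h3 : Module.finrank k (LinearMap.range x) = Module.finrank k (LinearMap.range a) := by
    rw [hre]
  omega

theorem vsp_congr {a b : Module.End k M} (hr : LinearMap.range a = LinearMap.range b)
    (hk : LinearMap.ker a = LinearMap.ker b) : vsp G a = vsp G b := by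
  ext x
  show _ ∧ _ ↔ _ ∧ _
  rw [hr, hk]

theorem IsMin.vsp_eq {a x : Module.End k M} (ha : IsMin G a) (hx : x ∈ vsp G a) (hx0 : x ≠ 0) :
    vsp G x = vsp G a :=
  vsp_congr (ha.of_mem_vsp hx hx0).2.1 (ha.of_mem_vsp hx hx0).2.2

theorem mem_sameActionSubgroup_iff {σ g : LinearMap.GeneralLinearGroup k M}
    (hσ : IsMin G ((σ : Module.End k M) - 1)) :
    g ∈ sameActionSubgroup G σ ↔ (g : Module.End k M) - 1 ∈ vsp G ((σ : Module.End k M) - 1) := by
  set a := (σ : Module.End k M) - 1 with ha
  let E : Subgroup (LinearMap.GeneralLinearGroup k M) :=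
    { carrier := {g | (g : Module.End k M) - 1 ∈ vsp G a}
      one_mem' := by simp
      mul_mem' := fun {g h} hg hh => by
        have e : ((g * h : LinearMap.GeneralLinearGroup k M) : Module.End k M) - 1 =
            ((g : Module.End k M) - 1) + ((h : Module.End k M) - 1) +
              ((g : Module.End k M) - 1) * ((h : Module.End k M) - 1) := by
          rw [Units.val_mul]
          noncomm_ring
        show _ ∈ vsp G a
        rw [e, mul_eq_zero_of_mem_vsp hg hh, add_zero]
        exact add_mem hg hh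
      inv_mem' := fun {g} hg => by
        have h0 := mul_eq_zero_of_mem_vsp hg hg
        have e : g = onePlus _ h0 := Units.ext (by rw [coe_onePlus, add_sub_cancel])
        show _ ∈ vsp G a
        rw [e, coe_onePlus_inv, sub_sub_cancel_left]
        exact neg_mem hg }
  constructor
  · intro hg
    have hle : sameActionSubgroup G σ ≤ E := by
      refine (Subgroup.closure_le E).2 fun τ hτ => ?_
      obtain ⟨hτm, hk, hr⟩ := hτ
      exact (mem_vsp_iff hσ.sq).2 ⟨(mem_minimal_iff.1 hτm).fam, hr.le, hk.ge⟩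
    exact hle hg
  · intro hg
    by_cases h0 : (g : Module.End k M) - 1 = 0
    · rw [show g = 1 from Units.ext (sub_eq_zero.1 h0)]
      exact Subgroup.one_mem _
    · obtain ⟨hm, hr, hk⟩ := hσ.of_mem_vsp hg h0
      exact Subgroup.subset_closure ⟨mem_minimal_iff.2 hm, hk, hr⟩

end finite

end Cfsg.Agent.QuadPair
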