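import Cfsg.Agent.Lib.QuadPair.Decompose

/-!
A quadratic pair is a central product of quasisimple normal subgroups, each containing the
quadratic elements that generate it.
-/

set_option autoImplicit false
set_option linter.unusedSectionVars false

universe u v

namespace Cfsg.Agent.QuadPair

open Cfsg

variable {k : Type u} [Field k] {M : Type v} [AddCommGroup M] [Module k M] [FiniteDimensional k M]
variable {G : Subgroup (LinearMap.GeneralLinearGroup k M)}

/-- `H` is one of the factors. -/
def IsFactor (G H : Subgroup (LinearMap.GeneralLinearGroup k M)) : Prop :=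
  H ≤ G ∧ (∀ g ∈ G, conjBy H g = H) ∧ IsQuasisimple H ∧
    Subgroup.closure (quadraticElements G ∩ (H : Set (LinearMap.GeneralLinearGroup k M))) = H

/-- A decomposition of `G` as a central product. -/
def HasFactors (G : Subgroup (LinearMap.GeneralLinearGroup k M)) : Prop :=
  ∃ S : Set (Subgroup (LinearMap.GeneralLinearGroup k M)), S.Finite ∧ (∀ H ∈ S, IsFactor G H) ∧
    (∀ H ∈ S, ∀ K ∈ S, H ≠ K → ⁅H, K⁆ = ⊥) ∧ ∀ σ ∈ quadraticElements G, ∃ H ∈ S, σ ∈ H

/-- The subgroup generated by the quadratic elements centralising `G₀`. -/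
def restGroup (G : Subgroup (LinearMap.GeneralLinearGroup k M)) :
    Subgroup (LinearMap.GeneralLinearGroup k M) :=
  Subgroup.closure (quadraticElements G ∩
    (Subgroup.centralizer ((⨆ A ∈ quadraticRootSubgroups G, A :
      Subgroup (LinearMap.GeneralLinearGroup k M)) : Set (LinearMap.GeneralLinearGroup k M)) :
        Set (LinearMap.GeneralLinearGroup k M)))

theorem restGroup_le : restGroup G ≤ G :=
  (Subgroup.closure_le G).2 fun _ hσ => hσ.1.1

theorem restGroup_commute {g e : LinearMap.GeneralLinearGroup k M} (hg : g ∈ restGroup G)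
    (he : e ∈ ⨆ A ∈ quadraticRootSubgroups G, A) : e * g = g * e := by
  have h : restGroup G ≤ Subgroup.centralizer ((⨆ A ∈ quadraticRootSubgroups G, A :
      Subgroup (LinearMap.GeneralLinearGroup k M)) : Set (LinearMap.GeneralLinearGroup k M)) :=
    (Subgroup.closure_le _).2 fun _ hσ => hσ.2
  exact Subgroup.mem_centralizer_iff.1 (h hg) e he

theorem onePlus_mem_restGroup {σ : LinearMap.GeneralLinearGroup k M}
    (hσ : σ ∈ quadraticElements G)
    (hc : σ ∈ Subgroup.centralizer ((⨆ A ∈ quadraticRootSubgroups G, A :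
      Subgroup (LinearMap.GeneralLinearGroup k M)) : Set (LinearMap.GeneralLinearGroup k M))) :
    Fam (restGroup G) ((σ : Module.End k M) - 1) := by
  obtain ⟨hx, hne, hxf⟩ := mem_quadraticElements_iff.1 hσ
  intro c
  by_cases hc0 : c = 0
  · exact ⟨1, one_mem _, by simp [hc0]⟩
  obtain ⟨g, hg, hge⟩ := hxf c
  have e : (g : Module.End k M) - 1 = c • ((σ : Module.End k M) - 1) := by
    rw [hge, add_sub_cancel_left]
  refine ⟨g, Subgroup.subset_closure ⟨mem_quadraticElements_iff.2 ⟨?_, ?_, ?_⟩, ?_⟩, hge⟩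
  · rw [e]; exact smul_sq hx c
  · rw [e]; exact smul_ne_zero hc0 hne
  · rw [e]; exact hxf.smul c
  · refine Subgroup.mem_centralizer_iff.2 fun d hd => Units.ext ?_
    have h1 := congrArg (fun z : LinearMap.GeneralLinearGroup k M => (z : Module.End k M))
      (Subgroup.mem_centralizer_iff.1 hc d hd)
    simp only [Units.val_mul] at h1
    rw [Units.val_mul, Units.val_mul, hge, mul_add, add_mul, mul_one, one_mul, mul_smul_comm,
      smul_mul_assoc, mul_sub, sub_mul, mul_one, one_mul, h1]

theorem exists_quadraticRootSubgroup {σ : LinearMap.GeneralLinearGroup k M}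
    (hσ : σ ∈ quadraticElements G) : ∃ A, A ∈ quadraticRootSubgroups G := by
  classical
  have hex : ∃ n, ∃ τ ∈ quadraticElements G, commutatorRank τ = n := ⟨_, σ, hσ, rfl⟩
  obtain ⟨τ, hτ, hτn⟩ := Nat.find_spec hex
  exact ⟨_, τ, ⟨hτ, fun τ' hτ' => hτn.le.trans (Nat.find_min' hex ⟨τ', hτ', rfl⟩)⟩, rfl⟩

section main

variable (hgen : GenProp k) (hk2 : ringChar k ≠ 2) (hk3 : Nat.card k ≠ 3)
  (hG : IsQuadraticPair G)

include hgen hk2 hk3 hG

theorem mem_compGroup_or_rest {σ : LinearMap.GeneralLinearGroup k M}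
    (hσ : σ ∈ quadraticElements G) :
    (∃ A ∈ quadraticRootSubgroups G, σ ∈ compGroup G A) ∨
      σ ∈ quadraticElements G ∩
        (Subgroup.centralizer ((⨆ A ∈ quadraticRootSubgroups G, A :
          Subgroup (LinearMap.GeneralLinearGroup k M)) : Set (LinearMap.GeneralLinearGroup k M)) :
            Set (LinearMap.GeneralLinearGroup k M)) := by
  obtain ⟨hx, -, hxf⟩ := mem_quadraticElements_iff.1 hσ
  by_cases hall : ∀ A ∈ quadraticRootSubgroups G,
      CommutesWith (compGroup G A) ((σ : Module.End k M) - 1)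
  · refine Or.inr ⟨hσ, Subgroup.mem_centralizer_iff.2 fun g hg => Units.ext ?_⟩
    have h := commutesWith_iSup (fun A hA e he =>
      hall A hA e (le_iSup_mem (S := comp G A) (comp_self hA) he)) g hg
    rwa [mul_sub, sub_mul, mul_one, one_mul, sub_left_inj] at h
  · push Not at hall
    obtain ⟨A, hA, hne⟩ := hall
    obtain ⟨g, hg, hge⟩ := ((fam_mem_comp hgen hk2 hk3 hG hA hx hxf).resolve_left hne).mem
    rw [add_sub_cancel] at hge
    exact Or.inl ⟨A, hA, (Units.ext hge : g = σ) ▸ hg⟩

theorem compGroup_isFactor {A : Subgroup (LinearMap.GeneralLinearGroup k M)}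
    (hA : A ∈ quadraticRootSubgroups G) : IsFactor G (compGroup G A) := by
  refine ⟨comp_le.trans g0_le_G, fun g hg => compGroup_conj hgen hk2 hk3 hG hg,
    comp_quasisimple hgen hk2 hk3 hG.1 hA, le_antisymm ((Subgroup.closure_le _).2 fun _ h => h.2) ?_⟩
  refine iSup₂_le fun B hB e he => ?_
  by_cases he0 : (e : Module.End k M) - 1 = 0
  · rw [sub_eq_zero] at he0
    rw [show e = 1 from Units.ext he0]
    exact one_mem _
  obtain ⟨b, hb, hBm⟩ := exists_of_mem_quadraticRootSubgroups hB.1
  obtain ⟨hm, -, -⟩ := hb.of_mem_vsp ((hBm e).1 he) he0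
  exact Subgroup.subset_closure ⟨mem_quadraticElements_iff.2 ⟨hm.sq, hm.ne, hm.fam⟩,
    le_iSup_mem (S := comp G A) hB he⟩

theorem compGroup_commute {A B : Subgroup (LinearMap.GeneralLinearGroup k M)}
    (hne : compGroup G A ≠ compGroup G B) : ⁅compGroup G A, compGroup G B⁆ = ⊥ := by
  rw [Subgroup.commutator_eq_bot_iff_le_centralizer]
  refine iSup₂_le fun C hC => ?_
  rw [Subgroup.le_centralizer_iff]
  refine iSup₂_le fun D hD => ?_
  rw [← Subgroup.le_centralizer_iff, ← Subgroup.commutator_eq_bot_iff_le_centralizer]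
  exact comp_commute hgen hk2 hk3 hG.1 hC hD fun e => hne (by rw [compGroup, compGroup, e])

/-- An endomorphism commuting with `G₀` and killing a non-zero subspace invariant under the rest
kills everything. -/
theorem eq_zero_of_commute_vanish {V : Submodule k M} (hV : V ≠ ⊥)
    (hVinv : ∀ g ∈ restGroup G, ∀ v ∈ V, (g : Module.End k M) v ∈ V) {Z : Module.End k M}
    (hZ : CommutesWith (⨆ A ∈ quadraticRootSubgroups G, A) Z) (hZV : ∀ v ∈ V, Z v = 0) :
    Z = 0 := by
  let 𝒵 : Set (Module.End k M) :=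
    {Z | CommutesWith (⨆ A ∈ quadraticRootSubgroups G, A) Z ∧ ∀ v ∈ V, Z v = 0}
  let W : Submodule k M := ⨅ Z ∈ 𝒵, LinearMap.ker Z
  have hW : ∀ w, w ∈ W ↔ ∀ Z ∈ 𝒵, Z w = 0 := fun w => by simp [W]
  have h0 : ∀ g ∈ ⨆ A ∈ quadraticRootSubgroups G, A, ∀ w ∈ W, (g : Module.End k M) w ∈ W := by
    intro g hg w hw
    refine (hW _).2 fun Y hY => ?_
    rw [← Module.End.mul_apply, ← hY.1 g hg, Module.End.mul_apply, (hW w).1 hw Y hY, map_zero]
  have h1 : ∀ g ∈ restGroup G, ∀ w ∈ W, (g : Module.End k M) w ∈ W := by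
    intro g hg w hw
    refine (hW _).2 fun Y hY => (hW w).1 hw (Y * (g : Module.End k M)) ⟨fun e he => ?_, fun v hv => ?_⟩
    · have := congrArg (fun z : LinearMap.GeneralLinearGroup k M => (z : Module.End k M))
        (restGroup_commute hg he)
      simp only [Units.val_mul] at this
      rw [← mul_assoc, hY.1 e he, mul_assoc, this, mul_assoc]
    · exact hY.2 _ (hVinv g hg v hv)
  let P : Subgroup (LinearMap.GeneralLinearGroup k M) :=
    { carrier := {g | ∀ w ∈ W, (g : Module.End k M) w ∈ W ∧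
        ((g⁻¹ : LinearMap.GeneralLinearGroup k M) : Module.End k M) w ∈ W}
      one_mem' := fun w hw => by simp [hw]
      mul_mem' := fun {g g'} hg hg' w hw => by
        constructor
        · rw [Units.val_mul, Module.End.mul_apply]
          exact (hg _ (hg' w hw).1).1
        · rw [_root_.mul_inv_rev, Units.val_mul, Module.End.mul_apply]
          exact (hg' _ (hg w hw).2).2
      inv_mem' := fun {g} hg w hw => by
        rw [inv_inv]
        exact ⟨(hg w hw).2, (hg w hw).1⟩ }
  have hsub : quadraticElements G ⊆ P := by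
    intro σ hσ
    rcases mem_compGroup_or_rest hgen hk2 hk3 hG hσ with ⟨A, -, h⟩ | h
    · exact fun w hw => ⟨h0 σ (comp_le h) w hw, h0 _ (inv_mem (comp_le h)) w hw⟩
    · exact fun w hw => ⟨h1 σ (Subgroup.subset_closure h) w hw,
        h1 _ (inv_mem (Subgroup.subset_closure h)) w hw⟩
  have hVW : V ≤ W := fun v hv => (hW v).2 fun Y hY => hY.2 v hv
  rcases hG.1.2 W (fun g hg w hw =>
      (((hG.2.symm.le.trans ((Subgroup.closure_le P).2 hsub)) hg) w hw).1) with hb | ht
  · exact absurd (le_bot_iff.1 (hb ▸ hVW)) hV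
  · exact LinearMap.ext fun m => (hW m).1 (ht ▸ Submodule.mem_top) Z ⟨hZ, hZV⟩

theorem commutesWith_sub_smul {g h : LinearMap.GeneralLinearGroup k M} (hg : g ∈ restGroup G)
    (hh : h ∈ restGroup G) (c : k) :
    CommutesWith (⨆ A ∈ quadraticRootSubgroups G, A)
      (((g : Module.End k M) - 1) - c • ((h : Module.End k M) - 1)) := by
  intro e he
  have h1 := congrArg (fun z : LinearMap.GeneralLinearGroup k M => (z : Module.End k M))
    (restGroup_commute hg he)
  have h2 := congrArg (fun z : LinearMap.GeneralLinearGroup k M => (z : Module.End k M))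
    (restGroup_commute hh he)
  simp only [Units.val_mul] at h1 h2
  rw [mul_sub, sub_mul, mul_sub, sub_mul, mul_smul_comm, smul_mul_assoc, mul_sub, sub_mul, h1, h2,
    mul_one, one_mul]

/-- The inductive step. -/
theorem hasFactors_step
    (ih : ∀ (V : Submodule k M), Module.finrank k V < Module.finrank k M →
      ∀ H : Subgroup (LinearMap.GeneralLinearGroup k V), IsQuadraticPair H → HasFactors H) :
    HasFactors G := by
  classical
  set S₀ := compGroup G '' quadraticRootSubgroups G with hS₀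
  have hfin : S₀.Finite := by
    refine ((comp_finite hk2 hG.1 hgen hk3).image fun c => ⨆ B ∈ c, B).subset ?_
    rintro _ ⟨A, hA, rfl⟩
    exact ⟨_, ⟨⟨A, hA⟩, rfl⟩, rfl⟩
  have hfac0 : ∀ H ∈ S₀, IsFactor G H := by
    rintro _ ⟨A, hA, rfl⟩
    exact compGroup_isFactor hgen hk2 hk3 hG hA
  have hcomm0 : ∀ H ∈ S₀, ∀ K ∈ S₀, H ≠ K → ⁅H, K⁆ = ⊥ := by
    rintro _ ⟨A, -, rfl⟩ _ ⟨B, -, rfl⟩ hne
    exact compGroup_commute hgen hk2 hk3 hG hne
  by_cases hrest : restGroup G = ⊥
  · refine ⟨S₀, hfin, hfac0, hcomm0, fun σ hσ => ?_⟩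
    rcases mem_compGroup_or_rest hgen hk2 hk3 hG hσ with ⟨A, hA, h⟩ | h
    · exact ⟨_, ⟨A, hA, rfl⟩, h⟩
    · have h1 : σ ∈ restGroup G := Subgroup.subset_closure h
      rw [hrest, Subgroup.mem_bot] at h1
      exact absurd (by rw [h1, Units.val_one, sub_self]) (mem_quadraticElements_iff.1 hσ).2.1
  -- an irreducible subspace for the rest
  obtain ⟨m, hm⟩ := hG.1.1
  obtain ⟨V, ⟨hV, hVinv⟩, hVmin⟩ := (wellFounded_lt (α := Submodule k M)).has_min
    {W | W ≠ ⊥ ∧ ∀ g ∈ restGroup G, ∀ v ∈ W, (g : Module.End k M) v ∈ W}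
    ⟨⊤, fun h => hm ((Submodule.mem_bot k).1 (h ▸ Submodule.mem_top)),
      fun _ _ _ _ => Submodule.mem_top⟩
  have hVtop : V ≠ ⊤ := by
    intro htop
    obtain ⟨σ₁, hσ₁⟩ : ∃ σ, σ ∈ quadraticElements G := by
      by_contra hnone
      push Not at hnone
      refine hrest (le_bot_iff.1 ((Subgroup.closure_le ⊥).2 fun σ hσ => absurd hσ.1 (hnone σ)))
    obtain ⟨A, hA⟩ := exists_quadraticRootSubgroup hσ₁
    obtain ⟨a, ha, hAm⟩ := exists_of_mem_quadraticRootSubgroups hA
    refine hVmin (LinearMap.ker a) ⟨fun hk => ?_, fun g hg v hv => ?_⟩ ?_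
    · refine ha.ne (LinearMap.ext fun v => ?_)
      have : a v ∈ LinearMap.ker a :=
        LinearMap.mem_ker.2 (by rw [← Module.End.mul_apply, ha.sq]; rfl)
      rwa [hk, Submodule.mem_bot] at this
    · have h1 := congrArg (fun z : LinearMap.GeneralLinearGroup k M => (z : Module.End k M))
        (restGroup_commute hg (le_iSup_mem hA (onePlus_mem_of_vsp hAm ha.self_mem_vsp)))
      simp only [Units.val_mul, coe_onePlus, add_mul, mul_add, one_mul, mul_one, add_right_inj] at h1
      rw [LinearMap.mem_ker, ← Module.End.mul_apply, h1, Module.End.mul_apply,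
        LinearMap.mem_ker.1 hv, map_zero]
    · rw [htop, lt_top_iff_ne_top]
      exact fun h => ha.ne (LinearMap.ker_eq_top.1 h)
  let ρ : restGroup G →* LinearMap.GeneralLinearGroup k V :=
    MonoidHom.toHomUnits
      { toFun := fun g => ((g : LinearMap.GeneralLinearGroup k M) : Module.End k M).restrict
          fun v hv => hVinv g g.2 v hv
        map_one' := LinearMap.ext fun v => Subtype.ext rfl
        map_mul' := fun g h => LinearMap.ext fun v => Subtype.ext rfl }
  have hρ : ∀ (g : restGroup G) (v : V), (((ρ g : Module.End k V) v : V) : M) =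
      ((g : LinearMap.GeneralLinearGroup k M) : Module.End k M) v := fun g v => rfl
  have hlift : ∀ (g h : restGroup G) (c : k),
      (ρ g : Module.End k V) - 1 = c • ((ρ h : Module.End k V) - 1) →
      ((g : LinearMap.GeneralLinearGroup k M) : Module.End k M) - 1 =
        c • (((h : LinearMap.GeneralLinearGroup k M) : Module.End k M) - 1) := by
    intro g h c hgh
    refine sub_eq_zero.1 (eq_zero_of_commute_vanish hgen hk2 hk3 hG hV hVinv
      (commutesWith_sub_smul hgen hk2 hk3 hG g.2 h.2 c) fun v hv => ?_)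
    have h1 := congrArg (fun z : V => (z : M)) (DFunLike.congr_fun hgh ⟨v, hv⟩)
    simp only [LinearMap.sub_apply, LinearMap.smul_apply, Module.End.one_apply,
      Submodule.coe_sub, Submodule.coe_smul, hρ] at h1
    simp only [LinearMap.sub_apply, LinearMap.smul_apply, Module.End.one_apply, h1, sub_self]
  have hinj : Function.Injective ρ := by
    rw [injective_iff_map_eq_one]
    intro g hg
    have h1 := hlift g 1 0 (by rw [hg, Units.val_one, sub_self, zero_smul])
    rw [zero_smul, sub_eq_zero] at h1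
    exact Subtype.ext (Units.ext h1)
  -- the smaller pair
  have hup : ∀ g : restGroup G, ρ g ∈ quadraticElements ρ.range →
      (g : LinearMap.GeneralLinearGroup k M) ∈ quadraticElements G := by
    intro g hg
    obtain ⟨hsq, hne, hfam⟩ := mem_quadraticElements_iff.1 hg
    refine mem_quadraticElements_iff.2 ⟨?_, fun h0 => hne ?_, fun c => ?_⟩
    · refine eq_zero_of_commute_vanish hgen hk2 hk3 hG hV hVinv (fun e he => ?_) fun v hv => ?_
      · have hc := commutesWith_sub_smul hgen hk2 hk3 hG g.2 (one_mem (restGroup G)) 0 e he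
        rw [zero_smul, sub_zero] at hc
        rw [← mul_assoc, hc, mul_assoc, hc, mul_assoc]
      · exact congrArg (fun z : V => (z : M)) (DFunLike.congr_fun hsq ⟨v, hv⟩)
    · refine LinearMap.ext fun v => Subtype.ext ?_
      exact DFunLike.congr_fun h0 (v : M)
    · obtain ⟨_, ⟨g', rfl⟩, hge⟩ := hfam c
      refine ⟨g', restGroup_le g'.2, ?_⟩
      rw [← hlift g' g c (by rw [hge, add_sub_cancel_left]), add_sub_cancel]
  have hdown : ∀ (σ : LinearMap.GeneralLinearGroup k M) (hσ : σ ∈ quadraticElements G ∩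
      (Subgroup.centralizer ((⨆ A ∈ quadraticRootSubgroups G, A :
          Subgroup (LinearMap.GeneralLinearGroup k M)) : Set (LinearMap.GeneralLinearGroup k M)) :
            Set (LinearMap.GeneralLinearGroup k M))),
      ρ ⟨σ, Subgroup.subset_closure hσ⟩ ∈ quadraticElements ρ.range := by
    intro σ hσ
    obtain ⟨hsq, hne, -⟩ := mem_quadraticElements_iff.1 hσ.1
    refine mem_quadraticElements_iff.2 ⟨?_, fun h0 => hne ?_, fun c => ?_⟩
    · exact LinearMap.ext fun v => Subtype.ext (DFunLike.congr_fun hsq (v : M))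
    · have h1 := hlift ⟨σ, Subgroup.subset_closure hσ⟩ 1 0 (by rw [h0, zero_smul])
      rwa [zero_smul] at h1
    · obtain ⟨g, hg, hge⟩ := onePlus_mem_restGroup hσ.1 hσ.2 c
      refine ⟨ρ ⟨g, hg⟩, ⟨_, rfl⟩, LinearMap.ext fun v => Subtype.ext ?_⟩
      exact DFunLike.congr_fun hge (v : M)
  have hpair : IsQuadraticPair ρ.range := by
    refine ⟨⟨?_, fun W hW => ?_⟩, le_antisymm ((Subgroup.closure_le _).2 fun _ h => h.1) ?_⟩
    · obtain ⟨v, hv, hv0⟩ := Submodule.exists_mem_ne_zero_of_ne_bot hV
      exact ⟨⟨v, hv⟩, fun h => hv0 (congrArg Subtype.val h)⟩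
    · by_cases hW0 : W = ⊥
      · exact Or.inl hW0
      refine Or.inr ?_
      have hle : W.map V.subtype ≤ V := Submodule.map_subtype_le V W
      have heq : W.map V.subtype = V := by
        refine hle.eq_or_lt.resolve_right (hVmin _ ⟨fun h0 => hW0 ?_, ?_⟩)
        · exact Submodule.map_injective_of_injective V.injective_subtype
            (h0.trans (Submodule.map_bot V.subtype).symm)
        · rintro g hg _ ⟨w, hw, rfl⟩
          exact ⟨_, hW _ ⟨⟨g, hg⟩, rfl⟩ w hw, rfl⟩
      exact Submodule.map_injective_of_injective V.injective_subtype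
        (heq.trans (Submodule.map_subtype_top V).symm)
    · have hle : restGroup G ≤ ((Subgroup.closure (quadraticElements ρ.range)).comap ρ).map
          (restGroup G).subtype :=
        (Subgroup.closure_le _).2 fun σ hσ =>
          ⟨⟨σ, Subgroup.subset_closure hσ⟩, Subgroup.subset_closure (hdown σ hσ), rfl⟩
      rintro _ ⟨g, rfl⟩
      obtain ⟨g', hg', e⟩ := hle g.2
      exact (Subtype.ext e : g' = g) ▸ hg'
  obtain ⟨S₁, hfin₁, hfac₁, hcomm₁, hmem₁⟩ :=
    ih V (Submodule.finrank_lt hVtop) ρ.range hpair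
  let pb : Subgroup (LinearMap.GeneralLinearGroup k V) →
      Subgroup (LinearMap.GeneralLinearGroup k M) := fun H =>
    (H.comap ρ).map (restGroup G).subtype
  have hpb : ∀ H, pb H ≤ restGroup G := fun H => Subgroup.map_subtype_le _
  have hmempb : ∀ (H : Subgroup (LinearMap.GeneralLinearGroup k V)) (g : restGroup G),
      (g : LinearMap.GeneralLinearGroup k M) ∈ pb H ↔ ρ g ∈ H := fun H g =>
    Subgroup.mem_map_iff_mem (restGroup G).subtype_injective
  refine ⟨S₀ ∪ pb '' S₁, hfin.union (hfin₁.image _), ?_, ?_, ?_⟩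
  · rintro H (hH | ⟨K, hK, rfl⟩)
    · exact hfac0 H hH
    obtain ⟨hle, hnorm, hqs, hcl⟩ := hfac₁ K hK
    refine ⟨(hpb K).trans restGroup_le, ?_, ?_, le_antisymm ((Subgroup.closure_le _).2 fun _ h => h.2) ?_⟩
    · have hsub : quadraticElements G ⊆
          (Subgroup.normalizer ((pb K : Subgroup (LinearMap.GeneralLinearGroup k M)) :
            Set (LinearMap.GeneralLinearGroup k M)) : Set (LinearMap.GeneralLinearGroup k M)) := by
        intro σ hσ
        rw [SetLike.mem_coe, ← RootSub.conjBy_eq_self_iff]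
        rcases mem_compGroup_or_rest hgen hk2 hk3 hG hσ with ⟨A, -, h⟩ | h
        · have hc : ∀ e ∈ pb K, σ * e * σ⁻¹ = e := fun e he => by
            rw [restGroup_commute (hpb K he) (comp_le h), mul_inv_cancel_right]
          ext e
          rw [RootSub.mem_conjBy]
          constructor
          · intro he
            have h1 := hc _ he
            rw [show σ * (σ⁻¹ * e * σ) * σ⁻¹ = e by group] at h1
            rwa [← h1] at he
          · intro he
            have h1 := hc e he
            rwa [show σ⁻¹ * e * σ = e by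
              rw [mul_inv_eq_iff_eq_mul] at h1
              rw [mul_assoc, ← h1, inv_mul_cancel_left]]
        · have hr : σ ∈ restGroup G := Subgroup.subset_closure h
          have hn := hnorm (ρ ⟨σ, hr⟩) ⟨_, rfl⟩
          ext e
          rw [RootSub.mem_conjBy]
          constructor
          · intro he
            have her : e ∈ restGroup G := by
              have h1 := mul_mem (mul_mem hr (hpb K he)) (inv_mem hr)
              rwa [show σ * (σ⁻¹ * e * σ) * σ⁻¹ = e by group] at h1
            have h1 : ρ ((⟨σ, hr⟩ : restGroup G)⁻¹ * ⟨e, her⟩ * ⟨σ, hr⟩) ∈ K := (hmempb K _).1 he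
            rw [map_mul, map_mul, map_inv, ← RootSub.mem_conjBy, hn] at h1
            exact (hmempb K ⟨e, her⟩).2 h1
          · intro he
            have h1 : ρ ⟨e, hpb K he⟩ ∈ K := (hmempb K _).1 he
            replace h1 := hn.ge h1
            rw [RootSub.mem_conjBy, ← map_inv, ← map_mul, ← map_mul] at h1
            exact (hmempb K _).2 h1
      intro g hg
      exact RootSub.conjBy_eq_self_iff.2 ((hG.2.symm.le.trans ((Subgroup.closure_le _).2 hsub)) hg)
    · have e1 : (K.comap ρ) ≃* pb K :=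
        (K.comap ρ).equivMapOfInjective _ (restGroup G).subtype_injective
      have hKeq : (K.comap ρ).map ρ = K := by
        rw [Subgroup.map_comap_eq, inf_eq_right.2 hle]
      have e2 : (K.comap ρ) ≃* K :=
        ((K.comap ρ).equivMapOfInjective ρ hinj).trans (MulEquiv.subgroupCongr hKeq)
      exact (Components.isQuasisimple_congr (e1.symm.trans e2)).2 hqs
    · intro g hg
      obtain ⟨g', hg', rfl⟩ := hg
      have h1 : K ≤ ((Subgroup.closure (quadraticElements G ∩
          (pb K : Set (LinearMap.GeneralLinearGroup k M)))).comap (restGroup G).subtype).map ρ := by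
        refine hcl.symm.le.trans ((Subgroup.closure_le _).2 ?_)
        rintro τ ⟨hτ, hτK⟩
        obtain ⟨t, rfl⟩ := hτ.1
        exact ⟨t, Subgroup.subset_closure ⟨hup t hτ, (hmempb K t).2 hτK⟩, rfl⟩
      obtain ⟨t, ht, e⟩ := h1 hg'
      exact hinj e ▸ ht
  · have hcross : ∀ A, ∀ H, ⁅compGroup G A, pb H⁆ = ⊥ := fun A H => by
      rw [RootSub.commutator_eq_bot_iff_commute]
      exact fun e he g hg => restGroup_commute (hpb H hg) (comp_le he)
    rintro H (hH | ⟨H', hH', rfl⟩) K (hK | ⟨K', hK', rfl⟩) hne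
    · exact hcomm0 H hH K hK hne
    · obtain ⟨A, -, rfl⟩ := hH
      exact hcross A K'
    · obtain ⟨A, -, rfl⟩ := hK
      rw [Subgroup.commutator_comm]
      exact hcross A H'
    · have h1 := RootSub.commutator_eq_bot_iff_commute.1
        (hcomm₁ H' hH' K' hK' fun e => hne (by rw [e]))
      rw [RootSub.commutator_eq_bot_iff_commute]
      rintro _ ⟨x, hx, rfl⟩ _ ⟨y, hy, rfl⟩
      exact congrArg Subtype.val (hinj (a₁ := x * y) (a₂ := y * x) (by
        rw [map_mul, map_mul]; exact h1 _ hx _ hy))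
  · intro σ hσ
    rcases mem_compGroup_or_rest hgen hk2 hk3 hG hσ with ⟨A, hA, h⟩ | h
    · exact ⟨_, Or.inl ⟨A, hA, rfl⟩, h⟩
    · obtain ⟨H, hH, hmem⟩ := hmem₁ _ (hdown σ h)
      exact ⟨_, Or.inr ⟨H, hH, rfl⟩, (hmempb H ⟨σ, Subgroup.subset_closure h⟩).2 hmem⟩

end main

/-- The central decomposition. -/
theorem hasFactors {k : Type u} [Field k] (hgen : GenProp k) (hk2 : ringChar k ≠ 2)
    (hk3 : Nat.card k ≠ 3) : ∀ (n : ℕ) {M : Type v} [AddCommGroup M] [Module k M]
    [FiniteDimensional k M] {G : Subgroup (LinearMap.GeneralLinearGroup k M)},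
    Module.finrank k M = n → IsQuadraticPair G → HasFactors G := by
  intro n
  induction n using Nat.strong_induction_on with
  | _ n ih =>
    intro M _ _ _ G hn hG
    exact hasFactors_step hgen hk2 hk3 hG fun V hV H hH => ih _ (hn ▸ hV) rfl hH

end Cfsg.Agent.QuadPair
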