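import Cfsg.Agent.Lib.QuadPair.Basic

/-!
If `a`, `b` are minimal in a quadratic pair and `a b + b a` is nilpotent, then `a b a = b a b = 0`.
-/

set_option autoImplicit false
set_option linter.unusedSectionVars false

namespace Cfsg.Agent.QuadPair

open Cfsg

variable {k : Type*} [Field k] {M : Type*} [AddCommGroup M] [Module k M]
variable {G : Subgroup (LinearMap.GeneralLinearGroup k M)}

section words

variable (a b : Module.End k M)

/-- `span {a, b}`. -/
def lin : Submodule k (Module.End k M) := Submodule.span k {a, b}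

/-- The span of the words in `a`, `b` of length at least `n`. -/
def words (n : ℕ) : Submodule k (Module.End k M) := ⨆ j : ℕ, lin a b ^ (n + j)

variable {a b}

theorem pow_le_words {n j : ℕ} (h : n ≤ j) : lin a b ^ j ≤ words a b n := by
  obtain ⟨i, rfl⟩ := Nat.exists_eq_add_of_le h
  exact le_iSup (fun i : ℕ => lin a b ^ (n + i)) i

theorem words_anti {m n : ℕ} (h : m ≤ n) : words a b n ≤ words a b m :=
  iSup_le fun j => pow_le_words (h.trans (Nat.le_add_right n j))

theorem mul_mem_words {m n : ℕ} {x y : Module.End k M} (hx : x ∈ words a b m)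
    (hy : y ∈ words a b n) : x * y ∈ words a b (m + n) := by
  have h : words a b m * words a b n ≤ words a b (m + n) := by
    rw [words, words, Submodule.iSup_mul]
    refine iSup_le fun i => ?_
    rw [Submodule.mul_iSup]
    refine iSup_le fun j => ?_
    rw [← pow_add]
    exact pow_le_words (by omega)
  exact h (Submodule.mul_mem_mul hx hy)

theorem left_mem_words : a ∈ words a b 1 :=
  pow_le_words le_rfl (by rw [pow_one]; exact Submodule.subset_span (Set.mem_insert _ _))

theorem right_mem_words : b ∈ words a b 1 :=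
  pow_le_words le_rfl
    (by rw [pow_one]; exact Submodule.subset_span (Set.mem_insert_of_mem _ rfl))

theorem words_eq {n N : ℕ} (hN : ∀ j, N ≤ j → lin a b ^ j = ⊥) (hn : N ≤ n + 1) :
    words a b n ≤ lin a b ^ n := by
  refine iSup_le fun j => ?_
  rcases Nat.eq_zero_or_pos j with rfl | hj
  · rw [add_zero]
  · rw [hN _ (by omega)]
    exact bot_le

theorem z_comm_left (ha : a * a = 0) : (a * b + b * a) * a = a * (a * b + b * a) := by
  rw [add_mul, mul_add, mul_assoc b a a, ha, mul_zero, add_zero, ← mul_assoc a a b, ha, zero_mul,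
    zero_add, mul_assoc]

theorem z_comm_right (hb : b * b = 0) : (a * b + b * a) * b = b * (a * b + b * a) := by
  rw [add_mul, mul_add, mul_assoc a b b, hb, mul_zero, zero_add, ← mul_assoc b b a, hb, zero_mul,
    add_zero, mul_assoc]

theorem aba (ha : a * a = 0) : a * b * a = (a * b + b * a) * a := by
  rw [add_mul, mul_assoc b a a, ha, mul_zero, add_zero]

theorem bab (hb : b * b = 0) : b * a * b = (a * b + b * a) * b := by
  rw [add_mul, mul_assoc a b b, hb, mul_zero, zero_add]

theorem z_pow_comm {x z : Module.End k M} (h : z * x = x * z) (i : ℕ) : z ^ i * x = x * z ^ i :=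
  (Commute.pow_left (show Commute z x from h) i).eq

/-- The shape of the words of a given length. -/
theorem lin_pow_le (ha : a * a = 0) (hb : b * b = 0) (i : ℕ) :
    lin a b ^ (2 * i + 1) ≤
        Submodule.span k {(a * b + b * a) ^ i * a, (a * b + b * a) ^ i * b} ∧
      lin a b ^ (2 * i + 2) ≤
        Submodule.span k {(a * b + b * a) ^ i * (a * b), (a * b + b * a) ^ i * (b * a)} := by
  set z := a * b + b * a with hz
  have step : ∀ i, lin a b ^ (2 * i + 1) ≤ Submodule.span k {z ^ i * a, z ^ i * b} →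
      lin a b ^ (2 * i + 2) ≤ Submodule.span k {z ^ i * (a * b), z ^ i * (b * a)} := by
    intro i hi
    rw [show 2 * i + 2 = 2 * i + 1 + 1 by omega, pow_succ]
    refine (mul_le_mul' hi le_rfl).trans ?_
    rw [lin, Submodule.span_mul_span, Submodule.span_le]
    rintro _ ⟨x, hx, y, hy, rfl⟩
    rcases hx with rfl | rfl <;> rcases hy with rfl | rfl
    · show z ^ i * y * y ∈ _
      rw [mul_assoc, ha, mul_zero]
      exact Submodule.zero_mem _
    · show z ^ i * a * y ∈ _
      rw [mul_assoc]
      exact Submodule.subset_span (Set.mem_insert _ _)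
    · show z ^ i * b * y ∈ _
      rw [mul_assoc]
      exact Submodule.subset_span (Set.mem_insert_of_mem _ rfl)
    · show z ^ i * y * y ∈ _
      rw [mul_assoc, hb, mul_zero]
      exact Submodule.zero_mem _
  induction i with
  | zero =>
    have h0 : lin a b ^ (2 * 0 + 1) ≤ Submodule.span k {z ^ 0 * a, z ^ 0 * b} := by
      rw [pow_one, pow_zero, one_mul, one_mul]
      exact le_rfl
    exact ⟨h0, step 0 h0⟩
  | succ i ih =>
    have h1 : lin a b ^ (2 * (i + 1) + 1) ≤
        Submodule.span k {z ^ (i + 1) * a, z ^ (i + 1) * b} := by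
      rw [show 2 * (i + 1) + 1 = 2 * i + 2 + 1 by omega, pow_succ (lin a b)]
      refine (mul_le_mul' ih.2 le_rfl).trans ?_
      rw [lin, Submodule.span_mul_span, Submodule.span_le]
      rintro _ ⟨x, hx, y, hy, rfl⟩
      rcases hx with rfl | rfl <;> rcases hy with rfl | rfl
      · show z ^ i * (y * b) * y ∈ _
        rw [mul_assoc, aba ha, ← mul_assoc, ← hz, ← pow_succ]
        exact Submodule.subset_span (Set.mem_insert _ _)
      · show z ^ i * (a * y) * y ∈ _
        rw [mul_assoc, mul_assoc a y y, hb, mul_zero, mul_zero]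
        exact Submodule.zero_mem _
      · show z ^ i * (b * y) * y ∈ _
        rw [mul_assoc, mul_assoc b y y, ha, mul_zero, mul_zero]
        exact Submodule.zero_mem _
      · show z ^ i * (y * a) * y ∈ _
        rw [mul_assoc, bab hb, ← mul_assoc, ← hz, ← pow_succ]
        exact Submodule.subset_span (Set.mem_insert_of_mem _ rfl)
    exact ⟨h1, step _ h1⟩

end words

section lead

variable {a b : Module.End k M}

/-- Some `g ∈ G` has `g - 1` in the words of length `n` with leading term `x`. -/
def Lead (G : Subgroup (LinearMap.GeneralLinearGroup k M)) (a b : Module.End k M) (n : ℕ)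
    (x : Module.End k M) : Prop :=
  ∃ g ∈ G, (g : Module.End k M) - 1 ∈ words a b n ∧
    ((g⁻¹ : LinearMap.GeneralLinearGroup k M) : Module.End k M) - 1 ∈ words a b n ∧
    (g : Module.End k M) - 1 - x ∈ words a b (n + 1)

theorem commutator_sub_one (g h : LinearMap.GeneralLinearGroup k M) :
    ((g * h * g⁻¹ * h⁻¹ : LinearMap.GeneralLinearGroup k M) : Module.End k M) - 1 =
      (((g : Module.End k M) - 1) * ((h : Module.End k M) - 1) -
        ((h : Module.End k M) - 1) * ((g : Module.End k M) - 1)) *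
      ((g⁻¹ * h⁻¹ : LinearMap.GeneralLinearGroup k M) : Module.End k M) := by
  have e1 : ((g : Module.End k M) - 1) * ((h : Module.End k M) - 1) -
      ((h : Module.End k M) - 1) * ((g : Module.End k M) - 1) =
      ((g * h : LinearMap.GeneralLinearGroup k M) : Module.End k M) -
        ((h * g : LinearMap.GeneralLinearGroup k M) : Module.End k M) := by
    rw [Units.val_mul, Units.val_mul]
    noncomm_ring
  rw [e1, sub_mul, ← Units.val_mul, ← Units.val_mul, show h * g * (g⁻¹ * h⁻¹) = 1 by group,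
    Units.val_one, mul_assoc (g * h)]

theorem mul_mem_words_of_sub {n : ℕ} {u : LinearMap.GeneralLinearGroup k M} {x : Module.End k M}
    (hx : x ∈ words a b n) (hu : (u : Module.End k M) - 1 ∈ words a b 1) :
    x * (u : Module.End k M) - x ∈ words a b (n + 1) := by
  rw [show x * (u : Module.End k M) - x = x * ((u : Module.End k M) - 1) by noncomm_ring]
  exact mul_mem_words hx hu

theorem Lead.step {n : ℕ} {x c : Module.End k M} (hx : Lead G a b n x) (hn : 1 ≤ n)
    (hc : c * c = 0) (hcf : Fam G c) (hcw : c ∈ words a b 1) :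
    Lead G a b (n + 1) (x * c - c * x) := by
  obtain ⟨g, hgG, hg, hgi, hgx⟩ := hx
  set h := onePlus c hc with hh
  have hhG : h ∈ G := hcf.mem.onePlus_mem hc
  have eh : (h : Module.End k M) - 1 = c := add_sub_cancel_left 1 c
  have ehi : ((h⁻¹ : LinearMap.GeneralLinearGroup k M) : Module.End k M) - 1 = -c :=
    sub_sub_cancel_left 1 c
  have hmul : ∀ u v : LinearMap.GeneralLinearGroup k M, (u : Module.End k M) - 1 ∈ words a b 1 →
      (v : Module.End k M) - 1 ∈ words a b 1 →
      ((u * v : LinearMap.GeneralLinearGroup k M) : Module.End k M) - 1 ∈ words a b 1 := by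
    intro u v hu hv
    rw [show ((u * v : LinearMap.GeneralLinearGroup k M) : Module.End k M) - 1 =
      ((u : Module.End k M) - 1) * ((v : Module.End k M) - 1) + ((u : Module.End k M) - 1) +
        ((v : Module.End k M) - 1) by rw [Units.val_mul]; noncomm_ring]
    exact add_mem (add_mem (words_anti (by omega) (mul_mem_words hu hv)) hu) hv
  have hhi : ((h⁻¹ : LinearMap.GeneralLinearGroup k M) : Module.End k M) - 1 ∈ words a b 1 := by
    rw [ehi]; exact neg_mem hcw
  have hgi1 := words_anti hn hgi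
  have hu1 := hmul _ _ hgi1 hhi
  have hu2 := hmul _ _ hhi hgi1
  set y := (g : Module.End k M) - 1 with hy
  have hY : y * c - c * y ∈ words a b (n + 1) :=
    sub_mem (mul_mem_words hg hcw) (add_comm 1 n ▸ mul_mem_words hcw hg)
  have hY' : c * y - y * c ∈ words a b (n + 1) := by
    rw [← neg_sub]; exact neg_mem hY
  refine ⟨g * h * g⁻¹ * h⁻¹, G.mul_mem (G.mul_mem (G.mul_mem hgG hhG) (G.inv_mem hgG))
    (G.inv_mem hhG), ?_, ?_, ?_⟩
  · rw [commutator_sub_one, eh, ← hy]
    have h1 := mul_mem_words_of_sub hY hu1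
    have h2 := add_mem (words_anti (Nat.le_succ _) h1) hY
    rwa [sub_add_cancel] at h2
  · rw [show (g * h * g⁻¹ * h⁻¹)⁻¹ = h * g * h⁻¹ * g⁻¹ by group, commutator_sub_one, eh, ← hy]
    have h1 := mul_mem_words_of_sub hY' hu2
    have h2 := add_mem (words_anti (Nat.le_succ _) h1) hY'
    rwa [sub_add_cancel] at h2
  · rw [commutator_sub_one, eh, ← hy]
    have h1 := mul_mem_words_of_sub hY hu1
    have h3 : (y - x) * c - c * (y - x) ∈ words a b (n + 1 + 1) :=
      sub_mem (mul_mem_words hgx hcw) (add_comm 1 (n + 1) ▸ mul_mem_words hcw hgx)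
    convert add_mem h1 h3 using 1
    noncomm_ring

theorem Lead.base (ha : a * a = 0) (haf : Fam G a) : Lead G a b 1 a := by
  refine ⟨onePlus a ha, haf.mem.onePlus_mem ha, ?_, ?_, ?_⟩
  · rw [coe_onePlus, add_sub_cancel_left]; exact left_mem_words
  · rw [coe_onePlus_inv, sub_sub_cancel_left]; exact neg_mem left_mem_words
  · rw [coe_onePlus, add_sub_cancel_left, sub_self]; exact Submodule.zero_mem _

/-- Leading terms of iterated commutators. -/
theorem exists_lead (h2 : (2 : k) ≠ 0) (ha : a * a = 0) (hb : b * b = 0) (haf : Fam G a)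
    (hbf : Fam G b) (j : ℕ) :
    ∃ t : k, t ≠ 0 ∧
      Lead G a b (2 * j + 2) (t • ((a * b + b * a) ^ j * (a * b - b * a))) := by
  set z := a * b + b * a with hz
  induction j with
  | zero =>
    refine ⟨1, one_ne_zero, ?_⟩
    rw [one_smul, pow_zero, one_mul]
    exact (Lead.base ha haf).step le_rfl hb hbf right_mem_words
  | succ j ih =>
    obtain ⟨t, ht, hl⟩ := ih
    refine ⟨t * 2, mul_ne_zero ht h2, ?_⟩
    have h1 := hl.step (by omega) ha haf left_mem_words
    have za : z * a = a * z := z_comm_left ha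
    have e1 : t • (z ^ j * (a * b - b * a)) * a - a * t • (z ^ j * (a * b - b * a)) =
        (t * 2) • (z ^ (j + 1) * a) := by
      rw [smul_mul_assoc, mul_smul_comm, ← smul_sub, mul_smul, pow_succ, mul_assoc (z ^ j) z a,
        mul_assoc (z ^ j) _ a, ← mul_assoc a (z ^ j), ← z_pow_comm za j, mul_assoc (z ^ j) a,
        ← mul_sub]
      congr 1
      rw [← mul_smul_comm, two_smul]
      congr 1
      rw [sub_mul, mul_sub, mul_assoc b a a, ha, mul_zero, sub_zero, ← mul_assoc a a b, ha,
        zero_mul, zero_sub, sub_neg_eq_add, ← mul_assoc a b a, hz, ← aba ha]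
    rw [e1] at h1
    have h3 := h1.step (by omega) hb hbf right_mem_words
    have zb : z * b = b * z := z_comm_right hb
    have e2 : (t * 2) • (z ^ (j + 1) * a) * b - b * (t * 2) • (z ^ (j + 1) * a) =
        (t * 2) • (z ^ (j + 1) * (a * b - b * a)) := by
      rw [smul_mul_assoc, mul_smul_comm, ← smul_sub, ← mul_assoc b (z ^ (j + 1)),
        ← z_pow_comm zb (j + 1), mul_assoc, mul_assoc, ← mul_sub]
    rw [e2] at h3
    exact h3

end lead

/-- The top word yields an element of too small rank. -/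
theorem false_of_top [FiniteDimensional k M] (h2 : (2 : k) ≠ 0) {a b : Module.End k M}
    (ha : IsMin G a) (hb : b * b = 0) (hbf : Fam G b) {m : ℕ}
    (htop : (a * b + b * a) ^ (m + 1) * a ≠ 0) (hta : (a * b + b * a) ^ (m + 2) * a = 0)
    (htb : (a * b + b * a) ^ (m + 2) * b = 0) (hz : IsNilpotent (a * b + b * a)) : False := by
  set z := a * b + b * a with hzdef
  have hN : ∀ j, 2 * m + 5 ≤ j → lin a b ^ j = ⊥ := by
    have h5 : lin a b ^ (2 * (m + 2) + 1) = ⊥ := by
      refine eq_bot_iff.2 ((lin_pow_le ha.sq hb (m + 2)).1.trans ?_)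
      rw [← hzdef, hta, htb]
      simp
    intro j hj
    obtain ⟨i, rfl⟩ := Nat.exists_eq_add_of_le hj
    rw [pow_add, show 2 * m + 5 = 2 * (m + 2) + 1 by omega, h5, Submodule.bot_mul]
  have hzero : ∀ {x : Module.End k M} {n : ℕ}, x ∈ words a b n → 2 * m + 5 ≤ n → x = 0 := by
    intro x n hx hn
    have h1 : words a b n ≤ ⊥ := iSup_le fun j => (hN _ (by omega)).le
    exact (Submodule.mem_bot k).1 (h1 hx)
  obtain ⟨t, ht, g, hgG, hg, hgi, hgx⟩ := exists_lead h2 ha.sq hb ha.fam hbf m
  set y := (g : Module.End k M) - 1 with hy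
  set x := t • (z ^ m * (a * b - b * a)) with hxdef
  set gi := ((g⁻¹ : LinearMap.GeneralLinearGroup k M) : Module.End k M) with hgidef
  have haw : a ∈ words a b 1 := left_mem_words
  have hY : y * a - a * y ∈ words a b (2 * m + 3) :=
    sub_mem (mul_mem_words (m := 2 * m + 2) (n := 1) hg haw)
      (add_comm 1 (2 * m + 2) ▸ mul_mem_words haw hg)
  set A := (y * a - a * y) * gi with hA
  set B := -(A * a) with hB
  have hgi1 : gi - 1 ∈ words a b 1 := words_anti (by omega) hgi
  have hAw : A ∈ words a b (2 * m + 3) := by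
    have h1 := add_mem (words_anti (Nat.le_succ _) (mul_mem_words_of_sub hY hgi1)) hY
    rwa [sub_add_cancel] at h1
  have hBw : B ∈ words a b (2 * m + 4) := neg_mem (mul_mem_words (m := 2 * m + 3) (n := 1) hAw haw)
  have hprod : ∀ u v : Module.End k M, u ∈ words a b (2 * m + 3) → v ∈ words a b (2 * m + 3) →
      u * v = 0 := fun u v hu hv => hzero (mul_mem_words hu hv) (by omega)
  have hBw' := words_anti (by omega : 2 * m + 3 ≤ 2 * m + 4) hBw
  have hQ : ∀ c : k, Mem G (c • A + c ^ 2 • B) := by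
    intro c
    have hc := smul_sq ha.sq c
    refine ⟨g * onePlus _ hc * g⁻¹ * (onePlus _ hc)⁻¹, G.mul_mem (G.mul_mem (G.mul_mem hgG
      ((ha.fam c).onePlus_mem hc)) (G.inv_mem hgG)) (G.inv_mem ((ha.fam c).onePlus_mem hc)), ?_⟩
    rw [← sub_eq_iff_eq_add', commutator_sub_one, coe_onePlus, add_sub_cancel_left, ← hy,
      Units.val_mul, coe_onePlus_inv, ← hgidef, hB, hA]
    simp only [mul_smul_comm, smul_mul_assoc, smul_neg, ← smul_sub, mul_sub, mul_one,
      mul_assoc, sub_mul, smul_smul, pow_two]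
    abel
  have : NeZero (2 : k) := ⟨h2⟩
  have hAf : Fam G A := by
    intro c
    have hB0 : (-((c / 2) • A) + (c / 2) ^ 2 • B) * (-((c / 2) • A) + (c / 2) ^ 2 • B) = 0 :=
      hprod _ _ (add_mem (neg_mem (Submodule.smul_mem _ _ hAw)) (Submodule.smul_mem _ _ hBw'))
        (add_mem (neg_mem (Submodule.smul_mem _ _ hAw)) (Submodule.smul_mem _ _ hBw'))
    obtain ⟨g₁, hg₁, e₁⟩ := hQ (c / 2)
    obtain ⟨g₂, hg₂, e₂⟩ := hQ (-(c / 2))
    rw [neg_sq, neg_smul] at e₂
    refine ⟨g₁ * g₂⁻¹, G.mul_mem hg₁ (G.inv_mem hg₂), ?_⟩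
    have e₂' : g₂ = onePlus _ hB0 := Units.ext e₂
    rw [Units.val_mul, e₁, e₂', coe_onePlus_inv]
    have e3 : ((c / 2) • A + (c / 2) ^ 2 • B) * (-((c / 2) • A) + (c / 2) ^ 2 • B) = 0 :=
      hprod _ _ (add_mem (Submodule.smul_mem _ _ hAw) (Submodule.smul_mem _ _ hBw'))
        (add_mem (neg_mem (Submodule.smul_mem _ _ hAw)) (Submodule.smul_mem _ _ hBw'))
    rw [mul_sub (1 + _), mul_one, add_mul, one_mul, e3, add_zero,
      show c • A = (c / 2) • A + (c / 2) • A by rw [← add_smul, add_halves]]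
    abel
  set L := (t * 2) • (z ^ (m + 1) * a) with hLdef
  have za : z * a = a * z := z_comm_left ha.sq
  have hlead : x * a - a * x = L := by
    rw [hxdef, hLdef, smul_mul_assoc, mul_smul_comm, ← smul_sub, mul_smul, pow_succ,
      mul_assoc (z ^ m) z a, mul_assoc (z ^ m) _ a, ← mul_assoc a (z ^ m), ← z_pow_comm za m,
      mul_assoc (z ^ m) a, ← mul_sub]
    congr 1
    rw [← mul_smul_comm, two_smul]
    congr 1
    rw [sub_mul, mul_sub, mul_assoc b a a, ha.sq, mul_zero, sub_zero, ← mul_assoc a a b, ha.sq,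
      zero_mul, zero_sub, sub_neg_eq_add, ← mul_assoc a b a, hzdef, ← aba ha.sq]
  have hAL : A - L ∈ words a b (2 * m + 4) := by
    have h1 := mul_mem_words_of_sub hY hgi1
    have h3 : (y - x) * a - a * (y - x) ∈ words a b (2 * m + 4) :=
      sub_mem (mul_mem_words (m := 2 * m + 3) (n := 1) hgx haw)
        (add_comm 1 (2 * m + 3) ▸ mul_mem_words haw hgx)
    rw [← hlead]
    convert add_mem h1 h3 using 1
    rw [hA]
    noncomm_ring
  have hspan : words a b (2 * m + 4) ≤
      Submodule.span k {z ^ (m + 1) * (a * b), z ^ (m + 1) * (b * a)} := by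
    refine (words_eq hN (le_refl _)).trans ?_
    rw [show 2 * m + 4 = 2 * (m + 1) + 2 by omega]
    exact (lin_pow_le ha.sq hb (m + 1)).2
  obtain ⟨α, β, hαβ⟩ := Submodule.mem_span_pair.1 (hspan hAL)
  have hs : t * 2 ≠ 0 := mul_ne_zero ht h2
  set W := z ^ (m + 1) * a with hW
  have zb : z * b = b * z := z_comm_right hb
  have hWb : z ^ (m + 1) * (a * b) = W * b := (mul_assoc ..).symm
  have hbW : z ^ (m + 1) * (b * a) = b * W := by
    rw [hW, ← mul_assoc, ← mul_assoc, z_pow_comm zb]
  have hbWb : b * W * b = 0 := by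
    rw [← hbW, mul_assoc, bab hb, ← mul_assoc, ← hzdef, ← pow_succ]
    exact htb
  rw [hWb, hbW] at hαβ
  set α' := α / (t * 2)
  set β' := β / (t * 2)
  have hfac : A = (1 + β' • b) * L * (1 + α' • b) := by
    have e : A = L + (α • (W * b) + β • (b * W)) := by rw [hαβ, add_sub_cancel]
    rw [e, hLdef]
    have eα : α = t * 2 * α' := (mul_div_cancel₀ α hs).symm
    have eβ : β = t * 2 * β' := (mul_div_cancel₀ β hs).symm
    rw [eα, eβ]
    simp only [add_mul, mul_add, one_mul, mul_one, smul_mul_assoc, mul_smul_comm, smul_smul,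
      hbWb, smul_zero, add_zero]
    module
  have hA0 : A ≠ 0 := by
    intro h0
    have e : (1 - β' • b) * A * (1 - α' • b) = L := by
      have e1 : (1 - β' • b) * (1 + β' • b) = 1 := by
        rw [sub_mul, one_mul, mul_add, mul_one, smul_sq hb, add_zero, add_sub_cancel_right]
      have e2 : (1 + α' • b) * (1 - α' • b) = 1 := by
        rw [add_mul, one_mul, mul_sub, mul_one, smul_sq hb, sub_zero, sub_add_cancel]
      rw [hfac, mul_assoc _ L, ← mul_assoc (1 - β' • b), e1, one_mul, mul_assoc, e2, mul_one]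
    rw [h0, mul_zero, zero_mul, hLdef, eq_comm, smul_eq_zero] at e
    exact htop (e.resolve_left hs)
  have h1 := ha.le_rank A (hprod A A hAw hAw) hA0 hAf
  have hWle : LinearMap.range W ≤ LinearMap.range a := by
    rw [hW, z_pow_comm za]
    rintro _ ⟨v, rfl⟩
    exact ⟨_, rfl⟩
  have hWne : LinearMap.range W ≠ LinearMap.range a := by
    intro he
    obtain ⟨N, hNz⟩ := hz
    have hpow : ∀ v, ∀ i, ∃ w, (z ^ ((m + 1) * i)) (a w) = a v := by
      intro v i
      induction i with
      | zero => exact ⟨v, by rw [mul_zero, pow_zero]; rfl⟩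
      | succ i ih =>
        obtain ⟨w, hw⟩ := ih
        obtain ⟨w', hw'⟩ := he.ge ⟨w, rfl⟩
        refine ⟨w', ?_⟩
        rw [Nat.mul_succ, pow_add, Module.End.mul_apply, ← Module.End.mul_apply (z ^ (m + 1)) a]
        rw [← hW, hw', hw]
    apply ha.ne
    ext v
    obtain ⟨w, hw⟩ := hpow v N
    rw [← hw, mul_comm, pow_mul, hNz, zero_pow (Nat.succ_ne_zero m)]
    rfl
  have h3 : Module.finrank k (LinearMap.range A) ≤ Module.finrank k (LinearMap.range W) := by
    rw [hfac, hLdef, mul_smul_comm, smul_mul_assoc, LinearMap.range_smul _ _ hs]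
    refine le_trans (Submodule.finrank_mono ?_)
      (Submodule.finrank_map_le (1 + β' • b) (LinearMap.range W))
    rintro _ ⟨v, rfl⟩
    exact ⟨_, ⟨_, rfl⟩, rfl⟩
  exact absurd (h1.trans h3)
    (not_le.2 (Submodule.finrank_lt_finrank_of_lt (lt_of_le_of_ne hWle hWne)))

/-- `a b + b a` nilpotent forces `a b a = b a b = 0`. -/
theorem mul_self_eq_zero_of_nilpotent [FiniteDimensional k M] (h2 : (2 : k) ≠ 0)
    {a b : Module.End k M} (ha : IsMin G a) (hb : IsMin G b)
    (hz : IsNilpotent (a * b + b * a)) : a * b * a = 0 ∧ b * a * b = 0 := by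
  classical
  set z := a * b + b * a with hzdef
  rw [aba ha.sq, bab hb.sq, ← hzdef]
  by_contra hne
  obtain ⟨N, hN⟩ := hz
  have hex : ∃ i, z ^ i * a = 0 ∧ z ^ i * b = 0 := ⟨N, by simp [hN], by simp [hN]⟩
  set i := Nat.find hex with hi
  have hspec := Nat.find_spec hex
  rw [← hi] at hspec
  have h1 : 1 < i := by
    by_contra hle
    interval_cases i
    · rw [pow_zero, one_mul, one_mul] at hspec
      exact ha.ne hspec.1
    · rw [pow_one] at hspec
      exact hne hspec
  obtain ⟨m, hm⟩ : ∃ m, i = m + 2 := ⟨i - 2, by omega⟩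
  rw [hm] at hspec
  have hmin : ¬ (z ^ (m + 1) * a = 0 ∧ z ^ (m + 1) * b = 0) := Nat.find_min hex (by omega)
  by_cases htop : z ^ (m + 1) * a = 0
  · have htop' : z ^ (m + 1) * b ≠ 0 := fun h => hmin ⟨htop, h⟩
    have e : b * a + a * b = z := add_comm _ _
    exact false_of_top h2 hb ha.sq ha.fam (m := m) (by rw [e]; exact htop') (by rw [e]; exact hspec.2)
      (by rw [e]; exact hspec.1) ⟨N, by rw [e]; exact hN⟩
  · exact false_of_top h2 ha hb.sq hb.fam htop hspec.1 hspec.2 ⟨N, hN⟩

end Cfsg.Agent.QuadPair
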