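import Cfsg.Agent.Lib.QuadPair.Groups
import Cfsg.Agent.Lib.QuadPair.SL2Finite

/-!
Two members of `Σ`: they commute, or are in the commutator case, or are the unipotent subgroups of
a special rank one group with a central involution `1 - 2 π`.
-/

set_option autoImplicit false
set_option linter.unusedSectionVars false

universe u v

namespace Cfsg.Agent.QuadPair

open Cfsg
open scoped commutatorElement

variable {k : Type u} [Field k] {M : Type v} [AddCommGroup M] [Module k M]
variable {G : Subgroup (LinearMap.GeneralLinearGroup k M)}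

/-- `A` is `1 + vsp G a`. -/
def IsRootOf (G A : Subgroup (LinearMap.GeneralLinearGroup k M)) (a : Module.End k M) : Prop :=
  ∀ g : LinearMap.GeneralLinearGroup k M, g ∈ A ↔ (g : Module.End k M) - 1 ∈ vsp G a

variable [FiniteDimensional k M]

theorem IsRootOf.commute {A : Subgroup (LinearMap.GeneralLinearGroup k M)} {a : Module.End k M}
    (hA : IsRootOf G A a) {g h : LinearMap.GeneralLinearGroup k M} (hg : g ∈ A) (hh : h ∈ A) :
    g * h = h * g :=
  (commute_iff_sub_one g h).2 (by
    rw [mul_eq_zero_of_mem_vsp ((hA g).1 hg) ((hA h).1 hh),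
      mul_eq_zero_of_mem_vsp ((hA h).1 hh) ((hA g).1 hg)])

theorem IsRootOf.isUnipotentOn {A : Subgroup (LinearMap.GeneralLinearGroup k M)}
    {a : Module.End k M} (hA : IsRootOf G A a) : IsUnipotentOn A := by
  refine RootSubgroups.UnipotentJoin.isUnipotentOn_of_le (V := vsp G a) ?_ (n := 2) ?_
  · rw [RootSubgroups.UnipotentJoin.disp, Submodule.span_le]
    rintro _ ⟨g, hg, rfl⟩
    exact (hA g).1 hg
  · rw [pow_two]
    exact eq_bot_iff.2 (Submodule.mul_le.2 fun x hx y hy =>
      (Submodule.mem_bot k).2 (mul_eq_zero_of_mem_vsp hx hy))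

theorem IsRootOf.le_centralizer (h2 : (2 : k) ≠ 0)
    {A B : Subgroup (LinearMap.GeneralLinearGroup k M)} {a b : Module.End k M} (ha : IsMin G a)
    (hb : IsMin G b) (hA : IsRootOf G A a) (hB : IsRootOf G B b) (hc : a * b = b * a) :
    B ≤ Subgroup.centralizer (A : Set (LinearMap.GeneralLinearGroup k M)) := fun f hf =>
  Subgroup.mem_centralizer_iff.2 fun e he => (commute_iff_sub_one e f).2
    (commute_all h2 ha hb ha.self_mem_vsp ha.ne hb.self_mem_vsp hb.ne hc ((hA e).1 he)
      ((hB f).1 hf))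

theorem isRootOf_sameAction {σ : LinearMap.GeneralLinearGroup k M}
    (hσ : σ ∈ minimalQuadraticElements G) :
    IsRootOf G (sameActionSubgroup G σ) ((σ : Module.End k M) - 1) := fun _ =>
  mem_sameActionSubgroup_iff (mem_minimal_iff.1 hσ)

theorem isRootOf_conjBy {A : Subgroup (LinearMap.GeneralLinearGroup k M)} {a : Module.End k M}
    (hA : IsRootOf G A a) (ha : a * a = 0) {h : LinearMap.GeneralLinearGroup k M} (hh : h ∈ G) :
    IsRootOf G (conjBy A h) (cj h a) := by
  intro g
  show g ∈ Subgroup.map (MulAut.conj h).toMonoidHom A ↔ _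
  rw [Subgroup.mem_map_equiv]
  refine (hA _).trans ?_
  rw [← cj_mem_vsp_iff hh ha]
  show cj h (((h⁻¹ * g * h : LinearMap.GeneralLinearGroup k M) : Module.End k M) - 1) ∈ _ ↔ _
  rw [cj_sub_one]
  simp only [mul_assoc, mul_inv_cancel, mul_one, mul_inv_cancel_left]

theorem IsRootOf.ext {A B : Subgroup (LinearMap.GeneralLinearGroup k M)} {a b : Module.End k M}
    (hA : IsRootOf G A a) (hB : IsRootOf G B b) (h : vsp G a = vsp G b) : A = B :=
  Subgroup.ext fun g => by rw [hA, hB, h]

section opposite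

variable {a b : Module.End k M} {A B : Subgroup (LinearMap.GeneralLinearGroup k M)}

theorem bab_ne_zero (h2 : (2 : k) ≠ 0) (ha : IsMin G a) (hb : IsMin G b) (h : a * b * a ≠ 0) :
    b * a * b ≠ 0 := fun h' => h (bab_of_aba h2 hb ha h')

theorem coe_inv_of_vsp {g : LinearMap.GeneralLinearGroup k M} {c : Module.End k M}
    (h : (g : Module.End k M) - 1 ∈ vsp G c) :
    ((g⁻¹ : LinearMap.GeneralLinearGroup k M) : Module.End k M) =
      1 - ((g : Module.End k M) - 1) := by
  have h0 := mul_eq_zero_of_mem_vsp h h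
  conv_lhs => rw [eq_onePlus_sub_one h0]
  rw [coe_onePlus_inv]

theorem cj_inv_of_vsp {g : LinearMap.GeneralLinearGroup k M} {c : Module.End k M}
    (h : (g : Module.End k M) - 1 ∈ vsp G c) (x : Module.End k M) :
    cj g⁻¹ x = (1 - ((g : Module.End k M) - 1)) * x * (1 + ((g : Module.End k M) - 1)) := by
  rw [cj, inv_inv, coe_inv_of_vsp h, add_sub_cancel]

theorem rankOneCondition_of_opp (hgen : GenProp k) (hk2 : ringChar k ≠ 2) (hk3 : Nat.card k ≠ 3)
    (ha : IsMin G a) (hb : IsMin G b) (h : a * b * a ≠ 0) (hA : IsRootOf G A a)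
    (hB : IsRootOf G B b) : RankOneCondition A B := by
  have h2 := two_ne_zero_of_ringChar hk2
  intro e he he1
  have hx := (hA e).1 he
  set x := (e : Module.End k M) - 1 with hxdef
  have hx0 : x ≠ 0 := sub_one_ne_zero he1
  obtain ⟨hxm, -, -⟩ := ha.of_mem_vsp hx hx0
  obtain ⟨y, hy, hy0, e1, e2⟩ := exists_inv hgen hk2 hk3 hxm hb
    (aba_ne_zero_of_vsp h2 ha hb h hx hx0 hb.self_mem_vsp hb.ne)
  obtain ⟨hym, -, -⟩ := hb.of_mem_vsp hy hy0
  set f := onePlus y hym.sq with hfdef
  have hf : f ∈ B := onePlus_mem_of_vsp hB hy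
  have hfy : (f : Module.End k M) - 1 = y := add_sub_cancel_left 1 y
  refine ⟨f, hf, fun h1 => hy0 (by rw [← hfy, h1, Units.val_one, sub_self]), ?_⟩
  have hfG : f⁻¹ ∈ G := G.inv_mem (mem_G_of_vsp ((hB f).1 hf))
  have heG : e⁻¹ ∈ G := G.inv_mem (mem_G_of_vsp hx)
  refine (isRootOf_conjBy hA ha.sq hfG).ext (isRootOf_conjBy hB hb.sq heG) ?_
  have hne : ∀ (g : LinearMap.GeneralLinearGroup k M) (z : Module.End k M), z ≠ 0 → cj g z ≠ 0 :=
    fun g z hz h' => hz (cj_injective g (h'.trans (cj_zero g).symm))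
  rw [← (ha.cj hfG).vsp_eq (cj_mem_vsp hfG ha.sq hx) (hne _ _ hx0),
    ← (hb.cj heG).vsp_eq (cj_mem_vsp heG hb.sq hy) (hne _ _ hy0),
    cj_inv_of_vsp ((hB f).1 hf), cj_inv_of_vsp hx, hfy, ← hxdef,
    (cj_inv_identity hxm.sq hym.sq e1 e2).1, vsp_neg]

theorem isRankOnePair_of_opp (hgen : GenProp k) (hk2 : ringChar k ≠ 2) (hk3 : Nat.card k ≠ 3)
    (ha : IsMin G a) (hb : IsMin G b) (h : a * b * a ≠ 0) (hA : IsRootOf G A a)
    (hB : IsRootOf G B b) : IsRankOnePair A B := by
  have h2 := two_ne_zero_of_ringChar hk2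
  have hnil : ∀ {C : Subgroup (LinearMap.GeneralLinearGroup k M)} {c : Module.End k M},
      IsRootOf G C c → Group.IsNilpotent C := by
    intro C c hC
    refine ⟨⟨1, ?_⟩⟩
    rw [Subgroup.upperCentralSeries_one, eq_top_iff]
    exact fun x _ => Subgroup.mem_center_iff.2 fun y => Subtype.ext (hC.commute y.2 x.2)
  refine ⟨fun e => h ?_, hnil hA, hnil hB,
    rankOneCondition_of_opp hgen hk2 hk3 ha hb h hA hB,
    rankOneCondition_of_opp hgen hk2 hk3 hb ha (bab_ne_zero h2 ha hb h) hB hA⟩
  subst e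
  have h1 := (hA _).1 (onePlus_mem_of_vsp hB hb.self_mem_vsp)
  rw [coe_onePlus, add_sub_cancel_left] at h1
  rw [mul_eq_zero_of_mem_vsp ha.self_mem_vsp h1, zero_mul]

theorem isSpecialRankOnePair_of_opp (hgen : GenProp k) (hk2 : ringChar k ≠ 2)
    (hk3 : Nat.card k ≠ 3) (ha : IsMin G a) (hb : IsMin G b) (h : a * b * a ≠ 0)
    (hA : IsRootOf G A a) (hB : IsRootOf G B b) : IsSpecialRankOnePair A B := by
  have h2 := two_ne_zero_of_ringChar hk2
  refine ⟨isRankOnePair_of_opp hgen hk2 hk3 ha hb h hA hB, fun e he he1 f hf hf1 heq => ?_⟩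
  have hx := (hA e).1 he
  have hy := (hB f).1 hf
  set x := (e : Module.End k M) - 1 with hxdef
  set y := (f : Module.End k M) - 1 with hydef
  have hx0 : x ≠ 0 := sub_one_ne_zero he1
  have hy0 : y ≠ 0 := sub_one_ne_zero hf1
  obtain ⟨hxm, -, -⟩ := ha.of_mem_vsp hx hx0
  obtain ⟨hym, hyr, hyk⟩ := hb.of_mem_vsp hy hy0
  obtain ⟨y0, hy', hy'0, p1, p2⟩ := exists_inv hgen hk2 hk3 hxm hb
    (aba_ne_zero_of_vsp h2 ha hb h hx hx0 hb.self_mem_vsp hb.ne)
  obtain ⟨-, hr0, hk0⟩ := hb.of_mem_vsp hy' hy'0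
  -- cancellation
  have cancelY : ∀ w : Module.End k M, y * (x * w) = 0 → x * w = 0 := by
    intro w hw
    have : y0 * (x * w) = 0 := LinearMap.ext fun m => LinearMap.mem_ker.1
      ((hk0.trans hyk.symm).ge (LinearMap.mem_ker.2 (DFunLike.congr_fun hw m)))
    calc x * w = x * y0 * x * w := by rw [p1]
      _ = x * (y0 * (x * w)) := by simp only [mul_assoc]
      _ = 0 := by rw [this, mul_zero]
  have cancelX : ∀ w : Module.End k M, x * (y * w) = 0 → y * w = 0 := by
    intro w hw
    refine LinearMap.ext fun m => ?_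
    obtain ⟨n, hn⟩ := (hyr.trans hr0.symm).le (LinearMap.mem_range_self y (w m))
    have h1 : x (y (w m)) = 0 := DFunLike.congr_fun hw m
    show y (w m) = 0
    rw [← hn] at h1 ⊢
    have h3 : y0 (x (y0 n)) = y0 n := DFunLike.congr_fun p2 n
    rw [← h3, h1, map_zero]
  have cancelR : ∀ w : Module.End k M, w * x * y = 0 → w * x = 0 := by
    intro w hw
    refine LinearMap.ext fun m => ?_
    obtain ⟨n, hn⟩ := (hr0.trans hyr.symm).le (LinearMap.mem_range_self y0 (x m))
    have h1 : x (y0 (x m)) = x m := DFunLike.congr_fun p1 m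
    show w (x m) = 0
    rw [← h1, ← hn]
    exact DFunLike.congr_fun hw n
  have hfG : f⁻¹ ∈ G := G.inv_mem (mem_G_of_vsp hy)
  have heG : e⁻¹ ∈ G := G.inv_mem (mem_G_of_vsp hx)
  have hLmem : cj f⁻¹ x ∈ vsp G (cj e⁻¹ b) := by
    have h1 := ((isRootOf_conjBy hA ha.sq hfG) (f⁻¹ * e * f⁻¹⁻¹)).2
      (by rw [← cj_sub_one]; exact cj_mem_vsp hfG ha.sq hx)
    rw [heq] at h1
    rw [hxdef, cj_sub_one]
    exact (isRootOf_conjBy hB hb.sq heG _).1 h1
  obtain ⟨w, hw, hwe⟩ : ∃ w ∈ vsp G b, cj f⁻¹ x = cj e⁻¹ w := by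
    refine ⟨cj e (cj f⁻¹ x), ?_, (cj_inv_cj e _).symm⟩
    have h1 := cj_mem_vsp (mem_G_of_vsp hx) (by rw [← cj_mul, hb.sq, cj_zero]) hLmem
    rwa [cj_cj_inv] at h1
  rw [cj_inv_of_vsp hy, cj_inv_of_vsp hx, ← hxdef, ← hydef] at hwe
  have hxx := hxm.sq
  have hyy := hym.sq
  have hwy : w * y = 0 := mul_eq_zero_of_mem_vsp hw hy
  have z : ∀ {s t : Module.End k M}, s * t = 0 → ∀ r, s * (t * r) = 0 := fun hst r => by
    rw [← mul_assoc, hst, zero_mul]
  have f1 : x * w + x * (w * x) = -(x * (y * x)) - x * (y * (x * y)) := by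
    have := congrArg (fun t => x * t) hwe
    simp only [sub_mul, mul_sub, mul_add, one_mul, mul_one, mul_assoc, z hxx, hxx, sub_zero,
      zero_sub] at this
    rw [← this]
    abel
  have f2 : x * (w * x) = -(x * (y * (x * (y * x)))) := by
    have := congrArg (fun t => t * x) f1
    simp only [sub_mul, add_mul, neg_mul, mul_assoc, hxx, mul_zero, add_zero, neg_zero,
      zero_sub] at this
    exact this
  have f3 : x * (y * (x * (y * (x * y)))) = x * (y * (x * y)) := by
    have := congrArg (fun t => t * y) f1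
    simp only [f2] at this
    simp only [sub_mul, add_mul, neg_mul, mul_assoc, hwy, hyy, mul_zero, zero_add, sub_zero]
      at this
    exact neg_injective this
  have q1 : x * y * x = x := by
    have h1 : x * y * x - x * y * x * y * x = 0 := by
      have h0 := cancelR (x * y - x * y * x * y) (by
        simp only [sub_mul, mul_assoc]; rw [f3, sub_self])
      rwa [sub_mul] at h0
    have h3 := cancelY (1 - y * x) (cancelX (x * (1 - y * x)) (by
      rw [← h1]; simp only [mul_sub, mul_one, mul_assoc]))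
    rw [mul_sub, mul_one, sub_eq_zero, ← mul_assoc] at h3
    exact h3.symm
  have q2 : y * x * y = y := by
    have h3 := cancelX (x * y - 1) (by
      simp only [mul_sub, mul_one, ← mul_assoc, q1, sub_self])
    rwa [mul_sub, mul_one, ← mul_assoc, sub_eq_zero] at h3
  have key := (cj_inv_identity hxx hyy q1 q2).1
  refine Units.ext ?_
  simp only [Units.val_mul, coe_inv_of_vsp hy, coe_inv_of_vsp hx, ← hxdef, ← hydef]
  rw [show (e : Module.End k M) = 1 + x from (add_sub_cancel _ _).symm,
    show (f : Module.End k M) = 1 + y from (add_sub_cancel _ _).symm]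
  clear_value x y
  calc (1 - y) * (1 + x) * (1 + y) = (1 - y) * (1 + y) + (1 - y) * x * (1 + y) := by noncomm_ring
    _ = (1 - x) * (1 + x) + -((1 - x) * y * (1 + x)) := by
        rw [key, show (1 - y) * (1 + y) = 1 - y * y by noncomm_ring,
          show (1 - x) * (1 + x) = 1 - x * x by noncomm_ring, hxx, hyy]
    _ = _ := by noncomm_ring

/-- The central involution and the decomposition of `M`. -/
theorem central_involution (hgen : GenProp k) (hk2 : ringChar k ≠ 2) (hk3 : Nat.card k ≠ 3)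
    (ha : IsMin G a) (hb : IsMin G b) (h : a * b * a ≠ 0) (hA : IsRootOf G A a)
    (hB : IsRootOf G B b) :
    (∃! i : LinearMap.GeneralLinearGroup k M, i ∈ A ⊔ B ∧ i ≠ 1 ∧ i * i = 1 ∧
        (∀ x ∈ A ⊔ B, i * x = x * i) ∧
        (∀ m ∈ commutatorSubmodule (A ⊔ B), (i : M →ₗ[k] M) m = -m) ∧
        (∀ m ∈ fixedSubmodule (A ⊔ B), (i : M →ₗ[k] M) m = m)) ∧
      IsCompl (fixedSubmodule (A ⊔ B)) (commutatorSubmodule (A ⊔ B)) := by
  have h2 := two_ne_zero_of_ringChar hk2
  obtain ⟨y, hy, hy0, e1, e2⟩ := exists_inv hgen hk2 hk3 ha hb h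
  obtain ⟨hym, hyr, hyk⟩ := hb.of_mem_vsp hy hy0
  have haa := ha.sq
  have hyy := hym.sq
  set π := a * y + y * a with hπ
  have hactA : ∀ x ∈ vsp G a, π * x = x ∧ x * π = x := by
    intro x hx
    obtain ⟨-, hr, hk⟩ := (mem_vsp_iff haa).1 hx
    refine ⟨LinearMap.ext fun m => ?_, LinearMap.ext fun m => ?_⟩
    · obtain ⟨n, hn⟩ := hr (LinearMap.mem_range_self x m)
      show π (x m) = x m
      rw [← hn, ← Module.End.mul_apply]
      congr 1
      rw [hπ, add_mul, e1, mul_assoc, haa, mul_zero, add_zero]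
    · show x (π m) = x m
      rw [← sub_eq_zero, ← map_sub]
      refine LinearMap.mem_ker.1 (hk (LinearMap.mem_ker.2 ?_))
      rw [map_sub, ← Module.End.mul_apply, hπ, mul_add, ← mul_assoc, ← mul_assoc, haa, zero_mul,
        zero_add, e1, sub_self]
  have hactB : ∀ x ∈ vsp G b, π * x = x ∧ x * π = x := by
    intro x hx
    rw [← hb.vsp_eq hy hy0] at hx
    obtain ⟨-, hr, hk⟩ := (mem_vsp_iff hyy).1 hx
    refine ⟨LinearMap.ext fun m => ?_, LinearMap.ext fun m => ?_⟩
    · obtain ⟨n, hn⟩ := hr (LinearMap.mem_range_self x m)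
      show π (x m) = x m
      rw [← hn, ← Module.End.mul_apply]
      congr 1
      rw [hπ, add_mul, e2, mul_assoc, hyy, mul_zero, zero_add]
    · show x (π m) = x m
      rw [← sub_eq_zero, ← map_sub]
      refine LinearMap.mem_ker.1 (hk (LinearMap.mem_ker.2 ?_))
      rw [map_sub, ← Module.End.mul_apply, hπ, mul_add, ← mul_assoc, ← mul_assoc, hyy, zero_mul,
        add_zero, e2, sub_self]
  have hyv : y ∈ vsp G b := hy
  obtain ⟨hπa, haπ⟩ := hactA a ha.self_mem_vsp
  obtain ⟨hπy, hyπ⟩ := hactB y hyv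
  have hππ : π * π = π := by
    calc π * π = π * a * y + π * y * a := by rw [hπ]; noncomm_ring
      _ = π := by rw [hπa, hπy, hπ]
  let P : Subgroup (LinearMap.GeneralLinearGroup k M) :=
    { carrier := {g | (g : Module.End k M) * (1 - π) = 1 - π ∧ (1 - π) * (g : Module.End k M) = 1 - π}
      one_mem' := by simp
      mul_mem' := fun {g g'} hg hg' => ⟨by rw [Units.val_mul, mul_assoc, hg'.1, hg.1],
        by rw [Units.val_mul, ← mul_assoc, hg.2, hg'.2]⟩
      inv_mem' := fun {g} hg =>
        ⟨by conv_lhs => rw [← hg.1, ← mul_assoc, Units.inv_mul, one_mul],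
         by conv_lhs => rw [← hg.2, mul_assoc, Units.mul_inv, mul_one]⟩ }
  have hle : A ⊔ B ≤ P := by
    refine sup_le ?_ ?_ <;> intro g hg
    · obtain ⟨r1, r2⟩ := hactA _ ((hA g).1 hg)
      show (g : Module.End k M) * (1 - π) = 1 - π ∧ (1 - π) * (g : Module.End k M) = 1 - π
      rw [show (g : Module.End k M) = ((g : Module.End k M) - 1) + 1 from (sub_add_cancel _ _).symm]
      refine ⟨?_, ?_⟩
      · simp only [add_mul, mul_sub, mul_one, one_mul, r2]; abel
      · simp only [mul_add, sub_mul, mul_one, one_mul, r1]; abel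
    · obtain ⟨r1, r2⟩ := hactB _ ((hB g).1 hg)
      show (g : Module.End k M) * (1 - π) = 1 - π ∧ (1 - π) * (g : Module.End k M) = 1 - π
      rw [show (g : Module.End k M) = ((g : Module.End k M) - 1) + 1 from (sub_add_cancel _ _).symm]
      refine ⟨?_, ?_⟩
      · simp only [add_mul, mul_sub, mul_one, one_mul, r2]; abel
      · simp only [mul_add, sub_mul, mul_one, one_mul, r1]; abel
  have hP : ∀ g ∈ A ⊔ B, ((g : Module.End k M) - 1) * π = (g : Module.End k M) - 1 ∧
      π * ((g : Module.End k M) - 1) = (g : Module.End k M) - 1 := by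
    intro g hg
    obtain ⟨r1, r2⟩ := hle hg
    rw [mul_sub, mul_one, sub_eq_iff_eq_add] at r1
    rw [sub_mul, one_mul, sub_eq_iff_eq_add] at r2
    constructor
    · rw [sub_mul, one_mul]; conv_rhs => rw [r1]
      abel
    · rw [mul_sub, mul_one]; conv_rhs => rw [r2]
      abel
  have hea : onePlus a haa ∈ A := onePlus_mem_of_vsp hA ha.self_mem_vsp
  have hfy : onePlus y hyy ∈ B := onePlus_mem_of_vsp hB hyv
  have hcomm : commutatorSubmodule (A ⊔ B) = LinearMap.range π := by
    refine le_antisymm (iSup₂_le fun g hg => ?_) ?_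
    · show LinearMap.range ((g : Module.End k M) - 1) ≤ _
      rw [← (hP g hg).2]
      rintro _ ⟨m, rfl⟩
      exact ⟨_, rfl⟩
    · have hin : ∀ (g : LinearMap.GeneralLinearGroup k M) (x : Module.End k M), g ∈ A ⊔ B →
          (g : Module.End k M) = 1 + x → ∀ m, x m ∈ commutatorSubmodule (A ⊔ B) := by
        intro g x hg hgx m
        refine le_iSup₂ (f := fun (g : LinearMap.GeneralLinearGroup k M) (_ : g ∈ A ⊔ B) =>
          LinearMap.range ((g : M →ₗ[k] M) - 1)) g hg ⟨m, ?_⟩
        show (((g : Module.End k M) - 1)) m = x m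
        rw [hgx, add_sub_cancel_left]
      rintro _ ⟨m, rfl⟩
      exact add_mem (hin _ a (Subgroup.mem_sup_left hea) rfl (y m))
        (hin _ y (Subgroup.mem_sup_right hfy) rfl (a m))
  have hfix : fixedSubmodule (A ⊔ B) = LinearMap.ker π := by
    refine le_antisymm (fun m hm => ?_) (le_iInf₂ fun g hg => ?_)
    · have hin : ∀ (g : LinearMap.GeneralLinearGroup k M) (x : Module.End k M), g ∈ A ⊔ B →
          (g : Module.End k M) = 1 + x → x m = 0 := by
        intro g x hg hgx
        have := LinearMap.mem_ker.1 ((iInf₂_le g hg :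
          fixedSubmodule (A ⊔ B) ≤ LinearMap.ker ((g : Module.End k M) - 1)) hm)
        rwa [hgx, add_sub_cancel_left] at this
      rw [LinearMap.mem_ker]
      show a (y m) + y (a m) = 0
      rw [hin _ a (Subgroup.mem_sup_left hea) rfl, hin _ y (Subgroup.mem_sup_right hfy) rfl,
        map_zero, map_zero, add_zero]
    · show _ ≤ LinearMap.ker ((g : Module.End k M) - 1)
      rw [← (hP g hg).1]
      intro m hm
      rw [LinearMap.mem_ker, Module.End.mul_apply, LinearMap.mem_ker.1 hm, map_zero]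
  set n : LinearMap.GeneralLinearGroup k M :=
    onePlus a haa * (onePlus y hyy)⁻¹ * onePlus a haa with hn
  have hnX : n ∈ A ⊔ B := mul_mem (mul_mem (Subgroup.mem_sup_left hea)
    (inv_mem (Subgroup.mem_sup_right hfy))) (Subgroup.mem_sup_left hea)
  have hnE : (n : Module.End k M) = (1 - π) + (a - y) := by
    rw [hn, Units.val_mul, Units.val_mul, coe_onePlus_inv, coe_onePlus]
    calc (1 + a) * (1 - y) * (1 + a) = 1 + a + a - y - a * y - y * a - a * y * a + a * a := by
          noncomm_ring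
      _ = _ := by rw [e1, haa, hπ]; abel
  have hiE : ((n * n : LinearMap.GeneralLinearGroup k M) : Module.End k M) = 1 - π - π := by
    rw [Units.val_mul, hnE]
    calc (1 - π + (a - y)) * (1 - π + (a - y))
        = 1 - π - π + π * π + ((a - π * a) - (y - π * y)) + ((a - a * π) - (y - y * π)) +
            (a * a - (a * y + y * a) + y * y) := by noncomm_ring
      _ = _ := by rw [hππ, hπa, hπy, haπ, hyπ, haa, hyy, ← hπ]; abel
  refine ⟨⟨n * n, ⟨mul_mem hnX hnX, ?_, ?_, ?_, ?_, ?_⟩, ?_⟩, ?_⟩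
  · intro h1
    rw [h1, Units.val_one] at hiE
    have hπ0 : (2 : k) • π = 0 := by
      rw [two_smul, ← sub_right_inj (a := (1 : Module.End k M)), sub_zero, ← sub_sub]
      exact hiE.symm
    rw [(smul_eq_zero.1 hπ0).resolve_left h2, zero_mul] at hπa
    exact ha.ne hπa.symm
  · refine Units.ext ?_
    rw [Units.val_mul, hiE, Units.val_one]
    calc (1 - π - π) * (1 - π - π) = 1 - π - π - π - π + (π * π + π * π + π * π + π * π) := by
          noncomm_ring
      _ = 1 := by rw [hππ]; abel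
  · intro g hg
    refine Units.ext ?_
    rw [Units.val_mul (n * n) g, Units.val_mul g (n * n), hiE]
    obtain ⟨r1, r2⟩ := hle hg
    simp only [mul_sub, sub_mul, mul_one, one_mul] at r1 r2 ⊢
    rw [show π * (g : Module.End k M) = (g : Module.End k M) * π by
      rw [sub_eq_iff_eq_add] at r1 r2
      exact add_left_cancel (r2.symm.trans r1)]
  · intro m hm
    rw [hcomm] at hm
    obtain ⟨m, rfl⟩ := hm
    show ((n * n : LinearMap.GeneralLinearGroup k M) : Module.End k M) (π m) = -(π m)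
    rw [hiE, LinearMap.sub_apply, LinearMap.sub_apply, Module.End.one_apply,
      ← Module.End.mul_apply, hππ, sub_self, zero_sub]
  · intro m hm
    rw [hfix, LinearMap.mem_ker] at hm
    show ((n * n : LinearMap.GeneralLinearGroup k M) : Module.End k M) m = m
    rw [hiE, LinearMap.sub_apply, LinearMap.sub_apply, Module.End.one_apply, hm, sub_zero,
      sub_zero]
  · rintro i ⟨-, -, -, -, hneg, hpos⟩
    refine Units.ext (hiE ▸ LinearMap.ext fun m => ?_)
    have h1 := hpos (m - π m) (by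
      rw [hfix, LinearMap.mem_ker, map_sub, ← Module.End.mul_apply, hππ, sub_self])
    have h3 := hneg (π m) (by rw [hcomm]; exact ⟨m, rfl⟩)
    rw [map_sub, h3, sub_eq_iff_eq_add] at h1
    show (i : Module.End k M) m = (1 - π - π : Module.End k M) m
    rw [LinearMap.sub_apply, LinearMap.sub_apply, Module.End.one_apply]
    exact h1.trans (sub_eq_add_neg _ _).symm
  · rw [hfix, hcomm]
    constructor
    · rw [Submodule.disjoint_def]
      rintro _ hx ⟨m, rfl⟩
      rw [LinearMap.mem_ker, ← Module.End.mul_apply, hππ] at hx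
      exact hx
    · rw [codisjoint_iff, eq_top_iff]
      intro m _
      rw [← sub_add_cancel m (π m)]
      refine Submodule.add_mem_sup ?_ ⟨m, rfl⟩
      rw [LinearMap.mem_ker, map_sub, ← Module.End.mul_apply, hππ, sub_self]

end opposite

/-- A non-commuting class-two pair is in the commutator case. -/
theorem aba_zero_of_class_two (hgen : GenProp k) (hk2 : ringChar k ≠ 2) (hk3 : Nat.card k ≠ 3)
    {a b : Module.End k M} {E F : Subgroup (LinearMap.GeneralLinearGroup k M)} (ha : IsMin G a)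
    (hb : IsMin G b) (hE : IsRootOf G E a) (hF : IsRootOf G F b)
    (h2 : ⁅⁅E ⊔ F, E ⊔ F⁆, E ⊔ F⁆ = ⊥) : a * b * a = 0 := by
  by_contra h
  obtain ⟨y, hy, hy0, e1, e2⟩ := exists_inv hgen hk2 hk3 ha hb h
  obtain ⟨hym, -, -⟩ := hb.of_mem_vsp hy hy0
  have haa := ha.sq
  have hyy := hym.sq
  have he : onePlus a haa ∈ E := onePlus_mem_of_vsp hE ha.self_mem_vsp
  have hf : onePlus y hyy ∈ F := onePlus_mem_of_vsp hF hy
  set c := onePlus a haa * onePlus y hyy * (onePlus a haa)⁻¹ * (onePlus y hyy)⁻¹ with hc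
  have hcD : c ∈ ⁅E ⊔ F, E ⊔ F⁆ :=
    Subgroup.commutator_mem_commutator (Subgroup.mem_sup_left he) (Subgroup.mem_sup_right hf)
  have hcomm : onePlus a haa * c = c * onePlus a haa :=
    Subgroup.mem_centralizer_iff.1 (Subgroup.commutator_eq_bot_iff_le_centralizer.1 h2 hcD) _
      (Subgroup.mem_sup_left he)
  set C := (c : Module.End k M) - 1 with hC
  have hCa : a * C = C * a := by
    have := (commute_iff_sub_one _ _).1 hcomm
    rwa [coe_onePlus, add_sub_cancel_left, ← hC] at this
  have hCe : C = a * y + a * y - y * a - a + y := by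
    rw [hC, hc, Units.val_mul, Units.val_mul, Units.val_mul, coe_onePlus, coe_onePlus,
      coe_onePlus_inv, coe_onePlus_inv]
    calc (1 + a) * (1 + y) * (1 - a) * (1 - y) - 1
        = a * y - y * a - a * y * a + y * a * y + a * y * a * y - a * a + a * a * y - y * y
            - a * y * y := by noncomm_ring
      _ = _ := by rw [e1, e2, haa, hyy, mul_assoc a y y, hyy, mul_zero, zero_mul]; abel
  have hz : a * (C * a - a * C) = a := by
    calc a * (C * a - a * C)
        = a * a * y * a + a * a * y * a - a * y * (a * a) - a * (a * a) + a * y * a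
          - (a * a * a * y + a * a * a * y - a * a * y * a - a * a * a + a * a * y) := by
          rw [hCe]; noncomm_ring
      _ = a := by simp only [haa, e1, zero_mul, mul_zero, sub_zero, add_zero, zero_add, sub_self]
  rw [hCa, sub_self, mul_zero] at hz
  exact ha.ne hz.symm

end Cfsg.Agent.QuadPair
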