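import Cfsg.Agent.Lib.QuadPair.RankOne
import Cfsg.Agent.Lib.RootSub.Graph

/-!
`Σ` is a set of abstract root subgroups of the group it generates, and rank one pairs contain
`SL(2, k(λ))`.
-/

set_option autoImplicit false
set_option linter.unusedSectionVars false

universe u v

namespace Cfsg.Agent.QuadPair

open Cfsg
open scoped commutatorElement

section transfer

variable {H K : Type*} [Group H] [Group K] {f : H →* K}

theorem isRankOnePair_of_map (hf : Function.Injective f) {A B : Subgroup H}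
    (h : IsRankOnePair (A.map f) (B.map f)) : IsRankOnePair A B := by
  have hmc : ∀ (C : Subgroup H) (g : H), (conjBy C g).map f = conjBy (C.map f) (f g) := fun C g =>
    RootSub.map_conjBy f C g
  have hcond : ∀ {C D : Subgroup H}, RankOneCondition (C.map f) (D.map f) →
      RankOneCondition C D := by
    intro C D hc a ha ha1
    obtain ⟨b, hb, hb1, e⟩ := hc (f a) ⟨a, ha, rfl⟩ (fun h => ha1 (hf (h.trans f.map_one.symm)))
    obtain ⟨b, hb', rfl⟩ := hb
    refine ⟨b, hb', fun h => hb1 (by rw [h, map_one]), Subgroup.map_injective hf ?_⟩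
    rw [hmc, hmc, map_inv, map_inv]
    exact e
  have hnil : ∀ {C : Subgroup H}, Group.IsNilpotent (C.map f) → Group.IsNilpotent C := fun {C} _ =>
    Group.nilpotent_of_mulEquiv (C.equivMapOfInjective f hf).symm
  exact ⟨fun e => h.ne (by rw [e]), hnil h.nilpotent_left, hnil h.nilpotent_right,
    hcond h.cond_left, hcond h.cond_right⟩

end transfer

variable {k : Type u} [Field k] {M : Type v} [AddCommGroup M] [Module k M] [FiniteDimensional k M]
variable {G : Subgroup (LinearMap.GeneralLinearGroup k M)}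

theorem le_G {A : Subgroup (LinearMap.GeneralLinearGroup k M)} {a : Module.End k M}
    (hA : IsRootOf G A a) : A ≤ G := fun g hg => mem_G_of_vsp ((hA g).1 hg)

theorem conjBy_mem_quadraticRootSubgroups {A : Subgroup (LinearMap.GeneralLinearGroup k M)}
    (hA : A ∈ quadraticRootSubgroups G) {g : LinearMap.GeneralLinearGroup k M} (hg : g ∈ G) :
    conjBy A g ∈ quadraticRootSubgroups G := by
  obtain ⟨a, ha, hAm⟩ := exists_of_mem_quadraticRootSubgroups hA
  obtain ⟨L, hL, hLm⟩ := exists_sigma (ha.cj hg)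
  rwa [(isRootOf_conjBy hAm ha.sq hg).ext hLm rfl]

/-- The trichotomy. -/
theorem sigma_pair (hgen : GenProp k) (hk2 : ringChar k ≠ 2) (hk3 : Nat.card k ≠ 3)
    (hirr : IsIrreducibleFor G) {A B : Subgroup (LinearMap.GeneralLinearGroup k M)}
    (hA : A ∈ quadraticRootSubgroups G) (hB : B ∈ quadraticRootSubgroups G) :
    ⁅A, B⁆ = ⊥ ∨ IsRankOnePair A B ∨ RootCommutatorCase (quadraticRootSubgroups G) A B := by
  have h2 := two_ne_zero_of_ringChar hk2
  obtain ⟨a, ha, hAm⟩ := exists_of_mem_quadraticRootSubgroups hA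
  obtain ⟨b, hb, hBm⟩ := exists_of_mem_quadraticRootSubgroups hB
  by_cases h : a * b * a = 0
  · by_cases hc : a * b = b * a
    · exact Or.inl (Subgroup.commutator_eq_bot_iff_le_centralizer.2
        (IsRootOf.le_centralizer h2 hb ha hBm hAm hc.symm))
    · obtain ⟨r1, r2, r3, -, r5, -, -⟩ := commutator_case hgen hk2 hk3 hirr ha hb h hc hAm hBm
      refine Or.inr (Or.inr ⟨r1, fun c hc x hx => ?_, r2, r3⟩)
      exact (Subgroup.mem_centralizer_iff.1 (Subgroup.commutator_eq_bot_iff_le_centralizer.1 r5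
        (Subgroup.commutator_mono le_sup_left le_sup_right hc)) x hx).symm
  · exact Or.inr (Or.inl (isRankOnePair_of_opp hgen hk2 hk3 ha hb h hAm hBm))

theorem isRootSubgroupSet_sigma (hgen : GenProp k) (hk2 : ringChar k ≠ 2) (hk3 : Nat.card k ≠ 3)
    (hirr : IsIrreducibleFor G) :
    IsRootSubgroupSet ((fun A : Subgroup (LinearMap.GeneralLinearGroup k M) =>
      A.subgroupOf (⨆ B ∈ quadraticRootSubgroups G, B)) '' quadraticRootSubgroups G) := by
  set G₀ := ⨆ B ∈ quadraticRootSubgroups G, B with hG₀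
  have hle : ∀ {A}, A ∈ quadraticRootSubgroups G → A ≤ G₀ := fun hA =>
    le_iSup₂ (f := fun B (_ : B ∈ quadraticRootSubgroups G) => B) _ hA
  have hG : G₀ ≤ G := iSup₂_le fun A hA => by
    obtain ⟨a, -, hAm⟩ := exists_of_mem_quadraticRootSubgroups hA
    exact le_G hAm
  have hmap : ∀ {A}, A ∈ quadraticRootSubgroups G → (A.subgroupOf G₀).map G₀.subtype = A :=
    fun hA => by rw [Subgroup.map_subgroupOf_eq_of_le (hle hA)]
  have hsub : Function.Injective G₀.subtype := Subtype.val_injective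
  refine ⟨?_, ?_, ?_, ?_, ?_⟩
  · rintro _ ⟨A, hA, rfl⟩
    obtain ⟨a, -, hAm⟩ := exists_of_mem_quadraticRootSubgroups hA
    exact ⟨⟨fun x y => Subtype.ext (Subtype.ext (IsRootOf.commute hAm x.2 y.2))⟩⟩
  · rintro _ ⟨A, hA, rfl⟩ h0
    obtain ⟨a, ha, hAm⟩ := exists_of_mem_quadraticRootSubgroups hA
    have hm := onePlus_mem_of_vsp hAm ha.self_mem_vsp
    have h1 := congrArg (Subgroup.map G₀.subtype) h0
    rw [hmap hA, Subgroup.map_bot] at h1
    rw [h1, Subgroup.mem_bot] at hm
    have := congrArg (fun g : LinearMap.GeneralLinearGroup k M => (g : Module.End k M)) hm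
    simp only [coe_onePlus, Units.val_one, add_eq_left] at this
    exact ha.ne this
  · refine Subgroup.map_injective hsub ?_
    rw [← MonoidHom.range_eq_map, Subgroup.range_subtype, Subgroup.map_iSup]
    refine le_antisymm (iSup_le fun A => ?_) (iSup₂_le fun A hA => ?_)
    · rw [Subgroup.map_iSup]
      refine iSup_le fun _ => Subgroup.map_subtype_le A
    · refine le_trans ?_ (le_iSup _ (A.subgroupOf G₀))
      rw [Subgroup.map_iSup]
      refine le_trans ?_ (le_iSup _ ⟨A, hA, rfl⟩)
      exact (hmap hA).ge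
  · rintro _ ⟨A, hA, rfl⟩ g
    refine ⟨conjBy A g.1, conjBy_mem_quadraticRootSubgroups hA (hG g.2), ?_⟩
    refine Subgroup.map_injective hsub ?_
    show ((conjBy A g.1).subgroupOf G₀).map G₀.subtype = _
    rw [hmap (conjBy_mem_quadraticRootSubgroups hA (hG g.2)), RootSub.map_conjBy _ , hmap hA]
    rfl
  · rintro _ ⟨A, hA, rfl⟩ _ ⟨B, hB, rfl⟩
    rcases sigma_pair hgen hk2 hk3 hirr hA hB with h | h | ⟨h1, h2, h3, h4⟩
    · left
      refine Subgroup.map_injective hsub ?_
      rw [Subgroup.map_commutator, hmap hA, hmap hB, h, Subgroup.map_bot]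
    · exact Or.inr (Or.inl (isRankOnePair_of_map hsub (by rw [hmap hA, hmap hB]; exact h)))
    · refine Or.inr (Or.inr ⟨⟨_, h1, ?_⟩, fun c hc x hx => ?_, fun a ha ha1 => ?_,
        fun b hb hb1 => ?_⟩)
      · refine Subgroup.map_injective hsub ?_
        show (Subgroup.subgroupOf _ G₀).map G₀.subtype = _
        rw [hmap h1, Subgroup.map_commutator, hmap hA, hmap hB]
      · refine Subtype.ext (h2 c.1 ?_ x.1 ?_)
        · have := Subgroup.mem_map_of_mem G₀.subtype hc
          rw [Subgroup.map_commutator, hmap hA, hmap hB] at this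
          exact this
        · have := Subgroup.mem_map_of_mem G₀.subtype hx
          rw [Subgroup.map_sup, hmap hA, hmap hB] at this
          exact this
      · refine Subgroup.map_injective hsub ?_
        rw [Subgroup.map_commutator, hmap hA, hmap hB, MonoidHom.map_closure, ← Set.image_comp]
        refine Eq.trans (congrArg Subgroup.closure ?_) (h3 a.1 ha (fun h => ha1 (Subtype.ext h)))
        refine Eq.trans ?_ (congrArg (fun S : Subgroup (LinearMap.GeneralLinearGroup k M) =>
          (fun f : LinearMap.GeneralLinearGroup k M => a.1 * f * a.1⁻¹ * f⁻¹) ''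
            (S : Set (LinearMap.GeneralLinearGroup k M))) (hmap hB))
        rw [Subgroup.coe_map, ← Set.image_comp]
        rfl
      · refine Subgroup.map_injective hsub ?_
        rw [Subgroup.map_commutator, hmap hA, hmap hB, MonoidHom.map_closure, ← Set.image_comp]
        refine Eq.trans (congrArg Subgroup.closure ?_) (h4 b.1 hb (fun h => hb1 (Subtype.ext h)))
        refine Eq.trans ?_ (congrArg (fun S : Subgroup (LinearMap.GeneralLinearGroup k M) =>
          (fun e : LinearMap.GeneralLinearGroup k M => e * b.1 * e⁻¹ * b.1⁻¹) ''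
            (S : Set (LinearMap.GeneralLinearGroup k M))) (hmap hA))
        rw [Subgroup.coe_map, ← Set.image_comp]
        rfl

theorem exists_rankOne_partner (hgen : GenProp k) (hk2 : ringChar k ≠ 2) (hk3 : Nat.card k ≠ 3)
    (hirr : IsIrreducibleFor G) {A : Subgroup (LinearMap.GeneralLinearGroup k M)}
    (hA : A ∈ quadraticRootSubgroups G) :
    ∃ g ∈ G, conjBy A g ∈ quadraticRootSubgroups G ∧ IsRankOnePair A (conjBy A g) := by
  have h2 := two_ne_zero_of_ringChar hk2
  obtain ⟨a, ha, hAm⟩ := exists_of_mem_quadraticRootSubgroups hA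
  obtain ⟨g, hg, hne⟩ := exists_opp_conj h2 hirr ha
  exact ⟨g, hg, conjBy_mem_quadraticRootSubgroups hA hg,
    isRankOnePair_of_opp hgen hk2 hk3 ha (ha.cj hg) hne hAm (isRootOf_conjBy hAm ha.sq hg)⟩

theorem opp_of_isRankOnePair (hgen : GenProp k) (hk2 : ringChar k ≠ 2) (hk3 : Nat.card k ≠ 3)
    (hirr : IsIrreducibleFor G) {A B : Subgroup (LinearMap.GeneralLinearGroup k M)}
    {a b : Module.End k M} (ha : IsMin G a) (hb : IsMin G b) (hA : IsRootOf G A a)
    (hB : IsRootOf G B b) (h : IsRankOnePair A B) : a * b * a ≠ 0 := by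
  have h2 := two_ne_zero_of_ringChar hk2
  intro h0
  have hea := onePlus_mem_of_vsp hA ha.self_mem_vsp
  obtain ⟨f, hf, hf1, e⟩ := h.cond_left _ hea (fun h1 => ha.ne (by
    have := congrArg (fun g : LinearMap.GeneralLinearGroup k M => (g : Module.End k M)) h1
    simpa [coe_onePlus] using this))
  set x := onePlus a ha.sq
  by_cases hc : a * b = b * a
  · have hcen : ⁅A, B⁆ = ⊥ := Subgroup.commutator_eq_bot_iff_le_centralizer.2
      (IsRootOf.le_centralizer h2 hb ha hB hA hc.symm)
    have hAB := Subgroup.commutator_eq_bot_iff_le_centralizer.1 hcen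
    have e1 : conjBy A f⁻¹ = A := RootSub.conjBy_eq_self_iff.2
      (Subgroup.centralizer_le_normalizer _ (Subgroup.le_centralizer_iff.1 hAB (inv_mem hf)))
    have e2 : conjBy B x⁻¹ = B := RootSub.conjBy_eq_self_iff.2
      (Subgroup.centralizer_le_normalizer _ (hAB (inv_mem hea)))
    exact h.ne (e1.symm.trans (e.trans e2))
  · obtain ⟨-, -, -, hne, r5, -, -⟩ := commutator_case hgen hk2 hk3 hirr ha hb h0 hc hA hB
    set D := ⁅A ⊔ B, A ⊔ B⁆
    -- modulo the central subgroup `D`, both are fixed, so `A ≤ B D`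
    have hmove : ∀ {C : Subgroup (LinearMap.GeneralLinearGroup k M)}, C ≤ A ⊔ B →
        ∀ g ∈ A ⊔ B, conjBy C g ≤ C ⊔ D := by
      intro C hC g hg
      rintro _ ⟨c, hc', rfl⟩
      show g * c * g⁻¹ ∈ C ⊔ D
      rw [show g * c * g⁻¹ = (g * c * g⁻¹ * c⁻¹) * c by group]
      exact mul_mem (Subgroup.mem_sup_right (Subgroup.commutator_mem_commutator hg (hC hc')))
        (Subgroup.mem_sup_left hc')
    have hAD : A ≤ B ⊔ D := by
      intro g hg
      have h1 : f⁻¹ * g * f⁻¹⁻¹ ∈ B ⊔ D := by
        have : f⁻¹ * g * f⁻¹⁻¹ ∈ conjBy A f⁻¹ := ⟨g, hg, rfl⟩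
        rw [e] at this
        exact hmove le_sup_right _ (inv_mem (Subgroup.mem_sup_left hea)) this
      have h3 : f⁻¹ * g * f⁻¹⁻¹ * g⁻¹ ∈ D := Subgroup.commutator_mem_commutator
        (Subgroup.mem_sup_right (inv_mem hf)) (Subgroup.mem_sup_left hg)
      rw [show g = (f⁻¹ * g * f⁻¹⁻¹ * g⁻¹)⁻¹ * (f⁻¹ * g * f⁻¹⁻¹) by group]
      exact mul_mem (inv_mem (Subgroup.mem_sup_right h3)) h1
    have hDc : D ≤ Subgroup.centralizer (↑(A ⊔ B) : Set (LinearMap.GeneralLinearGroup k M)) :=
      Subgroup.commutator_eq_bot_iff_le_centralizer.1 r5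
    have hBc : B ≤ Subgroup.centralizer (B : Set (LinearMap.GeneralLinearGroup k M)) := fun g hg =>
      Subgroup.mem_centralizer_iff.2 fun y hy => hB.commute hy hg
    have hcm : A ≤ Subgroup.centralizer (B : Set (LinearMap.GeneralLinearGroup k M)) :=
      hAD.trans (sup_le hBc (hDc.trans (Subgroup.centralizer_le (fun y hy =>
        Subgroup.mem_sup_right hy))))
    refine hc ?_
    have := (commute_iff_sub_one (onePlus b hb.sq) x).1 ((Subgroup.mem_centralizer_iff.1 (hcm hea)
      _ (onePlus_mem_of_vsp hB hb.self_mem_vsp)))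
    simp only [x, coe_onePlus, add_sub_cancel_left] at this
    exact this.symm

theorem exists_SL2_subpair {k : Type u} [Field k] {M : Type u} [AddCommGroup M] [Module k M]
    [FiniteDimensional k M] {G : Subgroup (LinearMap.GeneralLinearGroup k M)}
    (hgen : GenProp k) (hk2 : ringChar k ≠ 2) (hk3 : Nat.card k ≠ 3)
    {A B : Subgroup (LinearMap.GeneralLinearGroup k M)} {a b : Module.End k M} (ha : IsMin G a)
    (hb : IsMin G b) (hA : IsRootOf G A a) (hB : IsRootOf G B b) (h : a * b * a ≠ 0) :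
    ∃ A₀ B₀ : Subgroup (LinearMap.GeneralLinearGroup k M), A₀ ≤ A ∧ B₀ ≤ B ∧
      ∃ (k₁ : Type u) (_ : Field k₁), 3 < ENat.card k₁ ∧ IsPSL2PairOver k₁ A₀ B₀ := by
  have h2 := two_ne_zero_of_ringChar hk2
  obtain ⟨R, iR, iA, lam, C, iF, hfield, hu, hadj, hpa, hpb, hrep, hinj, htop⟩ :=
    exists_rep hgen h2 hk3 ha hb (not_isNilpotent_of_aba h2 ha hb h)
  let := hfield.toField
  have hcard : 3 < ENat.card R := by
    have h4 : 4 ≤ ENat.card k := by
      rcases finite_or_infinite k with hk | hk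
      · have := Fintype.ofFinite k
        rw [ENat.card_eq_coe_fintype_card]
        have h0 : 2 ≤ Fintype.card k := Fintype.one_lt_card
        have h3 : Fintype.card k ≠ 3 := by rwa [← Nat.card_eq_fintype_card]
        have hc2 : Fintype.card k ≠ 2 := by
          intro hc
          apply h2
          have := Nat.cast_card_eq_zero k
          rw [hc] at this
          exact_mod_cast this
        exact_mod_cast (show 4 ≤ Fintype.card k by omega)
      · rw [ENat.card_eq_top_of_infinite]; exact le_top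
    have h5 : ENat.card k ≤ ENat.card R :=
      ENat.card_le_card_of_injective (algebraMap k R).injective
    exact lt_of_lt_of_le (by norm_num) (h4.trans h5)
  refine ⟨(upperUnipotentSL2 R).map C.rep, (lowerUnipotentSL2 R).map C.rep, ?_, ?_, R,
    hfield.toField, hcard, C.rep, ?_, ?_, rfl, rfl⟩
  · rw [Subgroup.map_le_iff_le_comap]
    refine (Subgroup.closure_le _).2 ?_
    rintro g ⟨h10, h00, h11⟩
    have e : g = SL2Gen.eU (g 0 1) := by
      apply SL2Gen.ext22
      · exact h00
      · rfl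
      · exact h10
      · exact h11
    show C.rep g ∈ A
    rw [hA, e, C.rep_eU, add_sub_cancel_left]
    refine (mem_vsp_iff ha.sq).2 ⟨fun c => ⟨_, hrep (SL2Gen.eU (c • g 0 1)), ?_⟩, ?_, ?_⟩
    · rw [C.rep_eU, map_smul, smul_mul_assoc]
    · rw [C.comm_left]; rintro _ ⟨m, rfl⟩; exact ⟨_, rfl⟩
    · intro m hm; rw [LinearMap.mem_ker, Module.End.mul_apply, LinearMap.mem_ker.1 hm, map_zero]
  · rw [Subgroup.map_le_iff_le_comap]
    refine (Subgroup.closure_le _).2 ?_
    rintro g ⟨h01, h00, h11⟩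
    have e : g = SL2Gen.eL (g 1 0) := by
      apply SL2Gen.ext22
      · exact h00
      · exact h01
      · rfl
      · exact h11
    show C.rep g ∈ B
    rw [hB, e, C.rep_eL, add_sub_cancel_left]
    refine (mem_vsp_iff hb.sq).2 ⟨fun c => ⟨_, hrep (SL2Gen.eL (c • g 1 0)), ?_⟩, ?_, ?_⟩
    · rw [C.rep_eL, smul_mul_assoc, map_smul, smul_mul_assoc]
    · rw [C.comm_right]; rintro _ ⟨m, rfl⟩; exact ⟨_, rfl⟩
    · intro m hm; rw [LinearMap.mem_ker, Module.End.mul_apply, LinearMap.mem_ker.1 hm, map_zero]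
  · rw [MonoidHom.range_eq_map, ← Subgroup.map_sup]
    congr 1
    refine (PSL2.eq_top_of_uu_ll (fun t => ?_) (fun t => ?_)).symm
    · exact Subgroup.mem_sup_left (Subgroup.subset_closure ⟨rfl, rfl, rfl⟩)
    · exact Subgroup.mem_sup_right (Subgroup.subset_closure ⟨rfl, rfl, rfl⟩)
  · rw [(MonoidHom.ker_eq_bot_iff _).2 hinj]
    exact bot_le

end Cfsg.Agent.QuadPair
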