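import Cfsg.Agent.Lib.RootSub.Graph
import Cfsg.Agent.Lib.QuadPair.RootSet

/-!
Sets of subgroups of an ambient group as root subgroup sets of the subgroup they generate.
-/

set_option autoImplicit false

namespace Cfsg.Agent.QuadPair

open Cfsg
open scoped commutatorElement

variable {K : Type*} [Group K] {S : Set (Subgroup K)}

/-- `S` seen inside the group it generates. -/
def restrictSet (S : Set (Subgroup K)) : Set (Subgroup ↥(⨆ B ∈ S, B)) :=
  (fun A : Subgroup K => A.subgroupOf (⨆ B ∈ S, B)) '' S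

theorem le_iSup_mem {A : Subgroup K} (hA : A ∈ S) : A ≤ ⨆ B ∈ S, B :=
  le_iSup₂ (f := fun B (_ : B ∈ S) => B) _ hA

theorem map_restrict {A : Subgroup K} (hA : A ∈ S) :
    (A.subgroupOf (⨆ B ∈ S, B)).map (⨆ B ∈ S, B).subtype = A := by
  rw [Subgroup.map_subgroupOf_eq_of_le (le_iSup_mem hA)]

theorem mem_restrictSet {A : Subgroup K} (hA : A ∈ S) :
    A.subgroupOf (⨆ B ∈ S, B) ∈ restrictSet S := ⟨A, hA, rfl⟩

theorem map_mem_of_restrict {A : Subgroup ↥(⨆ B ∈ S, B)} (hA : A ∈ restrictSet S) :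
    A.map (⨆ B ∈ S, B).subtype ∈ S := by
  obtain ⟨A, hA, rfl⟩ := hA
  rwa [map_restrict hA]

theorem restrict_rankOne {A B : Subgroup K} (hA : A ∈ S) (hB : B ∈ S) :
    IsRankOnePair (A.subgroupOf (⨆ B ∈ S, B)) (B.subgroupOf (⨆ B ∈ S, B)) ↔
      IsRankOnePair A B := by
  refine ⟨fun h => ?_, fun h => isRankOnePair_of_map (Subgroup.subtype_injective _) ?_⟩
  · have := RootSub.map_rankOne (⨆ B ∈ S, B).subtype h (fun e =>
      h.ne (Subgroup.map_injective (Subgroup.subtype_injective _) e))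
    rwa [map_restrict hA, map_restrict hB] at this
  · rwa [map_restrict hA, map_restrict hB]

theorem restrict_commCase {A B : Subgroup K} (hA : A ∈ S) (hB : B ∈ S)
    (h : RootCommutatorCase S A B) :
    RootCommutatorCase (restrictSet S) (A.subgroupOf (⨆ B ∈ S, B))
      (B.subgroupOf (⨆ B ∈ S, B)) := by
  obtain ⟨h1, h2, h3, h4⟩ := h
  have hsub := Subgroup.subtype_injective (⨆ B ∈ S, B)
  refine ⟨⟨_, h1, ?_⟩, fun c hc x hx => ?_, fun a ha ha1 => ?_, fun b hb hb1 => ?_⟩
  · refine Subgroup.map_injective hsub ?_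
    show (Subgroup.subgroupOf _ _).map _ = _
    rw [map_restrict h1, Subgroup.map_commutator, map_restrict hA, map_restrict hB]
  · refine Subtype.ext (h2 c.1 ?_ x.1 ?_)
    · have := Subgroup.mem_map_of_mem (⨆ B ∈ S, B).subtype hc
      rw [Subgroup.map_commutator, map_restrict hA, map_restrict hB] at this
      exact this
    · have := Subgroup.mem_map_of_mem (⨆ B ∈ S, B).subtype hx
      rw [Subgroup.map_sup, map_restrict hA, map_restrict hB] at this
      exact this
  · refine Subgroup.map_injective hsub ?_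
    rw [Subgroup.map_commutator, map_restrict hA, map_restrict hB, MonoidHom.map_closure,
      ← Set.image_comp]
    refine Eq.trans (congrArg Subgroup.closure ?_) (h3 a.1 ha (fun h => ha1 (Subtype.ext h)))
    refine Eq.trans ?_ (congrArg (fun T : Subgroup K =>
      (fun f : K => a.1 * f * a.1⁻¹ * f⁻¹) '' (T : Set K)) (map_restrict hB))
    rw [Subgroup.coe_map, ← Set.image_comp]
    rfl
  · refine Subgroup.map_injective hsub ?_
    rw [Subgroup.map_commutator, map_restrict hA, map_restrict hB, MonoidHom.map_closure,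
      ← Set.image_comp]
    refine Eq.trans (congrArg Subgroup.closure ?_) (h4 b.1 hb (fun h => hb1 (Subtype.ext h)))
    refine Eq.trans ?_ (congrArg (fun T : Subgroup K =>
      (fun e : K => e * b.1 * e⁻¹ * b.1⁻¹) '' (T : Set K)) (map_restrict hA))
    rw [Subgroup.coe_map, ← Set.image_comp]
    rfl

theorem isRootSubgroupSet_restrict (hcomm : ∀ A ∈ S, ∀ x ∈ A, ∀ y ∈ A, x * y = y * x)
    (hne : ∀ A ∈ S, A ≠ ⊥) (hconj : ∀ A ∈ S, ∀ g ∈ ⨆ B ∈ S, B, conjBy A g ∈ S)
    (hpair : ∀ A ∈ S, ∀ B ∈ S, ⁅A, B⁆ = ⊥ ∨ IsRankOnePair A B ∨ RootCommutatorCase S A B) :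
    IsRootSubgroupSet (restrictSet S) := by
  have hsub := Subgroup.subtype_injective (⨆ B ∈ S, B)
  refine ⟨?_, ?_, ?_, ?_, ?_⟩
  · rintro _ ⟨A, hA, rfl⟩
    exact ⟨⟨fun x y => Subtype.ext (Subtype.ext (hcomm A hA _ x.2 _ y.2))⟩⟩
  · rintro _ ⟨A, hA, rfl⟩ h0
    refine hne A hA ?_
    rw [← map_restrict hA]
    exact (congrArg (Subgroup.map (⨆ B ∈ S, B).subtype) h0).trans (Subgroup.map_bot _)
  · refine Subgroup.map_injective hsub ?_
    rw [← MonoidHom.range_eq_map, Subgroup.range_subtype, Subgroup.map_iSup]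
    refine le_antisymm (iSup_le fun A => ?_) (iSup₂_le fun A hA => ?_)
    · rw [Subgroup.map_iSup]
      exact iSup_le fun _ => Subgroup.map_subtype_le A
    · refine le_trans ?_ (le_iSup _ (A.subgroupOf (⨆ B ∈ S, B)))
      rw [Subgroup.map_iSup]
      exact le_trans (map_restrict hA).ge (le_iSup (fun _ => (A.subgroupOf (⨆ B ∈ S, B)).map _)
        (mem_restrictSet hA))
  · rintro _ ⟨A, hA, rfl⟩ g
    refine ⟨conjBy A g.1, hconj A hA _ g.2, Subgroup.map_injective hsub ?_⟩
    show ((conjBy A g.1).subgroupOf _).map _ = _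
    rw [map_restrict (hconj A hA _ g.2), RootSub.map_conjBy, map_restrict hA]
    rfl
  · rintro _ ⟨A, hA, rfl⟩ _ ⟨B, hB, rfl⟩
    rcases hpair A hA B hB with h | h | ⟨h1, h2, h3, h4⟩
    · left
      refine Subgroup.map_injective hsub ?_
      rw [Subgroup.map_commutator, map_restrict hA, map_restrict hB, h, Subgroup.map_bot]
    · exact Or.inr (Or.inl ((restrict_rankOne hA hB).2 h))
    · exact Or.inr (Or.inr (restrict_commCase hA hB ⟨h1, h2, h3, h4⟩))

theorem map_fReach {A B : Subgroup ↥(⨆ B ∈ S, B)}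
    (h : Relation.ReflTransGen (FAdj (restrictSet S)) A B) :
    Relation.ReflTransGen (FAdj S) (A.map (⨆ B ∈ S, B).subtype) (B.map (⨆ B ∈ S, B).subtype) := by
  refine h.lift (fun C => C.map (⨆ B ∈ S, B).subtype) ?_
  rintro C D ⟨⟨C, hC, rfl⟩, ⟨D, hD, rfl⟩, hr⟩
  exact ⟨map_mem_of_restrict (mem_restrictSet hC), map_mem_of_restrict (mem_restrictSet hD), by
    beta_reduce; rw [map_restrict hC, map_restrict hD]; exact (restrict_rankOne hC hD).1 hr⟩

end Cfsg.Agent.QuadPair
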