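import Cfsg.Agent.Lib.QuadPair.SL2Hankel
import Cfsg.Agent.Lib.PSL2.LowerUpper
import Mathlib.RingTheory.Ideal.Quotient.Operations

/-!
Elementary facts about `SL(2, R)` for a finite commutative algebra `R` over a finite field of odd
order, and the field case of the generation of `SL(2, k(λ))` by `u(k)` and `l(k λ)`.
-/

set_option autoImplicit false
set_option linter.unusedSectionVars false

namespace Cfsg.Agent.QuadPair.SL2Gen

open Matrix
open scoped MatrixGroups

section elementary

variable {R S : Type*} [CommRing R] [CommRing S]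

theorem map_eU (f : R →+* S) (x : R) :
    Matrix.SpecialLinearGroup.map (n := Fin 2) f (eU x) = eU (f x) := by
  apply ext22 <;> simp [Matrix.SpecialLinearGroup.map_apply_coe]

theorem map_eL (f : R →+* S) (x : R) :
    Matrix.SpecialLinearGroup.map (n := Fin 2) f (eL x) = eL (f x) := by
  apply ext22 <;> simp [Matrix.SpecialLinearGroup.map_apply_coe]

theorem mapE (f : R →+* S) (g : SL(2, R)) (i j : Fin 2) :
    Matrix.SpecialLinearGroup.map (n := Fin 2) f g i j = f (g i j) := by
  simp [Matrix.SpecialLinearGroup.map_apply_coe]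

/-- The Weyl element as a word. -/
def wE : SL(2, R) := eU 1 * eL (-1) * eU 1

/-- Diagonal elements as words. -/
def dE (u v : R) : SL(2, R) := eU u * eL (-v) * eU u * (wE (R := R))⁻¹

theorem wE_entries :
    (wE : SL(2, R)) 0 0 = 0 ∧ (wE : SL(2, R)) 0 1 = 1 ∧ (wE : SL(2, R)) 1 0 = -1 ∧
      (wE : SL(2, R)) 1 1 = 0 := by
  simp [wE, mulE]

theorem dE_entries {u v : R} (h : u * v = 1) :
    dE u v 0 0 = u ∧ dE u v 0 1 = 0 ∧ dE u v 1 0 = 0 ∧ dE u v 1 1 = v := by
  obtain ⟨w00, w01, w10, w11⟩ := wE_entries (R := R)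
  simp only [dE, mulE, invE00, invE01, invE10, invE11, w00, w01, w10, w11, eU00, eU01, eU10,
    eU11, eL00, eL01, eL10, eL11]
  refine ⟨?_, ?_, ?_, ?_⟩
  · linear_combination (-u) * h
  · linear_combination h
  · linear_combination (-1 : R) * h
  · ring

theorem dE_conj_eU {u v : R} (h : u * v = 1) (x : R) :
    dE u v * eU x * (dE u v)⁻¹ = eU (u ^ 2 * x) := by
  rw [conj_eU_of_borel _ (dE_entries h).2.2.1, (dE_entries h).1]

theorem dE_conj_eL {u v : R} (h : u * v = 1) (x : R) :
    dE u v * eL x * (dE u v)⁻¹ = eL (v ^ 2 * x) := by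
  obtain ⟨e00, e01, e10, e11⟩ := dE_entries h
  apply ext22 <;>
    simp only [mulE, invE00, invE01, invE10, invE11, e00, e01, e10, e11, eL00, eL01, eL10, eL11]
  · linear_combination h
  · ring
  · ring
  · linear_combination h

theorem eL_eq_conj (x : R) : wE * eU (-x) * wE⁻¹ = eL x := by
  rw [conj_eU_of_swap _ wE_entries.1, wE_entries.2.2.1]
  congr 1
  ring

/-- Diagonal elements congruent to `1` from small lower unitriangular ones. -/
theorem dE_word {u v : R} (h : u * v = 1) :
    dE u v = eL (v - 1) * eU 1 * eL (u - 1) * eU (-1) * eU (1 - v) := by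
  obtain ⟨e00, e01, e10, e11⟩ := dE_entries h
  apply ext22 <;>
    simp only [mulE, e00, e01, e10, e11, eU00, eU01, eU10, eU11, eL00, eL01, eL10, eL11]
  · ring
  · linear_combination h
  · linear_combination -h
  · linear_combination v * h

/-- If every `u(x)` is in `H` and one `l(t)` with `t` invertible, so is every `l(x)`. -/
theorem eL_mem_of_eU {H : Subgroup SL(2, R)} (hU : ∀ x, eU x ∈ H) {t : R} (ht : IsUnit t)
    (hL : eL t ∈ H) (x : R) : eL x ∈ H := by
  obtain ⟨s, hs⟩ := ht.exists_right_inv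
  set n : SL(2, R) := eU (-s) * eL t * eU (-s) with hn
  have hnH : n ∈ H := mul_mem (mul_mem (hU _) hL) (hU _)
  have h00 : n 0 0 = 0 := by
    simp only [hn, mulE, eU00, eU01, eU10, eL00, eL10, eL01, eL11]
    linear_combination -hs
  have h10 : n 1 0 = t := by
    simp [hn, mulE]
  rw [show x = -(n 1 0 ^ 2 * -(s ^ 2 * x)) by
    rw [h10]; linear_combination (-(x * (t * s + 1))) * hs,
    ← conj_eU_of_swap n h00]
  exact mul_mem (mul_mem hnH (hU _)) (inv_mem hnH)

/-- Conjugating an upper triangular set of facts: a general element conjugates `u(y)`. -/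
theorem conj_eU_entries (g : SL(2, R)) (y : R) :
    (g * eU y * g⁻¹) 0 0 = 1 - g 0 0 * g 1 0 * y ∧ (g * eU y * g⁻¹) 0 1 = g 0 0 ^ 2 * y ∧
      (g * eU y * g⁻¹) 1 0 = -(g 1 0 ^ 2 * y) ∧
      (g * eU y * g⁻¹) 1 1 = 1 + g 0 0 * g 1 0 * y := by
  have hd := detE g
  simp only [mulE, invE00, invE01, invE10, invE11, eU00, eU01, eU10, eU11]
  refine ⟨?_, ?_, ?_, ?_⟩
  · linear_combination hd
  · ring
  · ring
  · linear_combination hd

end elementary

section twist

variable {F : Type*} [Field F]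

/-- Conjugation by `diag(1, b)` as a map. -/
def twistFun (b : F) (hb : b ≠ 0) (g : SL(2, F)) : SL(2, F) :=
  ⟨!![g 0 0, g 0 1 / b; b * g 1 0, g 1 1], by
    rw [Matrix.det_fin_two_of]
    have hd := detE g
    field_simp
    linear_combination hd⟩

@[simp] theorem twistFun00 (b : F) (hb : b ≠ 0) (g : SL(2, F)) :
    twistFun b hb g 0 0 = g 0 0 := rfl
@[simp] theorem twistFun01 (b : F) (hb : b ≠ 0) (g : SL(2, F)) :
    twistFun b hb g 0 1 = g 0 1 / b := rfl
@[simp] theorem twistFun10 (b : F) (hb : b ≠ 0) (g : SL(2, F)) :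
    twistFun b hb g 1 0 = b * g 1 0 := rfl
@[simp] theorem twistFun11 (b : F) (hb : b ≠ 0) (g : SL(2, F)) :
    twistFun b hb g 1 1 = g 1 1 := rfl

/-- Conjugation by `diag(1, b)`. -/
def twistHom (b : F) (hb : b ≠ 0) : SL(2, F) →* SL(2, F) where
  toFun := twistFun b hb
  map_one' := by apply ext22 <;> simp
  map_mul' g h := by
    apply ext22 <;> simp only [twistFun00, twistFun01, twistFun10, twistFun11, mulE] <;>
      field_simp

theorem twistHom_eU (b : F) (hb : b ≠ 0) (z : F) : twistHom b hb (eU z) = eU (z / b) := by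
  apply ext22 <;> simp [twistHom]

theorem twistHom_eL (b : F) (hb : b ≠ 0) (z : F) : twistHom b hb (eL z) = eL (b * z) := by
  apply ext22 <;> simp [twistHom]

end twist

section finite

variable {k : Type*} [Field k] {R : Type*} [CommRing R] [Algebra k R]

theorem exists_idempotent_pow [Finite R] (x : R) :
    ∃ n, 0 < n ∧ IsIdempotentElem (x ^ n) := by
  obtain ⟨i, j, hne, hij⟩ := Finite.exists_ne_map_eq_of_infinite fun n : ℕ => x ^ n
  wlog hlt : i < j generalizing i j
  · exact this j i hne.symm hij.symm (by omega)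
  obtain ⟨d, hd, rfl⟩ : ∃ d, 0 < d ∧ j = i + d := ⟨j - i, by omega, by omega⟩
  have hstep : ∀ l m, i ≤ m → x ^ (m + l * d) = x ^ m := by
    intro l
    induction l with
    | zero => intro m _; rw [zero_mul, add_zero]
    | succ l ih =>
      intro m hm
      rw [Nat.succ_mul, ← add_assoc, pow_add, ih m hm, ← pow_add,
        show m + d = m - i + (i + d) by omega, pow_add, ← hij, ← pow_add,
        show m - i + i = m by omega]
  refine ⟨(i + 1) * d, by positivity, ?_⟩
  have hle : i ≤ (i + 1) * d := (Nat.le_succ i).trans (Nat.le_mul_of_pos_right _ hd)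
  rw [IsIdempotentElem, ← pow_add, hstep (i + 1) _ hle]

variable [Finite R] (hk2 : (2 : k) ≠ 0) (hk3 : ∃ t : k, t ≠ 0 ∧ t * t ≠ 1) {p : ℕ}
  [Fact p.Prime] [CharP R p] (hp : p ≠ 2)

include hk2 hk3 hp

/-- An additive subgroup stable under multiplication by unit squares is an ideal. -/
theorem mul_mem_of_sq {B : AddSubgroup R} (h : ∀ u : R, IsUnit u → ∀ b ∈ B, u * u * b ∈ B)
    (r : R) {b : R} (hb : b ∈ B) : r * b ∈ B := by
  suffices hS : ∀ r : R, ∀ b ∈ B, r * b ∈ B from hS r b hb
  let S : AddSubgroup R :=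
    { carrier := {r | ∀ b ∈ B, r * b ∈ B}
      zero_mem' := fun b _ => by rw [zero_mul]; exact B.zero_mem
      add_mem' := fun hr hs b hb => by rw [add_mul]; exact B.add_mem (hr b hb) (hs b hb)
      neg_mem' := fun hr b hb => by rw [neg_mul]; exact B.neg_mem (hr b hb) }
  have hmul : ∀ {r s}, r ∈ S → s ∈ S → r * s ∈ S := fun {r s} hr hs b hb => by
    rw [mul_assoc]; exact hr _ (hs b hb)
  have hsq : ∀ u, IsUnit u → u * u ∈ S := fun u hu b hb => h u hu b hb
  have hhalf : ∀ {r : R}, 2 * r ∈ S → r ∈ S := by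
    intro r hr
    obtain ⟨j, hj⟩ := (Fact.out : p.Prime).odd_of_ne_two hp
    have h' := S.nsmul_mem hr (j + 1)
    have hz : ((2 * j + 1 : ℕ) : R) = 0 := by rw [← hj, CharP.cast_eq_zero]
    push_cast at hz
    rwa [nsmul_eq_mul, show ((j + 1 : ℕ) : R) * (2 * r) = r by
      push_cast; linear_combination r * hz] at h'
  have h1 : (1 : R) ∈ S := fun b hb => by rwa [one_mul]
  have hk : ∀ c : k, algebraMap k R c ∈ S := by
    intro c
    have hk2' : ∀ c : k, algebraMap k R c * algebraMap k R c ∈ S := fun c => by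
      rcases eq_or_ne c 0 with rfl | hc
      · rw [map_zero, zero_mul]; exact S.zero_mem
      · exact hsq _ ((IsUnit.mk0 c hc).map (algebraMap k R))
    refine hhalf ?_
    have := S.sub_mem (S.sub_mem (hk2' (c + 1)) (hk2' c)) h1
    rwa [map_add, map_one, show ∀ z : R, (z + 1) * (z + 1) - z * z - 1 = 2 * z by intro z; ring]
      at this
  have hnil : ∀ n : R, IsNilpotent n → n ∈ S := by
    intro n hn
    refine hhalf (hhalf ?_)
    have := S.sub_mem (hsq _ hn.isUnit_one_add) (hsq _ hn.isUnit_one_sub)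
    rwa [show (1 + n) * (1 + n) - (1 - n) * (1 - n) = 2 * (2 * n) by ring] at this
  obtain ⟨t, ht0, ht1⟩ := hk3
  have hidem : ∀ e : R, IsIdempotentElem e → e ∈ S := by
    intro e he
    rw [IsIdempotentElem] at he
    set a := algebraMap k R t
    set b := algebraMap k R t⁻¹
    have hab : a * b = 1 := by rw [← map_mul, mul_inv_cancel₀ ht0, map_one]
    have hu : IsUnit (1 + (a - 1) * e) := .of_mul_eq_one (1 + (b - 1) * e) (by
      linear_combination e * hab + ((a - 1) * (b - 1)) * he)
    have h2 := hmul (hk (t * t - 1)⁻¹) (S.sub_mem (hsq _ hu) h1)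
    have hc : algebraMap k R (t * t - 1)⁻¹ * (a * a - 1) = 1 := by
      rw [← map_mul, ← map_one (algebraMap k R), ← map_sub, ← map_mul,
        inv_mul_cancel₀ (sub_ne_zero.2 ht1)]
    rwa [show algebraMap k R (t * t - 1)⁻¹ * ((1 + (a - 1) * e) * (1 + (a - 1) * e) - 1) = e by
      linear_combination (algebraMap k R (t * t - 1)⁻¹ * (a - 1) ^ 2) * he + e * hc] at h2
  have hall : ∀ x : R, x * x ∈ S := by
    intro x
    obtain ⟨n, hn, he⟩ := exists_idempotent_pow x
    rw [IsIdempotentElem] at he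
    have hxn : x * x ^ (n - 1) = x ^ n := by rw [← pow_succ']; congr 1; omega
    have hu : IsUnit (x * x ^ n + (1 - x ^ n)) := .of_mul_eq_one (x ^ (n - 1) * x ^ n + (1 - x ^ n))
      (by linear_combination (x ^ n * x ^ n) * hxn +
        (x ^ n - x - x ^ (n - 1) + 2) * he)
    have hnl : IsNilpotent (x * x * (1 - x ^ n)) := by
      refine ⟨n, ?_⟩
      rw [mul_pow, mul_pow]
      have h0 : (1 - x ^ n) ^ n = 1 - x ^ n :=
        (IsIdempotentElem.one_sub (show IsIdempotentElem (x ^ n) from he)).pow_eq hn.ne'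
      rw [h0]
      linear_combination -(x ^ n) * he
    have := S.add_mem (S.sub_mem (hsq _ hu) (S.sub_mem h1 (hidem _ he))) (hnil _ hnl)
    rwa [show (x * x ^ n + (1 - x ^ n)) * (x * x ^ n + (1 - x ^ n)) - (1 - x ^ n) +
      x * x * (1 - x ^ n) = x * x by linear_combination (x - 1) ^ 2 * he] at this
  intro r b hb
  refine hhalf ?_ b hb
  have := S.sub_mem (S.sub_mem (hall (r + 1)) (hall r)) h1
  rwa [show (r + 1) * (r + 1) - r * r - 1 = 2 * r by ring] at this

omit hk2 hk3

/-- Elements `u(a)`, `l(b)` in `H` give `SL(2, 𝔽_p(ab))` in twisted coordinates. -/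
theorem field_pair {F : Type*} [Field F] [Finite F] [CharP F p] {H : Subgroup SL(2, F)} {a b : F}
    (ha0 : a ≠ 0) (hb0 : b ≠ 0) (ha : eU a ∈ H) (hb : eL b ∈ H) (hne : (a * b) ^ 2 ≠ -1) (x : F)
    (hx : x ∈ Subfield.closure ({a * b} : Set F)) : eU (x / b) ∈ H ∧ eL (b * x) ∈ H := by
  set K := Subfield.closure ({a * b} : Set F) with hK
  have := Fintype.ofFinite K
  have : CharP K p := (RingHom.charP_iff_charP K.subtype p).2 inferInstance
  set mu : K := ⟨a * b, Subfield.subset_closure rfl⟩
  have hmu : mu ≠ 0 := fun h => mul_ne_zero ha0 hb0 (congrArg Subtype.val h)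
  have hgen : Subfield.closure ({mu} : Set K) = ⊤ := by
    have hmap : (Subfield.closure ({mu} : Set K)).map K.subtype = K := by
      rw [RingHom.map_field_closure, Set.image_singleton]
      exact hK.symm
    rw [eq_top_iff]
    intro z _
    have hz : (z : F) ∈ (Subfield.closure ({mu} : Set K)).map K.subtype := hmap.symm ▸ z.2
    obtain ⟨w, hw, hwz⟩ := Subfield.mem_map.1 hz
    rwa [Subtype.ext hwz] at hw
  let Phi := twistHom b hb0
  have hPU : ∀ z : F, Phi (eU z) = eU (z / b) := twistHom_eU b hb0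
  have hPL : ∀ z : F, Phi (eL z) = eL (b * z) := twistHom_eL b hb0
  set psi := Phi.comp (Matrix.SpecialLinearGroup.map (n := Fin 2) K.subtype)
  have hle : (⊤ : Subgroup SL(2, K)) ≤ H.comap psi := by
    rcases PSL2.lowerUpper_cases p hp mu hmu hgen with h | ⟨-, h⟩
    · rw [← h, Subgroup.closure_le]
      have e1 : (PSL2.ll 1 : SL(2, K)) = eL 1 := rfl
      have e2 : (PSL2.uu mu : SL(2, K)) = eU mu := rfl
      rintro _ (rfl | rfl) <;> show Phi _ ∈ H
      · rw [e1, map_eL, map_one, hPL, mul_one]; exact hb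
      · rw [e2, map_eU, hPU]
        show eU (a * b / b) ∈ H
        rwa [mul_div_cancel_right₀ _ hb0]
    · exact absurd (congrArg Subtype.val h) hne
  constructor
  · have := hle (Subgroup.mem_top (eU (⟨x, hx⟩ : K)))
    rw [Subgroup.mem_comap, MonoidHom.comp_apply, map_eU, hPU] at this
    exact this
  · have := hle (Subgroup.mem_top (eL (⟨x, hx⟩ : K)))
    rw [Subgroup.mem_comap, MonoidHom.comp_apply, map_eL, hPL] at this
    exact this

include hk2 hk3

theorem field_case {F : Type*} [Field F] [Finite F] [Algebra k F] [CharP F p] (lam : F)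
    (hlam : lam ≠ 0) (hgen : Algebra.adjoin k ({lam} : Set F) = ⊤) (x : F) :
    eU x ∈ gen k lam := by
  set H := gen k lam
  obtain ⟨t, ht0, ht1⟩ := hk3
  obtain ⟨d, hd0, hd⟩ : ∃ d : k, d ≠ 0 ∧ (algebraMap k F d * lam) ^ 2 ≠ -1 := by
    by_cases h : lam ^ 2 = -1
    · refine ⟨t, ht0, fun h' => ht1 ?_⟩
      apply (algebraMap k F).injective
      rw [mul_pow, h] at h'
      rw [map_mul, map_one]
      linear_combination -h'
    · exact ⟨1, one_ne_zero, by rwa [map_one, one_mul]⟩
  set b := algebraMap k F d * lam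
  have hb0 : b ≠ 0 := mul_ne_zero ((map_ne_zero _).2 hd0) hlam
  have h1 : eU (1 : F) ∈ H := by
    have := eU_mem_gen (k := k) lam 1
    rwa [map_one] at this
  have hpair := field_pair hp one_ne_zero hb0 h1 (eL_mem_gen lam d) (by rwa [one_mul])
  have hbK : b ∈ Subfield.closure ({1 * b} : Set F) := by
    rw [one_mul]; exact Subfield.subset_closure rfl
  have hL1 : eL (1 : F) ∈ H := by
    have := (hpair b⁻¹ (inv_mem hbK)).2
    rwa [mul_inv_cancel₀ hb0] at this
  have hbA : eU b ∈ H := by
    have := (hpair (b * b) (mul_mem hbK hbK)).1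
    rwa [mul_div_cancel_right₀ _ hb0] at this
  let A : AddSubgroup F :=
    { carrier := {z | eU z ∈ H}
      zero_mem' := show eU 0 ∈ H by rw [eU_zero]; exact one_mem _
      add_mem' := fun {z w} hz hw => show eU (z + w) ∈ H by rw [← eU_mul]; exact mul_mem hz hw
      neg_mem' := fun {z} hz => show eU (-z) ∈ H by rw [← eU_inv]; exact inv_mem hz }
  have hsq : ∀ z ∈ A, z * z ∈ A := by
    intro z hz
    rcases eq_or_ne z 0 with rfl | hz0
    · rw [mul_zero]; exact A.zero_mem
    by_cases hz2 : z ^ 2 = -1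
    · rw [← pow_two, hz2]; exact A.neg_mem h1
    · have hzK : z ∈ Subfield.closure ({z * 1} : Set F) := by
        rw [mul_one]; exact Subfield.subset_closure rfl
      have := (field_pair hp hz0 one_ne_zero hz hL1 (by rwa [mul_one]) (z * z)
        (mul_mem hzK hzK)).1
      rwa [div_one] at this
  have hmul : ∀ z ∈ A, ∀ w ∈ A, z * w ∈ A := by
    intro z hz w hw
    have h := A.sub_mem (A.sub_mem (hsq _ (A.add_mem hz hw)) (hsq _ hz)) (hsq _ hw)
    rw [show (z + w) * (z + w) - z * z - w * w = 2 * (z * w) by ring] at h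
    obtain ⟨j, hj⟩ := (Fact.out : p.Prime).odd_of_ne_two hp
    have h' := A.nsmul_mem h (j + 1)
    have hz' : ((2 * j + 1 : ℕ) : F) = 0 := by rw [← hj, CharP.cast_eq_zero]
    push_cast at hz'
    rwa [nsmul_eq_mul, show ((j + 1 : ℕ) : F) * (2 * (z * w)) = z * w by
      push_cast; linear_combination (z * w) * hz'] at h'
  let Sa : Subalgebra k F :=
    { carrier := A
      mul_mem' := fun {z w} hz hw => hmul z hz w hw
      one_mem' := h1
      add_mem' := A.add_mem
      zero_mem' := A.zero_mem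
      algebraMap_mem' := eU_mem_gen lam }
  have hlamA : lam ∈ Sa := by
    have := Sa.smul_mem (show b ∈ Sa from hbA) d⁻¹
    rwa [Algebra.smul_def, ← mul_assoc, ← map_mul, inv_mul_cancel₀ hd0, map_one, one_mul] at this
  have htop : (⊤ : Subalgebra k F) ≤ Sa := by
    rw [← hgen]
    exact Algebra.adjoin_le (Set.singleton_subset_iff.2 hlamA)
  exact htop (show x ∈ (⊤ : Subalgebra k F) from Algebra.mem_top)

end finite

end Cfsg.Agent.QuadPair.SL2Gen
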